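import Cfsg.Agent.Classical.OrthEichler
import Cfsg.Agent.Classical.OrthMat
import Cfsg.Agent.ClassicalMax.Subfield.RootOrth

/-!
Totally singular planes whose long root groups lie in a subgroup `H` of an orthogonal group: the commutator rule,
singular vectors separating a small subspace, and the criterion `eo Q ≤ H`.
-/

set_option autoImplicit false
set_option linter.unusedSectionVars false
set_option linter.style.haveILetI false

namespace Cfsg.Agent.ClassicalMax.RootPlanes

open Module QuadraticMap Cfsg.Agent.Classical Cfsg.Agent.Classical.Quad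

section Planes

variable {F V : Type*} [Field F] [AddCommGroup V] [Module F V] {Q : QuadraticForm F V} {H : Subgroup (oG Q)}

/-- the root group of the totally singular pair `u, v` lies in `H` -/
def Pl (H : Subgroup (oG Q)) (u v : V) : Prop :=
  Q u = 0 ∧ Q v = 0 ∧ polar Q u v = 0 ∧ ∀ (l : F) (hu : Q u = 0) (h : polar Q u (l • v) = 0), sO hu h ∈ H

theorem Pl.refl {u : V} (hu : Q u = 0) : Pl H u u :=
  ⟨hu, hu, by rw [polar_self', hu, mul_zero], fun l hu' h => (sO_smul_self hu' l h) ▸ one_mem H⟩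

theorem Pl.symm {u v : V} (h : Pl H u v) : Pl H v u := by
  obtain ⟨hu, hv, huv, hm⟩ := h
  refine ⟨hv, hu, by rw [polar_comm, huv], fun l hv' h' => ?_⟩
  have e : sO hv' h' = sO hu (polar_perp_smul huv (-l)) := ext_oG fun x => by
    simp only [sO_apply, polar_smul_right, smul_eq_mul, map_smul', hu, hv]
    module
  exact e ▸ hm (-l) hu _

theorem Pl.smul_right {u v : V} (h : Pl H u v) (c : F) : Pl H u (c • v) := by
  obtain ⟨hu, hv, huv, hm⟩ := h
  exact ⟨hu, by rw [map_smul', hv, mul_zero], polar_perp_smul huv c, fun l hu' h' =>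
    (sO_congr hu' h' (polar_perp_smul huv (l * c)) (smul_smul l c v)) ▸ hm _ hu' _⟩

theorem Pl.smul_left {u v : V} (h : Pl H u v) (c : F) : Pl H (c • u) v := (h.symm.smul_right c).symm

theorem Pl.add_right {u v w : V} (h : Pl H u v) (h' : Pl H u w) (hvw : polar Q v w = 0) : Pl H u (v + w) := by
  obtain ⟨hu, hv, huv, hm⟩ := h
  obtain ⟨-, hw, huw, hm'⟩ := h'
  refine ⟨hu, by rw [map_add', hv, hw, hvw]; ring, polar_perp_add huv huw, fun l hu' h' => ?_⟩
  rw [sO_congr hu' h' (polar_perp_add (polar_perp_smul huv l) (polar_perp_smul huw l)) (smul_add l v w),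
    ← sO_mul hu' (polar_perp_smul huv l) (polar_perp_smul huw l)]
  exact mul_mem (hm l hu' _) (hm' l hu' _)

theorem Pl.conj {u v : V} (h : Pl H u v) {g : oG Q} (hg : g ∈ H) : Pl H (g.1 u) (g.1 v) := by
  obtain ⟨hu, hv, huv, hm⟩ := h
  refine ⟨by rw [g.2, hu], by rw [g.2, hv], by rw [polar_oG, huv], fun l hu' h' => ?_⟩
  have h1 := mul_mem (mul_mem hg (hm l hu (polar_perp_smul huv l))) (inv_mem hg)
  rw [conj_sO] at h1
  exact (sO_congr hu' _ h' (map_smul g.1 l v)) ▸ h1

theorem Pl.span {u v : V} (h : Pl H u v) {x y : V} (hx : x ∈ Submodule.span F ({u, v} : Set V))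
    (hy : y ∈ Submodule.span F ({u, v} : Set V)) : Pl H x y := by
  obtain ⟨a, b, rfl⟩ := Submodule.mem_span_pair.1 hy
  have hu := Pl.refl (H := H) h.1
  have hv := Pl.refl (H := H) h.2.1
  have huy : Pl H u (a • u + b • v) := (hu.smul_right a).add_right (h.smul_right b)
    (by rw [polar_smul_left, polar_smul_right, h.2.2.1, smul_zero, smul_zero])
  have hvy : Pl H v (a • u + b • v) := (h.symm.smul_right a).add_right (hv.smul_right b)
    (by rw [polar_smul_left, polar_smul_right, h.2.2.1, smul_zero, smul_zero])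
  obtain ⟨c, d, rfl⟩ := Submodule.mem_span_pair.1 hx
  exact ((huy.symm.smul_right c).add_right (hvy.symm.smul_right d)
    (by rw [polar_smul_left, polar_smul_right, h.2.2.1, smul_zero, smul_zero])).symm

/-- the commutator rule -/
theorem Pl.rule {a b c d : V} (h : Pl H a b) (h' : Pl H c d) (hac : polar Q a c = 0) (had : polar Q a d = 0)
    (hbd : polar Q b d = 0) (hbc : polar Q b c ≠ 0) : Pl H a d := by
  obtain ⟨ha, hb, hab, hm⟩ := h
  have hh := polar_perp_smul hab (polar Q b c)⁻¹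
  have hg := hm _ ha hh
  have e1 : (sO ha hh).1 c = c + a := by
    rw [sO_apply, polar_smul_right, polar_comm Q c b, polar_comm Q c a, hac, smul_eq_mul, inv_mul_cancel₀ hbc]
    simp
  have e2 : (sO ha hh).1 d = d := by
    rw [sO_apply, polar_smul_right, polar_comm Q d b, polar_comm Q d a, had, hbd]
    simp
  have h1 := h'.conj hg
  rw [e1, e2] at h1
  have hcc : polar Q (c + a) ((-1 : F) • c) = 0 := by
    rw [polar_smul_right, polar_add_left, polar_self', h'.1, hac]
    simp
  have h2 := h1.symm.add_right (h'.symm.smul_right (-1)) hcc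
  rw [show c + a + (-1 : F) • c = a by module] at h2
  exact h2.symm

/-- the vectors `w` with all Siegel transformations `(e, a • w)` in `H` -/
def tS (H : Subgroup (oG Q)) {e : V} (he : Q e = 0) : Submodule F V where
  carrier := {w | polar Q e w = 0 ∧ ∀ (a : F) (h : polar Q e (a • w) = 0), sO he h ∈ H}
  zero_mem' := ⟨by simp [polar], fun a h => by
    rw [sO_congr he h (by simp [polar]) (smul_zero a), sO_zero]
    exact one_mem H⟩
  add_mem' := fun {v w} h1 h2 => ⟨polar_perp_add h1.1 h2.1, fun a h => by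
    rw [sO_congr he h (polar_perp_add (polar_perp_smul h1.1 a) (polar_perp_smul h2.1 a)) (smul_add a v w),
      ← sO_mul he (polar_perp_smul h1.1 a) (polar_perp_smul h2.1 a)]
    exact mul_mem (h1.2 a _) (h2.2 a _)⟩
  smul_mem' := fun c w h1 => ⟨polar_perp_smul h1.1 c, fun a h => by
    rw [sO_congr he h (polar_perp_smul h1.1 (a * c)) (smul_smul a c w)]
    exact h1.2 _ _⟩

theorem mem_tS {e w : V} {he : Q e = 0} (h : Pl H e w) : w ∈ tS H he := ⟨h.2.2.1, fun a h' => h.2.2.2 a he h'⟩

/-- every Siegel transformation with centre `e` lies in `H` -/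
def Full (H : Subgroup (oG Q)) (e : V) : Prop :=
  ∃ he : Q e = 0, ∀ (w : V) (h : polar Q e w = 0), sO he h ∈ H

theorem full_of_tS {e : V} (he : Q e = 0) (h : ∀ w, polar Q e w = 0 → w ∈ tS H he) : Full H e :=
  ⟨he, fun w hw => by
    have := (h w hw).2 1 (by rw [one_smul, hw])
    rwa [sO_congr he _ hw (one_smul F w)] at this⟩

theorem Full.smul {e : V} (h : Full H e) (c : F) : Full H (c • e) := by
  obtain ⟨he, hm⟩ := h
  refine ⟨by rw [map_smul', he, mul_zero], fun w hw => ?_⟩
  rcases eq_or_ne c 0 with rfl | hc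
  · have : ∀ (p : V) (hp : Q p = 0) (h' : polar Q p w = 0), p = 0 → sO hp h' ∈ H := fun p hp h' e' => by
      have e1 : sO hp h' = 1 := ext_oG fun x => by rw [sO_apply, oG_one_apply, e']; simp [polar]
      exact e1 ▸ one_mem _
    exact this _ _ hw (zero_smul F e)
  have hw' : polar Q e w = 0 := by
    rw [polar_smul_left, smul_eq_mul] at hw
    exact (mul_eq_zero.1 hw).resolve_left hc
  rw [sO_smul_left he hw' c]
  exact hm _ _

theorem Full.conj {e : V} (h : Full H e) {g : oG Q} (hg : g ∈ H) : Full H (g.1 e) := by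
  obtain ⟨he, hm⟩ := h
  refine ⟨by rw [g.2, he], fun w hw => ?_⟩
  have hw' : polar Q e (g⁻¹.1 w) = 0 := by rw [← polar_oG g, oG_apply_inv, hw]
  have h1 := mul_mem (mul_mem hg (hm _ hw')) (inv_mem hg)
  rw [conj_sO] at h1
  exact (sO_congr _ _ hw (oG_apply_inv g w)) ▸ h1

theorem full_move {z e p : V} (hz : Full H z) (he : Full H e) (hze : polar Q z e ≠ 0) (hp : Q p = 0)
    (hzp : polar Q z p ≠ 0) : Full H p := by
  obtain ⟨hz0, hm⟩ := hz
  have he' := he.smul (polar Q z e)⁻¹
  obtain ⟨h, -, hmv⟩ := sO_partner (Q := Q) (e := z) (f := (polar Q z e)⁻¹ • e) (f' := (polar Q z p)⁻¹ • p) hz0 he'.1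
    (by rw [polar_smul_right, smul_eq_mul, inv_mul_cancel₀ hze]) (by rw [map_smul', hp, mul_zero])
    (by rw [polar_smul_right, smul_eq_mul, inv_mul_cancel₀ hzp])
  have := (he'.conj (hm _ h)).smul (polar Q z p)
  rwa [hmv, smul_inv_smul₀ hzp] at this

theorem eo_le [FiniteDimensional F V] [Finite F] (hQ : (polarBilin Q).Nondegenerate) (hn : 3 ≤ finrank F V) {e f : V}
    (he : Full H e) (hf : Full H f) (hef : polar Q e f ≠ 0) : eo Q ≤ H := by
  refine (Subgroup.closure_le _).2 ?_
  rintro _ ⟨p, w, hp, hpw, rfl⟩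
  rcases eq_or_ne p 0 with rfl | hp0
  · have e1 : sO hp hpw = 1 := ext_oG fun x => by rw [sO_apply, oG_one_apply]; simp [polar]
    exact e1 ▸ one_mem _
  obtain ⟨z, hz, hze, hzp⟩ := exists_common hQ hn (e := e) (fun h => hef (by rw [h]; simp [polar])) he.1 hp0 hp
  obtain ⟨_, hm⟩ := full_move (full_move he hf hef hz (by rwa [polar_comm] at hze)) he hze hp hzp
  exact hm w hpw

end Planes

section Sep

variable {F V : Type*} [Field F] [Finite F] [AddCommGroup V] [Module F V] [FiniteDimensional F V] {Q : QuadraticForm F V}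

theorem finrank_perp_ge (U : Submodule F V) :
    finrank F V ≤ finrank F (LinearMap.ker ((LinearMap.lcomp F F U.subtype).comp (polarBilin Q))) + finrank F U := by
  set L := (LinearMap.lcomp F F U.subtype).comp (polarBilin Q)
  have h4 := LinearMap.finrank_range_add_finrank_ker L
  have h5 := Submodule.finrank_le (LinearMap.range L)
  rw [Subspace.dual_finrank_eq] at h5
  omega

theorem exists_sing_perp (U : Submodule F V) (hd : 2 * finrank F U + 3 ≤ finrank F V) :
    ∃ z, Q z = 0 ∧ z ∉ U ∧ ∀ u ∈ U, polar Q u z = 0 := by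
  set X := LinearMap.ker ((LinearMap.lcomp F F U.subtype).comp (polarBilin Q))
  obtain ⟨U', hU'⟩ := U.exists_isCompl
  have hd' : 3 ≤ finrank F ↥(U' ⊓ X) := by
    have h1 := Submodule.finrank_sup_add_finrank_inf_eq U' X
    have h2 := Submodule.finrank_le (U' ⊔ X)
    have h3 := Submodule.finrank_add_eq_of_isCompl hU'
    have h4 : finrank F V ≤ finrank F X + finrank F U := finrank_perp_ge U
    omega
  obtain ⟨z, hz0, hz⟩ := exists_singular (Q.comp (U' ⊓ X).subtype) hd'
  refine ⟨z, hz, fun h => hz0 (Subtype.ext ((Submodule.disjoint_def.1 hU'.disjoint) _ h z.2.1)), fun u hu => ?_⟩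
  rw [polar_comm]
  exact LinearMap.congr_fun (LinearMap.mem_ker.1 z.2.2) ⟨u, hu⟩

theorem exists_sing_sep (hQ : (polarBilin Q).Nondegenerate) (U : Submodule F V) (hd : 2 * finrank F U + 3 ≤ finrank F V)
    {x : V} (hx : x ∉ U) : ∃ c, Q c = 0 ∧ (∀ u ∈ U, polar Q u c = 0) ∧ polar Q x c = 1 := by
  obtain ⟨z, hz, hzU, hUz⟩ := exists_sing_perp (Q := Q) U hd
  obtain ⟨f', hf', hzf'⟩ := exists_perp hQ hzU
  set f := f' + (-Q f') • z with hfd
  have hf : Q f = 0 := by rw [hfd, map_add_smul, hz, polar_comm Q f' z, hzf']; ring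
  have hUf : ∀ u ∈ U, polar Q u f = 0 := fun u hu => by
    rw [hfd, polar_add_right, polar_smul_right, hf' u hu, hUz u hu, smul_zero, add_zero]
  have hzf : polar Q z f = 1 := by
    rw [hfd, polar_add_right, polar_smul_right, hzf', polar_self', hz]
    simp
  by_cases h1 : polar Q x z ≠ 0
  · exact ⟨(polar Q x z)⁻¹ • z, by rw [map_smul', hz, mul_zero],
      fun u hu => by rw [polar_smul_right, hUz u hu, smul_zero],
      by rw [polar_smul_right, smul_eq_mul, inv_mul_cancel₀ h1]⟩
  by_cases h2 : polar Q x f ≠ 0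
  · exact ⟨(polar Q x f)⁻¹ • f, by rw [map_smul', hf, mul_zero],
      fun u hu => by rw [polar_smul_right, hUf u hu, smul_zero],
      by rw [polar_smul_right, smul_eq_mul, inv_mul_cancel₀ h2]⟩
  push Not at h1 h2
  obtain ⟨w, hw, hxw⟩ := exists_perp hQ hx
  set w' := w + (-polar Q w f) • z + (-polar Q w z) • f with hw'
  have hwz : polar Q w' z = 0 := by
    rw [hw', polar_add_left, polar_add_left, polar_smul_left, polar_smul_left, polar_self', hz, polar_comm Q f z, hzf]
    simp
  have hwf : polar Q w' f = 0 := by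
    rw [hw', polar_add_left, polar_add_left, polar_smul_left, polar_smul_left, polar_self', hf, hzf]
    simp
  refine ⟨w' + z + (-Q w') • f, ?_, fun u hu => ?_, ?_⟩
  · rw [map_add', map_add', map_smul', hz, hf, hwz, polar_add_left, polar_smul_right, polar_smul_right, hwf, hzf]
    simp
  · rw [hw']
    simp only [polar_add_right, polar_smul_right, hw u hu, hUz u hu, hUf u hu, smul_zero, add_zero]
  · rw [hw']
    simp only [polar_add_right, polar_smul_right, hxw, h1, h2, smul_zero, add_zero]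

variable (Q)

/-- the restriction of `Q` to `A` is non-degenerate -/
def NdOn (A : Submodule F V) : Prop := ∀ x ∈ A, (∀ y ∈ A, polar Q x y = 0) → x = 0

variable {Q}

theorem NdOn.comp {A : Submodule F V} (h : NdOn Q A) : (polarBilin (Q.comp A.subtype)).Nondegenerate :=
  nondeg_of fun x hx => Subtype.ext (h x x.2 fun y hy => hx ⟨y, hy⟩)

theorem finrank_comap_pair_le {A : Submodule F V} (a b : A) :
    finrank F (Submodule.span F ({a, b} : Set A)) ≤ 2 := by
  classical
  have := finrank_span_le_card (R := F) ({a, b} : Set A)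
  rw [Set.toFinset_insert, Set.toFinset_singleton] at this
  exact this.trans Finset.card_le_two

/-- in a non-degenerate subspace of dimension at least 7 -/
theorem sep2 {A : Submodule F V} (h : NdOn Q A) (hd : 7 ≤ finrank F A) {a b x : V} (ha : a ∈ A) (hb : b ∈ A)
    (hx : x ∈ A) (hind : x ∉ Submodule.span F ({a, b} : Set V)) :
    ∃ c ∈ A, Q c = 0 ∧ polar Q a c = 0 ∧ polar Q b c = 0 ∧ polar Q x c = 1 := by
  have hle := finrank_comap_pair_le (⟨a, ha⟩ : A) ⟨b, hb⟩
  obtain ⟨c, hc, hcU, hxc⟩ := exists_sing_sep h.comp (Submodule.span F ({⟨a, ha⟩, ⟨b, hb⟩} : Set A)) (by omega)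
    (x := ⟨x, hx⟩) (fun hm => hind (by
      obtain ⟨s, t, e⟩ := Submodule.mem_span_pair.1 hm
      exact Submodule.mem_span_pair.2 ⟨s, t, congrArg Subtype.val e⟩))
  exact ⟨c, c.2, hc, hcU ⟨a, ha⟩ (Submodule.subset_span (Or.inl rfl)), hcU ⟨b, hb⟩ (Submodule.subset_span (Or.inr rfl)), hxc⟩

theorem perp2 {A : Submodule F V} (hd : 7 ≤ finrank F A) {a b : V} (ha : a ∈ A) (hb : b ∈ A) :
    ∃ c ∈ A, Q c = 0 ∧ c ∉ Submodule.span F ({a, b} : Set V) ∧ polar Q a c = 0 ∧ polar Q b c = 0 := by
  have hle := finrank_comap_pair_le (⟨a, ha⟩ : A) ⟨b, hb⟩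
  obtain ⟨c, hc, hcn, hcU⟩ := exists_sing_perp (Q := Q.comp A.subtype)
    (Submodule.span F ({⟨a, ha⟩, ⟨b, hb⟩} : Set A)) (by omega)
  refine ⟨c, c.2, hc, fun hm => hcn ?_, hcU ⟨a, ha⟩ (Submodule.subset_span (Or.inl rfl)),
    hcU ⟨b, hb⟩ (Submodule.subset_span (Or.inr rfl))⟩
  obtain ⟨s, t, e⟩ := Submodule.mem_span_pair.1 hm
  exact Submodule.mem_span_pair.2 ⟨s, t, Subtype.ext e⟩

/-- singular vectors of `A` orthogonal to `a` span the vectors of `A` orthogonal to `a` -/
theorem perp_le {A : Submodule F V} (h : NdOn Q A) (hd : 7 ≤ finrank F A) {a : V} (ha : a ∈ A) (has : Q a = 0)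
    (S : Submodule F V) (hS : ∀ z ∈ A, Q z = 0 → polar Q a z = 0 → z ∈ S) {w : V} (hw : w ∈ A)
    (haw : polar Q a w = 0) : w ∈ S := by
  by_cases hm : w ∈ Submodule.span F ({a, a} : Set V)
  · obtain ⟨s, t, rfl⟩ := Submodule.mem_span_pair.1 hm
    have := hS a ha has (by rw [polar_self', has, mul_zero])
    exact S.add_mem (S.smul_mem s this) (S.smul_mem t this)
  obtain ⟨c, hcA, hc, hac, -, hwc⟩ := sep2 h hd ha ha hw hm
  have h1 := hS (w + (-Q w) • c) (A.add_mem hw (A.smul_mem _ hcA)) (by rw [map_add_smul, hc, hwc]; ring)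
    (by rw [polar_add_right, haw, polar_smul_right, hac, smul_zero, add_zero])
  have h2 := S.smul_mem (Q w) (hS c hcA hc hac)
  have h3 := S.add_mem h1 h2
  rwa [show w + (-Q w) • c + Q w • c = w by module] at h3

end Sep

section Omega

variable {F : Type*} [Field F] [Fintype F] {ι : Type} [Fintype ι] [DecidableEq ι]

/-- maximality in `Ω` through subgroups of the abstract orthogonal group -/
theorem isMaximalIn_omega (Q : QuadraticForm F (ι → F)) (hQ : (polarBilin Q).Nondegenerate) (hn : 5 ≤ Fintype.card ι)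
    (S : Subgroup (GL ι F))
    (hne : ∃ g ∈ commutator (oG Q), (glEquiv ι F).symm g.1 ∉ S)
    (hover : ∀ H : Subgroup (oG Q), (∀ g ∈ commutator (oG Q), (glEquiv ι F).symm g.1 ∈ S → g ∈ H) →
      ∀ g ∈ H, (glEquiv ι F).symm g.1 ∉ S → eo Q ≤ H) :
    Cfsg.Geo.IsMaximalIn (Cfsg.Geo.omegaGL ⇑Q) (S ⊓ Cfsg.Geo.omegaGL ⇑Q) := by
  constructor
  · obtain ⟨g, hg, hgS⟩ := hne
    exact lt_of_le_of_ne inf_le_right fun heq => hgS (heq.ge ((Subfield.RootOrth.mem_omegaGL Q g).2 hg)).1
  · intro M hM1 hM2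
    by_cases hle : M ≤ S
    · exact Or.inl (le_antisymm (le_inf hle hM2) hM1)
    refine Or.inr (le_antisymm hM2 fun k hk => ?_)
    let φ : oG Q →* GL ι F := (glEquiv ι F).symm.toMonoidHom.comp (oG Q).subtype
    let H : Subgroup (oG Q) := M.comap φ
    obtain ⟨x, hxM, hxS⟩ := SetLike.not_le_iff_exists.1 hle
    obtain ⟨g, -, hgx⟩ := Subfield.RootOrth.exists_oG_of_omega Q (hM2 hxM)
    have hgx' : (glEquiv ι F).symm g.1 = x := by rw [hgx, MulEquiv.symm_apply_apply]
    have hgH : g ∈ H := by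
      show (glEquiv ι F).symm g.1 ∈ M
      rw [hgx']; exact hxM
    have hH : ∀ g ∈ commutator (oG Q), (glEquiv ι F).symm g.1 ∈ S → g ∈ H := fun g hg hgS =>
      hM1 ⟨hgS, (Subfield.RootOrth.mem_omegaGL Q g).2 hg⟩
    have heo := hover H hH g hgH (by rw [hgx']; exact hxS)
    obtain ⟨k', hk', hkk⟩ := Subfield.RootOrth.exists_oG_of_omega Q hk
    have := heo (commutator_le_eo hQ (by rw [Module.finrank_fintype_fun_eq_card]; omega) hk')
    have h' : (glEquiv ι F).symm k'.1 ∈ M := this
    rwa [hkk, MulEquiv.symm_apply_apply] at h'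

end Omega

end Cfsg.Agent.ClassicalMax.RootPlanes
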