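import Cfsg.Agent.ClassicalMax.Transvection

/-!
Closure arguments shared by the overgroup theorems: one full centre of transvections and irreducibility
give all transvections.
-/

set_option autoImplicit false

namespace Cfsg.Agent.ClassicalMax

open Module

variable {F V : Type*} [Field F] [AddCommGroup V] [Module F V]

theorem exists_dual_one (W : Submodule F V) {x : V} (hx : x ∉ W) : ∃ φ : Dual F V, φ x = 1 ∧ ∀ w ∈ W, φ w = 0 := by
  obtain ⟨φ, hφ, hW⟩ := W.exists_le_ker_of_notMem hx
  exact ⟨(φ x)⁻¹ • φ, by simp [hφ], fun w hw => by simp [LinearMap.mem_ker.1 (hW hw)]⟩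

/-- if an irreducible group contains every transvection with one centre, it contains them all -/
theorem all_of_one (M : Subgroup (V ≃ₗ[F] V))
    (hirr : ∀ U : Submodule F V, (∀ h ∈ M, ∀ u ∈ U, h u ∈ U) → U = ⊥ ∨ U = ⊤) {v : V} (hv : v ≠ 0)
    (h : ∀ φ : Dual F V, φ v = 0 → tvec φ v ∈ M) : ∀ (φ : Dual F V) (w : V), φ w = 0 → tvec φ w ∈ M := by
  let S : Set V := {v | ∀ φ : Dual F V, φ v = 0 → tvec φ v ∈ M}
  have hmap : ∀ h ∈ M, ∀ v ∈ S, h v ∈ S := fun h hh v hv φ hφ => by
    have hφ' : (φ.comp h.toLinearMap) v = 0 := hφ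
    have := mul_mem (mul_mem hh (hv _ hφ')) (inv_mem hh)
    rw [conj_tvec h hφ'] at this
    convert this using 2
    exact LinearMap.ext fun x => by simp
  have hsmul : ∀ (c : F), ∀ v ∈ S, c • v ∈ S := fun c v hv φ hφ => by
    rw [← tvec_smul]
    exact hv _ (by rw [LinearMap.smul_apply, ← map_smul, hφ])
  have hadd : ∀ x ∈ S, ∀ y ∈ S, x + y ∈ S := fun x hx y hy => by
    by_cases hs : x ∈ Submodule.span F {y}
    · obtain ⟨c, rfl⟩ := Submodule.mem_span_singleton.1 hs
      rw [show c • y + y = (c + 1) • y by rw [add_smul, one_smul]]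
      exact hsmul _ y hy
    obtain ⟨φ, hφ, hφy⟩ := exists_dual_one _ hs
    have h0 := hφy y (Submodule.mem_span_singleton_self y)
    have := hmap _ (hy φ h0) x hx
    rwa [tvec_apply h0, hφ, one_smul] at this
  let U : Submodule F V :=
    { carrier := S, add_mem' := fun ha hb => hadd _ ha _ hb
      zero_mem' := fun φ _ => by rw [tvec_zero_right]; exact one_mem M
      smul_mem' := hsmul }
  rcases hirr U hmap with hU | hU
  · exact absurd ((Submodule.mem_bot F).1 (hU ▸ (h : v ∈ U))) hv
  · exact fun φ w hφ => (hU ▸ Submodule.mem_top : w ∈ U) φ hφ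

end Cfsg.Agent.ClassicalMax
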