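import Cfsg.Agent.ClassicalMax.Transvection
import Cfsg.Agent.Classical.AltSimple
import Cfsg.Agent.Classical.SympGroup

/-!
Maximal subgroups of the symplectic group: the set of centres of transvections of a subgroup.
-/

set_option autoImplicit false

namespace Cfsg.Agent.ClassicalMax

open Module Cfsg.Agent.Classical

section Abstract

variable {F V : Type*} [Field F] [AddCommGroup V] [Module F V] {B : LinearMap.BilinForm F V}

/-- the centres of the full transvection groups inside `M` -/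
def centres (hA : B.IsAlt) (M : Subgroup (V ≃ₗ[F] V)) : Set V := {v | ∀ c : F, Alt.tv hA v c ∈ M}

variable {hA : B.IsAlt} {M : Subgroup (V ≃ₗ[F] V)}

theorem zero_mem_centres : (0 : V) ∈ centres hA M := fun c => by
  have : Alt.tv hA (0 : V) c = 1 := LinearEquiv.ext fun x => by simp [Alt.tv_apply]
  rw [this]; exact one_mem M

theorem smul_mem_centres {v : V} (hv : v ∈ centres hA M) (a : F) : a • v ∈ centres hA M := fun c => by
  rw [Alt.tv_smul]; exact hv _

theorem map_mem_centres {v : V} (hv : v ∈ centres hA M) {h : V ≃ₗ[F] V} (hh : h ∈ M) (hi : h ∈ Alt.isoGroup B) :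
    h v ∈ centres hA M := fun c => by
  rw [← Alt.conj_tv hA hi]
  exact mul_mem (mul_mem hh (hv c)) (inv_mem hh)

theorem add_smul_mem_centres {v w : V} (hv : v ∈ centres hA M) (hw : w ∈ centres hA M) (h : B v w ≠ 0) (a : F) :
    v + a • w ∈ centres hA M := by
  have := map_mem_centres hv (hw (a / B v w)) (Alt.tv_mem_isoGroup hA w _)
  rwa [Alt.tv_apply, div_mul_cancel₀ _ h] at this

theorem centres_mono_top [FiniteDimensional F V] (hB : B.Nondegenerate) (h : ∀ v, v ∈ centres hA M) :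
    Alt.isoGroup B ≤ M := by
  rw [← Alt.TG_top hA hB, Alt.TG, Subgroup.closure_le]
  rintro t ⟨v, -, c, ht⟩
  have : t = Alt.tv hA v c := LinearEquiv.ext fun x => ht x
  rw [this]; exact h v c

/-- the transvections along a non-degenerate subspace move any non-zero vector of it to any other -/
theorem exists_TG_map (hA : B.IsAlt) [FiniteDimensional F V] {W : Submodule F V} (hW : Alt.NDon B W) {u u' : V}
    (hu : u ∈ W) (hu0 : u ≠ 0) (hu' : u' ∈ W) (hu'0 : u' ≠ 0) : ∃ t ∈ Alt.TG B W, t u = u' := by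
  let e := LinearEquiv.toSpanNonzeroSingleton F V u hu0
  let φ : Submodule.span F {u} →ₗ[F] V := (LinearMap.toSpanSingleton F V u').comp e.symm.toLinearMap
  obtain ⟨t, ht, htx⟩ := Alt.witt hA _ W rfl hW (Submodule.span F {u}) (by simpa using hu) φ
    (fun a b h => e.symm.injective (smul_left_injective F hu'0 h))
    (fun x => W.smul_mem _ hu')
    (fun x x' => by
      obtain ⟨a, ha⟩ := Submodule.mem_span_singleton.1 x.2
      obtain ⟨b, hb⟩ := Submodule.mem_span_singleton.1 x'.2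
      rw [← ha, ← hb]
      simp [φ, hA u, hA u'])
  refine ⟨t, ht, ?_⟩
  have he : (e 1 : V) = u := by simp [e]
  have := htx (e 1)
  rw [he] at this
  rw [this]
  simp only [φ, LinearMap.comp_apply, LinearEquiv.coe_coe, LinearEquiv.symm_apply_apply, LinearMap.toSpanSingleton_apply, one_smul]

end Abstract

section Matrices

variable {F : Type*} [Field F] {m : ℕ}

theorem glEquiv_mem_iso_iff (g : Matrix.GeneralLinearGroup (Fin m ⊕ Fin m) F) :
    glEquiv (Fin m ⊕ Fin m) F g ∈ Alt.isoGroup (sympB m F) ↔ g ∈ Cfsg.spGL m F := by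
  constructor
  · intro h u v
    have := h u v
    rw [sympB_apply, sympB_apply] at this
    exact this
  · intro h x y
    rw [sympB_apply, sympB_apply]
    exact h x y

/-- to prove maximality in the symplectic group it suffices to produce all centres -/
theorem isMaximalIn_spGL (K : Subgroup (Matrix.GeneralLinearGroup (Fin m ⊕ Fin m) F))
    (hproper : ∃ v c, (glEquiv (Fin m ⊕ Fin m) F).symm (Alt.tv (sympB_isAlt (F := F) (m := m)) v c) ∉ K)
    (h : ∀ M : Subgroup ((Fin m ⊕ Fin m → F) ≃ₗ[F] (Fin m ⊕ Fin m → F)),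
      (∀ g, g ∈ Alt.isoGroup (sympB m F) → (glEquiv (Fin m ⊕ Fin m) F).symm g ∈ K → g ∈ M) →
      (∃ g ∈ M, g ∈ Alt.isoGroup (sympB m F) ∧ (glEquiv (Fin m ⊕ Fin m) F).symm g ∉ K) →
      ∀ v, v ∈ centres (sympB_isAlt (F := F) (m := m)) M) :
    Cfsg.Geo.IsMaximalIn (Cfsg.spGL m F) (K ⊓ Cfsg.spGL m F) := by
  constructor
  · refine lt_of_le_of_ne inf_le_right fun heq => ?_
    obtain ⟨v, c, hvc⟩ := hproper
    refine hvc (heq.ge ?_).1
    rw [← glEquiv_mem_iso_iff, MulEquiv.apply_symm_apply]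
    exact Alt.tv_mem_isoGroup _ v c
  · intro M hM1 hM2
    by_cases hle : M ≤ K
    · exact Or.inl (le_antisymm (le_inf hle hM2) hM1)
    refine Or.inr (le_antisymm hM2 fun k hk => ?_)
    obtain ⟨g, hg, hgK⟩ := SetLike.not_le_iff_exists.1 hle
    obtain ⟨k', hk', e⟩ := centres_mono_top (M := M.map (glEquiv (Fin m ⊕ Fin m) F).toMonoidHom) sympB_nondeg
      (h _ (fun g hg hgK => ⟨_, hM1 ⟨hgK, (glEquiv_mem_iso_iff _).1 (by rw [MulEquiv.apply_symm_apply]; exact hg)⟩,
          MulEquiv.apply_symm_apply _ g⟩)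
        ⟨_, Subgroup.mem_map_of_mem _ hg, (glEquiv_mem_iso_iff g).2 (hM2 hg), by
          rw [MulEquiv.coe_toMonoidHom, MulEquiv.symm_apply_apply]; exact hgK⟩)
      ((glEquiv_mem_iso_iff k).2 hk)
    exact (glEquiv (Fin m ⊕ Fin m) F).injective e ▸ hk'

theorem symm_mem_subspaceStabilizer_iff {ι : Type} [Fintype ι] [DecidableEq ι] (W : Submodule F (ι → F))
    (g : (ι → F) ≃ₗ[F] (ι → F)) :
    (glEquiv ι F).symm g ∈ Cfsg.Geo.subspaceStabilizer W ↔ ∀ v, v ∈ W ↔ g v ∈ W := by
  show (∀ v, v ∈ (W : Set (ι → F)) ↔ ((glEquiv ι F).symm g : Matrix ι ι F).mulVec v ∈ (W : Set (ι → F))) ↔ _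
  simp only [symm_mulVec, SetLike.mem_coe]

theorem stab_of_le {ι : Type} [Fintype ι] [DecidableEq ι] (W : Submodule F (ι → F))
    (g : (ι → F) ≃ₗ[F] (ι → F)) (h : ∀ v ∈ W, g v ∈ W) :
    (glEquiv ι F).symm g ∈ Cfsg.Geo.subspaceStabilizer W := by
  have hmap : W.map g.toLinearMap = W :=
    Submodule.eq_of_le_of_finrank_eq (by rintro _ ⟨w, hw, rfl⟩; exact h w hw) (LinearEquiv.finrank_map_eq _ W)
  rw [symm_mem_subspaceStabilizer_iff]
  refine fun v => ⟨h v, fun hv => ?_⟩
  rw [← hmap] at hv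
  obtain ⟨w, hw, e⟩ := hv
  exact g.injective e ▸ hw

end Matrices

end Cfsg.Agent.ClassicalMax
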