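import Cfsg.Agent.ClassicalMax.Generic
import Cfsg.Agent.Classical.HermForm
import Cfsg.Agent.Classical.HermGroup
import Cfsg.Agent.Classical.UnitaryTrans

/-!
Hermitian forms: perpendicular subspaces of lists, determinant correction, and the set of isotropic centres of
transvections of a subgroup of the special unitary group.
-/

set_option autoImplicit false

namespace Cfsg.Agent.ClassicalMax.Unitary

open Cfsg.Agent.Classical Cfsg.Agent.ClassicalMax Module

section

variable {F V : Type*} [Field F] [AddCommGroup V] [Module F V] {σ : F →+* F}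

/-- the vectors orthogonal to all those listed -/
noncomputable def perp (B : V →ₛₗ[σ] V →ₗ[F] F) : List V → Submodule F V
  | [] => ⊤
  | a :: l => perp B l ⊓ LinearMap.ker (B a)

variable {B : V →ₛₗ[σ] V →ₗ[F] F}

lemma mem_perp {x : V} : ∀ {l : List V}, x ∈ perp B l ↔ ∀ a ∈ l, B a x = 0
  | [] => by simp [perp]
  | a :: l => by simp [perp, mem_perp (l := l), and_comm]

lemma finrank_ker_inf [FiniteDimensional F V] (W : Submodule F V) (f : V →ₗ[F] F) :
    finrank F W ≤ finrank F ↥(W ⊓ LinearMap.ker f) + 1 := by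
  have h1 := (f.comp W.subtype).finrank_range_add_finrank_ker
  have h2 : finrank F (LinearMap.range (f.comp W.subtype)) ≤ 1 :=
    (Submodule.finrank_le _).trans (le_of_eq (Module.finrank_self F))
  have h3 : finrank F (LinearMap.ker (f.comp W.subtype)) = finrank F ↥(W ⊓ LinearMap.ker f) := by
    rw [LinearMap.ker_comp, ← Submodule.finrank_map_subtype_eq W, Submodule.map_comap_subtype]
  omega

lemma finrank_perp [FiniteDimensional F V] : ∀ l : List V, finrank F V ≤ finrank F (perp B l) + l.length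
  | [] => by
    show _ ≤ finrank F ↥(⊤ : Submodule F V) + _
    rw [finrank_top]; exact Nat.le_add_right _ _
  | a :: l => by
    have h1 := finrank_perp l
    have h2 := finrank_ker_inf (perp B l) (B a)
    show _ ≤ finrank F ↥(perp B l ⊓ LinearMap.ker (B a)) + (l.length + 1)
    generalize finrank F ↥(perp B l ⊓ LinearMap.ker (B a)) = k at h2 ⊢
    omega

variable [Finite F] [FiniteDimensional F V] (hB : Herm.IsHerm B)
include hB

lemma exists_aniso (W : Submodule F V) (hW : finrank F V < 2 * finrank F W) : ∃ w ∈ W, B w w ≠ 0 := by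
  refine Herm.exists_anisotropic hB W ?_
  by_contra! hc
  let b := Module.finBasis F W
  let T : V →ₗ[F] (Fin (finrank F W) → F) := LinearMap.pi fun i => B (b i : V)
  have hker : W ≤ LinearMap.ker T := fun w hw => by
    rw [LinearMap.mem_ker]; ext i; exact hc _ (b i).2 w hw
  have hsurj : LinearMap.range T = ⊤ := by
    by_contra hne
    obtain ⟨φ, hφ, hle⟩ := (LinearMap.range T).exists_le_ker_of_lt_top (lt_top_iff_ne_top.2 hne)
    refine hφ (LinearMap.ext fun c => ?_)
    have key : ∀ x, φ (T x) = 0 := fun x => LinearMap.mem_ker.1 (hle ⟨x, rfl⟩)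
    have hz : ∑ i, σ (φ (Pi.single i 1)) • (b i : V) = 0 := hB.nondeg _ fun y => by
      have := key y
      rw [pi_eq_sum_univ' (T y), map_sum] at this
      simp only [map_smul, smul_eq_mul] at this
      simp only [map_sum, map_smulₛₗ, LinearMap.sum_apply, LinearMap.smul_apply, smul_eq_mul, hB.invol]
      rw [← this]
      exact Finset.sum_congr rfl fun i _ => mul_comm _ _
    have hli := Fintype.linearIndependent_iff.1 (b.linearIndependent.map' W.subtype W.ker_subtype) _ hz
    rw [pi_eq_sum_univ' c, map_sum, LinearMap.zero_apply]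
    refine Finset.sum_eq_zero fun i _ => ?_
    rw [map_smul, show φ (Pi.single i 1) = 0 from (map_eq_zero σ).1 (hli i), smul_zero]
  have h1 := T.finrank_range_add_finrank_ker
  have h2 := Submodule.finrank_mono hker
  rw [hsurj, finrank_top, Module.finrank_fin_fun] at h1
  omega

lemma exists_value (l : List V) (hl : 2 * l.length < finrank F V) (c : F) (hc : σ c = c) :
    ∃ w ∈ perp B l, B w w = c := by
  obtain ⟨a, ha, hQa⟩ := exists_aniso hB (perp B l) (by have := finrank_perp (B := B) l; omega)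
  obtain ⟨t, ht⟩ := Herm.exists_norm hB.toIsInvol (a := c / B a a) (by rw [map_div₀, hc, Herm.fix_self hB])
  exact ⟨t • a, Submodule.smul_mem _ _ ha, by rw [Herm.smul_self hB, ht, div_mul_cancel₀ _ hQa]⟩

lemma exists_singular (l : List V) (hl : 2 * l.length + 2 < finrank F V) : ∃ w ∈ perp B l, B w w = 0 ∧ w ≠ 0 := by
  obtain ⟨a, ha, hQa⟩ := exists_aniso hB (perp B l) (by have := finrank_perp (B := B) l; omega)
  obtain ⟨b, hb, hQb⟩ := exists_value hB (a :: l) (by simp only [List.length_cons]; omega) (-B a a)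
    (by rw [map_neg, Herm.fix_self hB])
  have hab : B a b = 0 := hb.2
  have hba : B b a = 0 := (Herm.eq_zero_comm hB).1 hab
  refine ⟨a + b, Submodule.add_mem _ ha hb.1, ?_, fun h => hQa ?_⟩
  · simp only [map_add, LinearMap.add_apply, hab, hba, hQb]; ring
  · have := congrArg (B a) h
    rwa [map_add, hab, add_zero, map_zero] at this

lemma exists_perp {S : Submodule F V} {x : V} (hx : x ∉ S) : ∃ w, (∀ s ∈ S, B s w = 0) ∧ B x w = 1 := by
  obtain ⟨φ, hφ, hS⟩ := exists_dual_one S hx
  obtain ⟨w, hw⟩ := Herm.exists_repr hB φ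
  exact ⟨w, fun s hs => (Herm.eq_zero_comm hB).1 (by rw [hw, hS s hs]), by rw [← hB.symm, hw, hφ, map_one]⟩

lemma exists_singular_pairing (l : List V) (hl : 2 * l.length + 2 < finrank F V) {a : V}
    (ha : a ∉ Submodule.span F {x | x ∈ l}) (c : F) : ∃ u ∈ perp B l, B u u = 0 ∧ B a u = c := by
  obtain ⟨k, hk, hk'⟩ := exists_perp hB ha
  have hk1 : c • k ∈ perp B l := Submodule.smul_mem _ _ (mem_perp.2 fun s hs => hk s (Submodule.subset_span hs))
  obtain ⟨y, hy, hQy⟩ := exists_aniso hB (perp B (a :: l)) (by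
    have := finrank_perp (B := B) (a :: l); simp only [List.length_cons] at this; omega)
  set β := B y (c • k) with hβ
  set γ := B y y with hγ
  have hγσ : σ γ = γ := Herm.fix_self hB y
  obtain ⟨s, hs⟩ := Herm.exists_norm hB.toIsInvol
    (a := β * σ β / (γ * γ) - B (c • k) (c • k) / γ) (by
      rw [map_sub, map_div₀, map_div₀, map_mul, map_mul, hB.invol, hγσ, Herm.fix_self hB, mul_comm (σ β) β])
  refine ⟨c • k + (s - β / γ) • y, Submodule.add_mem _ hk1 (Submodule.smul_mem _ _ hy.1), ?_, ?_⟩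
  · have e2 : B (c • k) y = σ β := (hB.symm _ _).symm
    have e3 : B (c • k + (s - β / γ) • y) (c • k + (s - β / γ) • y) =
        B (c • k) (c • k) + (s - β / γ) * σ β + σ (s - β / γ) * β + σ (s - β / γ) * (s - β / γ) * γ := by
      generalize s - β / γ = t
      generalize c • k = z at e2 hβ ⊢
      simp only [map_add, map_smulₛₗ, LinearMap.add_apply, LinearMap.smul_apply, smul_eq_mul, e2, ← hβ, ← hγ,
        RingHom.id_apply]
      ring
    rw [e3, map_sub, map_div₀, hγσ]
    field_simp at hs ⊢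
    linear_combination hs
  · rw [map_add, map_smul, map_smul, show B a y = 0 from hy.2, hk', smul_zero, smul_eq_mul, mul_one, add_zero]

lemma not_le_span (l : List V) (hl : 2 * l.length < finrank F V) :
    ∃ e ∈ perp B l, e ∉ Submodule.span F {x | x ∈ l} := by
  classical
  refine SetLike.not_le_iff_exists.1 fun hle => ?_
  have h1 := Submodule.finrank_mono hle
  have h2 := finrank_perp (B := B) l
  have h3 : finrank F (Submodule.span F {x | x ∈ l}) ≤ l.length := by
    rw [show {x : V | x ∈ l} = (l.toFinset : Set V) by ext; simp]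
    exact (finrank_span_finset_le_card _).trans l.toFinset_card_le
  omega

lemma det_norm {g : V ≃ₗ[F] V} (hg : ∀ x y, B (g x) (g y) = B x y) :
    LinearMap.det g.toLinearMap * σ (LinearMap.det g.toLinearMap) = 1 := by
  classical
  obtain ⟨b, hb⟩ := Herm.exists_orthonormal hB
  set A := LinearMap.toMatrix b b g.toLinearMap
  have hA : (A.map σ).transpose * A = 1 := by
    ext i j
    have h1 := hg (b i) (b j)
    rw [hb i j, ← b.sum_repr (g (b i)), ← b.sum_repr (g (b j))] at h1
    simp only [map_sum, map_smulₛₗ, LinearMap.sum_apply, LinearMap.smul_apply, smul_eq_mul, map_smul, hb _ _,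
      Finset.mul_sum, mul_ite, mul_one, mul_zero, Finset.sum_ite_eq', Finset.mem_univ, if_true] at h1
    rw [Matrix.mul_apply, Matrix.one_apply, ← h1]
    refine Finset.sum_congr rfl fun k _ => ?_
    simp only [A, Matrix.transpose_apply, Matrix.map_apply, LinearMap.toMatrix_apply, LinearEquiv.coe_coe, RingHom.id_apply]
    ring
  have := congrArg Matrix.det hA
  rw [Matrix.det_mul, Matrix.det_transpose, Matrix.det_one, show (A.map σ).det = σ A.det from (RingHom.map_det σ A).symm,
    LinearMap.det_toMatrix] at this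
  rw [mul_comm]; exact this

/-- a pseudo-reflection with a given eigenvalue of norm one -/
lemma exists_preflection {a : V} (ha : B a a ≠ 0) {δ : F} (hδ : δ * σ δ = 1) :
    ∃ r : V ≃ₗ[F] V, (∀ x y, B (r x) (r y) = B x y) ∧ LinearMap.det r.toLinearMap = δ ∧
      ∀ x, r x = x + ((δ - 1) * (B a x / B a a)) • a := by
  have hδ0 : δ ≠ 0 := fun h => by simp [h] at hδ
  let φ : Dual F V := ((δ - 1) / B a a) • B a
  have hfa : φ a = δ - 1 := by simp [φ, div_mul_cancel₀ _ ha]
  let L := LinearMap.transvection φ a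
  have hdet : LinearMap.det L = δ := by rw [LinearMap.transvection.det, hfa]; ring
  have hunit : IsUnit (LinearMap.det L) := by rw [hdet]; exact isUnit_iff_ne_zero.2 hδ0
  refine ⟨LinearMap.equivOfIsUnitDet hunit, fun x y => ?_, ?_, fun x => ?_⟩
  rotate_left
  · rw [LinearMap.coe_equivOfIsUnitDet]; exact hdet
  · rw [LinearMap.equivOfIsUnitDet_apply]
    show L x = _
    rw [LinearMap.transvection.apply]
    simp only [φ, LinearMap.smul_apply, smul_eq_mul]
    congr 2
    ring
  rw [LinearMap.equivOfIsUnitDet_apply, LinearMap.equivOfIsUnitDet_apply]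
  simp only [L, φ, LinearMap.transvection.apply, map_add, map_smulₛₗ, LinearMap.add_apply, LinearMap.smul_apply, smul_eq_mul,
    map_mul, map_div₀, map_sub, map_one, RingHom.id_apply, hB.symm, Herm.fix_self hB]
  field_simp
  linear_combination (B x a * B a y) * hδ

/-- an isometry of a given determinant scaling an isotropic pair, fixing the orthogonal of both -/
theorem exists_pair_scale {w f : V} (hw : B w w = 0) (hf : B f f = 0) (hwf : B w f = 1) {δ : F} (hδ : δ * σ δ = 1) :
    ∃ r : V ≃ₗ[F] V, (∀ x y, B (r x) (r y) = B x y) ∧ LinearMap.det r.toLinearMap = δ ∧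
      ∃ a b : F, ∀ x, r x = x + (a * B f x) • w + (b * B w x) • f := by
  obtain ⟨l, hl, hlδ⟩ := Herm.exists_conj_quot hB.toIsInvol hδ
  have hσl : σ l ≠ 0 := (map_ne_zero σ).2 hl
  have hfw : B f w = 1 := by rw [← hB.symm, hwf, map_one]
  let a := l - 1
  let b := (σ l)⁻¹ - 1
  let L1 := LinearMap.transvection (a • B f) w
  let L2 := LinearMap.transvection (b • B w) f
  have hL : ∀ x, (L1 ∘ₗ L2) x = x + (a * B f x) • w + (b * B w x) • f := fun x => by
    simp only [L1, L2, LinearMap.comp_apply, LinearMap.transvection.apply, LinearMap.smul_apply, map_add, map_smul, hf,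
      smul_eq_mul, mul_zero, add_zero, zero_smul, add_assoc]
  have hdet : LinearMap.det (L1 ∘ₗ L2) = δ := by
    simp only [L1, L2, LinearMap.det_comp, LinearMap.transvection.det, LinearMap.smul_apply, hfw, hwf, smul_eq_mul, mul_one, a, b]
    rw [← hlδ, div_eq_mul_inv]; ring
  have hunit : IsUnit (LinearMap.det (L1 ∘ₗ L2)) := by
    rw [hdet, isUnit_iff_ne_zero]; intro h; simp [h] at hδ
  refine ⟨LinearMap.equivOfIsUnitDet hunit, fun x y => ?_, by rw [LinearMap.coe_equivOfIsUnitDet]; exact hdet, a, b,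
    fun x => by rw [LinearMap.equivOfIsUnitDet_apply]; exact hL x⟩
  rw [LinearMap.equivOfIsUnitDet_apply, LinearMap.equivOfIsUnitDet_apply, hL, hL]
  simp only [map_add, map_smulₛₗ, LinearMap.add_apply, LinearMap.smul_apply, smul_eq_mul, map_mul, RingHom.id_apply, hB.symm,
    hw, hf, hwf, hfw, a, b, map_sub, map_one, map_inv₀, hB.invol]
  field_simp
  ring

/-- the isotropic centres of the full transvection groups inside `M` -/
def centres (B : V →ₛₗ[σ] V →ₗ[F] F) (M : Subgroup (V ≃ₗ[F] V)) : Set V :=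
  {v | B v v = 0 ∧ ∀ (hv : B v v = 0) (c : F), c + σ c = 0 → Herm.tvU hv c ∈ M}

variable {M : Subgroup (V ≃ₗ[F] V)}

theorem map_mem_centres {v : V} (hv : v ∈ centres B M) {h : V ≃ₗ[F] V} (hh : h ∈ M)
    (hi : ∀ x y, B (h x) (h y) = B x y) : h v ∈ centres B M := by
  refine ⟨by rw [hi]; exact hv.1, fun hv' c hc => ?_⟩
  have := mul_mem (mul_mem hh (hv.2 hv.1 c hc)) (inv_mem hh)
  rwa [Herm.conj_tvU hB hi hv.1 c] at this

theorem smul_mem_centres {v : V} (hv : v ∈ centres B M) (a : F) : a • v ∈ centres B M := by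
  refine ⟨by rw [Herm.smul_self hB, hv.1, mul_zero], fun hv' c hc => ?_⟩
  have e : Herm.tvU hv' c = Herm.tvU hv.1 (c * (a * σ a)) := LinearEquiv.ext fun x => by
    rw [Herm.tvU_apply, Herm.tvU_apply, map_smulₛₗ, LinearMap.smul_apply, smul_eq_mul, smul_smul]
    congr 2
    ring
  rw [e]
  refine hv.2 hv.1 _ ?_
  rw [map_mul, map_mul, hB.invol, mul_comm (σ a) a]
  linear_combination (a * σ a) * hc

theorem move_mem_centres {v w : V} (hv : v ∈ centres B M) (hw : w ∈ centres B M) {c : F} (hc : c + σ c = 0) :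
    v + (c * B w v) • w ∈ centres B M := by
  have := map_mem_centres hB hv (hw.2 hw.1 c hc) (Herm.tvU_isometry hB hw.1 hc)
  rwa [Herm.tvU_apply] at this

theorem suG_le (hn : 4 ≤ finrank F V) (h : ∀ v, B v v = 0 → v ∈ centres B M) : Herm.suG B ≤ M := by
  rw [← Herm.suG_eq_TUon hB (by omega) (Or.inr (by omega)), Herm.TUon, Subgroup.closure_le]
  rintro t ⟨v, -, c, hv, hc, ht⟩
  have : t = Herm.tvU hv c := LinearEquiv.ext fun x => ht x
  rw [this]; exact (h v hv).2 hv c hc

theorem mem_suG {g : V ≃ₗ[F] V} (hg : ∀ x y, B (g x) (g y) = B x y) (hd : LinearMap.det g.toLinearMap = 1) :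
    g ∈ Herm.suG B := ⟨hg, Units.ext (by rw [LinearEquiv.coe_det]; exact hd)⟩

/-- in a subspace with an isotropic vector outside its radical, isotropic vectors span -/
theorem isotropic_span (N : Submodule F V) {z f : V} (hz : z ∈ N) (hzz : B z z = 0) (hf : f ∈ N) (hzf : B z f ≠ 0)
    (U : Submodule F V) (hU : ∀ x ∈ N, B x x = 0 → x ∈ U) : N ≤ U := by
  have hzU := hU z hz hzz
  have step : ∀ x ∈ N, B z x ≠ 0 → x ∈ U := fun x hx hzx => by
    obtain ⟨c, hc⟩ := Herm.exists_trace hB.toIsInvol (a := -B x x) (by rw [map_neg, Herm.fix_self hB])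
    have hxz : B x z ≠ 0 := fun e => hzx ((Herm.eq_zero_comm hB).1 e)
    have hk := hU (x + (c / B x z) • z) (N.add_mem hx (N.smul_mem _ hz)) (by
      simp only [map_add, map_smulₛₗ, LinearMap.add_apply, LinearMap.smul_apply, smul_eq_mul, RingHom.id_apply, hzz,
        mul_zero, add_zero, map_div₀, hB.symm]
      rw [div_mul_cancel₀ _ hxz, div_mul_cancel₀ _ hzx]
      linear_combination hc)
    have := U.sub_mem hk (U.smul_mem (c / B x z) hzU)
    rwa [add_sub_cancel_right] at this
  intro x hx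
  by_cases hzx : B z x = 0
  · have := U.sub_mem (step (x + f) (N.add_mem hx hf) (by rwa [map_add, hzx, zero_add])) (step f hf hzf)
    rwa [add_sub_cancel_right] at this
  · exact step x hx hzx

end

section Matrices

variable {F : Type*} [Field F] [Finite F] {n q : ℕ} {σ : F →+* F}

theorem glEquiv_mem_iff (hσq : ∀ x, σ x = x ^ q) (g : Matrix.GeneralLinearGroup (Fin n) F) :
    g ∈ Cfsg.GU n F q ⊓ Cfsg.Geo.specialLinear (Fin n) F ↔
      (∀ x y, hermB n σ (glEquiv (Fin n) F g x) (glEquiv (Fin n) F g y) = hermB n σ x y) ∧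
        LinearMap.det (glEquiv (Fin n) F g).toLinearMap = 1 :=
  and_congr (mem_GU_iff hσq g) (mem_specialLinear_iff g)

/-- to prove maximality in the special unitary group it suffices to produce all isotropic centres -/
theorem isMaximalIn_suGL (hσ : Herm.IsInvol σ) (hσq : ∀ x, σ x = x ^ q) (hn : 4 ≤ n)
    (K : Subgroup (Matrix.GeneralLinearGroup (Fin n) F))
    (hproper : ∃ (v : Fin n → F) (hv : hermB n σ v v = 0) (c : F), c + σ c = 0 ∧
      (glEquiv (Fin n) F).symm (Herm.tvU hv c) ∉ K)
    (h : ∀ M : Subgroup ((Fin n → F) ≃ₗ[F] (Fin n → F)),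
      (∀ g : (Fin n → F) ≃ₗ[F] (Fin n → F), (∀ x y, hermB n σ (g x) (g y) = hermB n σ x y) →
        LinearMap.det g.toLinearMap = 1 → (glEquiv (Fin n) F).symm g ∈ K → g ∈ M) →
      (∃ g : (Fin n → F) ≃ₗ[F] (Fin n → F), g ∈ M ∧ (∀ x y, hermB n σ (g x) (g y) = hermB n σ x y) ∧
        (glEquiv (Fin n) F).symm g ∉ K) →
      ∀ v, hermB n σ v v = 0 → v ∈ centres (hermB n σ) M) :
    Cfsg.Geo.IsMaximalIn (Cfsg.GU n F q ⊓ Cfsg.Geo.specialLinear (Fin n) F)
      (K ⊓ (Cfsg.GU n F q ⊓ Cfsg.Geo.specialLinear (Fin n) F)) := by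
  have hB := hermB_isHerm (n := n) hσ
  constructor
  · refine lt_of_le_of_ne inf_le_right fun heq => ?_
    obtain ⟨v, hv, c, hc, hvc⟩ := hproper
    refine hvc (heq.ge ((glEquiv_mem_iff hσq _).2 ?_)).1
    rw [MulEquiv.apply_symm_apply]
    have := Herm.tvU_mem hB hv hc
    exact ⟨this.1, by simpa [Units.ext_iff] using this.2⟩
  · intro M hM1 hM2
    by_cases hle : M ≤ K
    · exact Or.inl (le_antisymm (le_inf hle hM2) hM1)
    refine Or.inr (le_antisymm hM2 fun k hk => ?_)
    obtain ⟨g, hg, hgK⟩ := SetLike.not_le_iff_exists.1 hle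
    have hall := h (M.map (glEquiv (Fin n) F).toMonoidHom) (fun g hgi hgd hgK => ⟨_, hM1 ⟨hgK, (glEquiv_mem_iff hσq _).2
        (by rw [MulEquiv.apply_symm_apply]; exact ⟨hgi, hgd⟩)⟩, MulEquiv.apply_symm_apply _ g⟩)
      ⟨_, Subgroup.mem_map_of_mem _ hg, ((glEquiv_mem_iff hσq g).1 (hM2 hg)).1, by
        rw [MulEquiv.coe_toMonoidHom, MulEquiv.symm_apply_apply]; exact hgK⟩
    obtain ⟨k', hk', e⟩ := suG_le hB (by rw [Module.finrank_fin_fun]; exact hn) hall
      (mem_suG hB ((glEquiv_mem_iff hσq k).1 hk).1 ((glEquiv_mem_iff hσq k).1 hk).2)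
    exact (glEquiv (Fin n) F).injective e ▸ hk'

end Matrices

end Cfsg.Agent.ClassicalMax.Unitary
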