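import Mathlib
import Cfsg.Prelude.Def_GeometricClasses
import Cfsg.Agent.Classical.LinearBasic

/-!
Overgroups of classical groups inside the special linear group: transvections as a total function,
their calculus, and generation of the special linear group by them.
-/

set_option autoImplicit false

namespace Cfsg.Agent.ClassicalMax

open Module

section Abstract

variable {F V : Type*} [Field F] [AddCommGroup V] [Module F V]

open scoped _root_.Classical in
/-- the transvection `x ↦ x + φ x • v`, the identity if `φ v ≠ 0` -/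
noncomputable def tvec (φ : Dual F V) (v : V) : V ≃ₗ[F] V :=
  if h : φ v = 0 then LinearEquiv.transvection h else 1

theorem tvec_apply {φ : Dual F V} {v : V} (h : φ v = 0) (x : V) : tvec φ v x = x + φ x • v := by
  rw [tvec, dif_pos h]; rfl

theorem tvec_zero_left (v : V) : tvec (0 : Dual F V) v = 1 :=
  LinearEquiv.ext fun x => by rw [tvec_apply (by simp)]; simp

theorem tvec_zero_right (φ : Dual F V) : tvec φ (0 : V) = 1 :=
  LinearEquiv.ext fun x => by rw [tvec_apply (map_zero φ)]; simp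

theorem tvec_mul_left {φ ψ : Dual F V} {v : V} (hφ : φ v = 0) (hψ : ψ v = 0) :
    tvec φ v * tvec ψ v = tvec (φ + ψ) v :=
  LinearEquiv.ext fun x => by
    rw [LinearEquiv.mul_apply, tvec_apply hψ, tvec_apply hφ, tvec_apply (by simp [hφ, hψ]), map_add, map_smul, hφ]
    simp [add_smul]
    abel

theorem tvec_mul_right {φ : Dual F V} {v w : V} (hv : φ v = 0) (hw : φ w = 0) :
    tvec φ v * tvec φ w = tvec φ (v + w) :=
  LinearEquiv.ext fun x => by
    rw [LinearEquiv.mul_apply, tvec_apply hw, tvec_apply hv, tvec_apply (by simp [hv, hw]), map_add, map_smul, hw]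
    simp [smul_add]
    abel

theorem tvec_inv {φ : Dual F V} {v : V} (h : φ v = 0) : (tvec φ v)⁻¹ = tvec (-φ) v :=
  inv_eq_of_mul_eq_one_right (by rw [tvec_mul_left h (by rw [LinearMap.neg_apply, h, neg_zero]), add_neg_cancel, tvec_zero_left])

theorem tvec_smul (φ : Dual F V) (v : V) (c : F) : tvec (c • φ) v = tvec φ (c • v) := by
  by_cases h : φ v = 0
  · exact LinearEquiv.ext fun x => by
      rw [tvec_apply (by simp [h]), tvec_apply (by simp [h]), LinearMap.smul_apply, smul_eq_mul, smul_smul, mul_comm]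
  · rcases eq_or_ne c 0 with rfl | hc
    · rw [zero_smul, zero_smul, tvec_zero_left, tvec_zero_right]
    · rw [tvec, tvec, dif_neg (by simp [h, hc]), dif_neg (by simp [h, hc])]

theorem apply_inv (g : V ≃ₗ[F] V) (x : V) : g (g⁻¹ x) = x := by
  rw [← LinearEquiv.mul_apply, mul_inv_cancel]; rfl

theorem inv_apply (g : V ≃ₗ[F] V) (x : V) : g⁻¹ (g x) = x := by
  rw [← LinearEquiv.mul_apply, inv_mul_cancel]; rfl

theorem conj_tvec (g : V ≃ₗ[F] V) {φ : Dual F V} {v : V} (h : φ v = 0) :
    g * tvec φ v * g⁻¹ = tvec (φ.comp (g⁻¹ : V ≃ₗ[F] V).toLinearMap) (g v) :=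
  LinearEquiv.ext fun x => by
    have h' : (φ.comp (g⁻¹ : V ≃ₗ[F] V).toLinearMap) (g v) = 0 := by
      show φ (g⁻¹ (g v)) = 0
      rw [inv_apply, h]
    rw [LinearEquiv.mul_apply, LinearEquiv.mul_apply, tvec_apply h, tvec_apply h', map_add, map_smul, apply_inv]
    rfl

/-- the commutator of two transvections meeting on one side is a transvection -/
theorem comm_tvec {φ ψ : Dual F V} {v w : V} (hφ : φ v = 0) (hψ : ψ w = 0) (hψv : ψ v = 0) :
    tvec φ v * tvec ψ w * (tvec φ v)⁻¹ * (tvec ψ w)⁻¹ = tvec (φ w • ψ) v :=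
  LinearEquiv.ext fun x => by
    rw [tvec_inv hφ, tvec_inv hψ, LinearEquiv.mul_apply, LinearEquiv.mul_apply, LinearEquiv.mul_apply,
      tvec_apply (show (-ψ) w = 0 by rw [LinearMap.neg_apply, hψ, neg_zero]),
      tvec_apply (show (-φ) v = 0 by rw [LinearMap.neg_apply, hφ, neg_zero]), tvec_apply hψ, tvec_apply hφ,
      tvec_apply (show (φ w • ψ) v = 0 by rw [LinearMap.smul_apply, hψv, smul_zero])]
    simp [map_add, map_smul, hφ, hψ, hψv]
    module

theorem det_tvec [FiniteDimensional F V] (φ : Dual F V) (v : V) :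
    LinearMap.det (tvec φ v : V ≃ₗ[F] V).toLinearMap = 1 := by
  by_cases h : φ v = 0
  · rw [tvec, dif_pos h, LinearEquiv.transvection.coe_toLinearMap, LinearMap.transvection.det, h, add_zero]
  · rw [tvec, dif_neg h]
    exact LinearMap.det_id

/-- a bilinear map proportional to a non-degenerate one in each column is proportional to it -/
theorem exists_scalar {B G : V →ₗ[F] V →ₗ[F] F} (hB : ∀ z, (∀ y, B y z = 0) → z = 0)
    (h : ∀ u, ∃ μ : F, ∀ y, G y u = μ * B y u) : ∃ μ : F, ∀ y u, G y u = μ * B y u := by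
  by_cases hV : ∀ v : V, v = 0
  · exact ⟨0, fun y u => by rw [hV u]; simp⟩
  push Not at hV
  obtain ⟨v, hv⟩ := hV
  obtain ⟨μ, hμ⟩ := h v
  refine ⟨μ, fun y u => ?_⟩
  obtain ⟨ν, hν⟩ := h u
  by_cases hs : ∃ c : F, u = c • v
  · obtain ⟨c, rfl⟩ := hs
    rw [map_smul, map_smul, hμ, smul_eq_mul, smul_eq_mul]; ring
  obtain ⟨ρ, hρ⟩ := h (u + v)
  have h0 : (ρ - ν) • u + (ρ - μ) • v = 0 := hB _ fun y => by
    have e := hρ y
    rw [map_add, map_add, hν, hμ] at e
    rw [map_add, map_smul, map_smul, smul_eq_mul, smul_eq_mul]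
    linear_combination -e
  by_cases hρν : ρ = ν
  · rw [hρν, sub_self, zero_smul, zero_add, smul_eq_zero, sub_eq_zero] at h0
    rw [hν, h0.resolve_right hv]
  · refine absurd ⟨-(ρ - μ) / (ρ - ν), ?_⟩ hs
    have hne : ρ - ν ≠ 0 := sub_ne_zero.2 hρν
    apply smul_right_injective V hne
    show (ρ - ν) • u = (ρ - ν) • ((-(ρ - μ) / (ρ - ν)) • v)
    rw [smul_smul, mul_div_cancel₀ _ hne, eq_neg_of_add_eq_zero_left h0, neg_smul]

end Abstract

section Matrices

variable {ι : Type} [Fintype ι] [DecidableEq ι] {F : Type*} [Field F]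

/-- invertible matrices as linear automorphisms of column vectors -/
noncomputable def glEquiv (ι : Type) [Fintype ι] [DecidableEq ι] (F : Type*) [Field F] :
    Matrix.GeneralLinearGroup ι F ≃* ((ι → F) ≃ₗ[F] (ι → F)) :=
  Matrix.GeneralLinearGroup.toLin.trans (LinearMap.GeneralLinearGroup.generalLinearEquiv F _)

theorem glEquiv_apply (g : Matrix.GeneralLinearGroup ι F) (v : ι → F) :
    glEquiv ι F g v = (g : Matrix ι ι F).mulVec v := rfl

theorem symm_mulVec (g : (ι → F) ≃ₗ[F] (ι → F)) (v : ι → F) :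
    ((glEquiv ι F).symm g : Matrix ι ι F).mulVec v = g v := by
  rw [← glEquiv_apply, MulEquiv.apply_symm_apply]

theorem mem_specialLinear_iff (g : Matrix.GeneralLinearGroup ι F) :
    g ∈ Cfsg.Geo.specialLinear ι F ↔ LinearMap.det (glEquiv ι F g).toLinearMap = 1 := by
  have h : (glEquiv ι F g).toLinearMap = Matrix.toLin' (g : Matrix ι ι F) :=
    LinearMap.ext fun v => glEquiv_apply g v
  rw [h, LinearMap.det_toLin', Cfsg.Geo.specialLinear, MonoidHom.mem_ker, Units.ext_iff]
  rfl

theorem tvec_mem_specialLinear (φ : Dual F (ι → F)) (v : ι → F) :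
    (glEquiv ι F).symm (tvec φ v) ∈ Cfsg.Geo.specialLinear ι F := by
  rw [mem_specialLinear_iff, MulEquiv.apply_symm_apply, det_tvec]

/-- a subgroup with all transvections contains the special linear group -/
theorem specialLinear_le (M : Subgroup (Matrix.GeneralLinearGroup ι F))
    (h : ∀ (φ : Dual F (ι → F)) (v : ι → F), φ v = 0 → (glEquiv ι F).symm (tvec φ v) ∈ M) :
    Cfsg.Geo.specialLinear ι F ≤ M := by
  have htop : M.comap (Matrix.SpecialLinearGroup.toGL : Matrix.SpecialLinearGroup ι F →* _) = ⊤ := by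
    refine Cfsg.Agent.Classical.sl_eq_top_of_transvection _ fun i j hij c => ?_
    have h0 : (c • LinearMap.proj j : Dual F (ι → F)) (Pi.single i 1) = 0 := by simp [hij.symm]
    show Matrix.SpecialLinearGroup.toGL _ ∈ M
    convert h _ _ h0 using 1
    apply (glEquiv ι F).injective
    rw [MulEquiv.apply_symm_apply]
    refine LinearEquiv.ext fun x => ?_
    rw [glEquiv_apply, tvec_apply h0]
    show (Matrix.transvection i j c).mulVec x = _
    rw [Matrix.transvection, Cfsg.Agent.Classical.tv_mulVec]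
    congr 1
    ext k
    simp [Pi.single_apply]
  intro g hg
  have hdet : (g : Matrix ι ι F).det = 1 := congrArg Units.val (MonoidHom.mem_ker.1 hg)
  let S : Matrix.SpecialLinearGroup ι F := ⟨(g : Matrix ι ι F), hdet⟩
  have : S ∈ M.comap (Matrix.SpecialLinearGroup.toGL : Matrix.SpecialLinearGroup ι F →* _) := htop ▸ Subgroup.mem_top _
  have e : Matrix.SpecialLinearGroup.toGL S = g := Units.ext rfl
  rwa [Subgroup.mem_comap, e] at this

/-- to prove maximality it suffices to produce all transvections -/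
theorem isMaximalIn_specialLinear (K : Subgroup (Matrix.GeneralLinearGroup ι F))
    (hproper : ∃ (φ : Dual F (ι → F)) (v : ι → F), φ v = 0 ∧ (glEquiv ι F).symm (tvec φ v) ∉ K)
    (h : ∀ M : Subgroup ((ι → F) ≃ₗ[F] (ι → F)), (∀ g ∈ K ⊓ Cfsg.Geo.specialLinear ι F, glEquiv ι F g ∈ M) →
      (∃ g, g ∉ K ∧ glEquiv ι F g ∈ M) → ∀ (φ : Dual F (ι → F)) (v : ι → F), φ v = 0 → tvec φ v ∈ M) :
    Cfsg.Geo.IsMaximalIn (Cfsg.Geo.specialLinear ι F) (K ⊓ Cfsg.Geo.specialLinear ι F) := by
  constructor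
  · refine lt_of_le_of_ne inf_le_right fun heq => ?_
    obtain ⟨φ, v, -, hK⟩ := hproper
    exact hK ((heq.ge (tvec_mem_specialLinear φ v)).1)
  · intro M hM1 hM2
    by_cases hle : M ≤ K
    · exact Or.inl (le_antisymm (le_inf hle hM2) hM1)
    refine Or.inr (le_antisymm hM2 (specialLinear_le M fun φ v hv => ?_))
    obtain ⟨g, hg, hgK⟩ := SetLike.not_le_iff_exists.1 hle
    obtain ⟨k, hk, hke⟩ := h (M.map (glEquiv ι F).toMonoidHom) (fun g hg => Subgroup.mem_map_of_mem _ (hM1 hg))
      ⟨g, hgK, Subgroup.mem_map_of_mem _ hg⟩ φ v hv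
    rw [← hke]
    simpa using hk

end Matrices

end Cfsg.Agent.ClassicalMax
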