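import Cfsg.Agent.ClassicalMax.RootNondeg
import Cfsg.Agent.ClassicalMax.OTensor.Quadr
import Cfsg.Agent.Classical.OrthIndex

/-!
The stabiliser of a non-degenerate subspace, odd characteristic, the larger side `A` of dimension at least 4 and
strictly larger than its orthogonal `B`: an overgroup contains all Siegel transformations of a second subspace `A'`
isometric to `A`; a suitable one of them fixes a singular vector `z` of `A` and moves its set of parameters.
-/

set_option autoImplicit false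
set_option linter.unusedSectionVars false
set_option linter.style.haveILetI false

namespace Cfsg.Agent.ClassicalMax.NdFour

open Module QuadraticMap Cfsg.Agent.Classical Cfsg.Agent.Classical.Quad Cfsg.Agent.ClassicalMax.RootPlanes

variable {F V : Type*} [Field F] [Finite F] [AddCommGroup V] [Module F V] [FiniteDimensional F V]
  {Q : QuadraticForm F V}

theorem exists_sing_mem (U : Submodule F V) (h : 3 ≤ finrank F U) : ∃ z ∈ U, z ≠ 0 ∧ Q z = 0 := by
  obtain ⟨z, hz0, hz⟩ := exists_singular (Q.comp U.subtype) h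
  exact ⟨z, z.2, fun e => hz0 (Subtype.ext e), hz⟩

theorem finrank_le_inf_ker (U : Submodule F V) (φ : V →ₗ[F] F) :
    finrank F U ≤ finrank F ↥(U ⊓ LinearMap.ker φ) + 1 := by
  have h1 := LinearMap.finrank_range_add_finrank_ker φ
  have h2 : finrank F (LinearMap.range φ) ≤ 1 := (Submodule.finrank_le _).trans (by rw [finrank_self])
  have h3 := Submodule.finrank_sup_add_finrank_inf_eq U (LinearMap.ker φ)
  have h4 := Submodule.finrank_le (U ⊔ LinearMap.ker φ)
  omega

theorem mem_inf_ker {U : Submodule F V} {e x : V} :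
    x ∈ U ⊓ LinearMap.ker (polarBilin Q e) ↔ x ∈ U ∧ polar Q e x = 0 := Iff.rfl

/-- singular vectors span a non-degenerate subspace -/
theorem le_of_sing {A : Submodule F V} (h2 : (2 : F) ≠ 0) (hA : NdOn Q A) (hd : 3 ≤ finrank F A) (S : Submodule F V)
    (h : ∀ z ∈ A, Q z = 0 → z ∈ S) : A ≤ S := by
  obtain ⟨p, hp0, hp⟩ := exists_singular (Q.comp A.subtype) hd
  have := OTensor.top_of_partners h2 hA.comp hd hp0 hp (S.comap A.subtype) fun g hg _ => h g g.2 hg
  exact fun x hx => show (⟨x, hx⟩ : A) ∈ S.comap A.subtype from this ▸ Submodule.mem_top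

/-- a vector of `A` orthogonal to `z^⊥ ∩ A` lies on the line of `z` -/
theorem line_in {A : Submodule F V} (hA : NdOn Q A) {z a : V} (hz : z ∈ A) (ha : a ∈ A)
    (h : ∀ x ∈ A, polar Q z x = 0 → polar Q a x = 0) : ∃ s : F, s • z = a := by
  obtain ⟨s, hs⟩ := Submodule.mem_span_singleton.1
    (OTensor.mem_line_of_perp (Q := Q.comp A.subtype) hA.comp (p := ⟨z, hz⟩) (z := ⟨a, ha⟩) fun w hw => h w w.2 hw)
  exact ⟨s, congrArg Subtype.val hs⟩

variable {A B : Submodule F V} {H : Subgroup (oG Q)}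

/-- elements fixing the centre preserve the set of parameters -/
theorem tS_fix {z d : V} {hz : Q z = 0} {h : oG Q} (hh : h ∈ H) (hfz : h.1 z = z) (hd : d ∈ tS H hz) :
    h.1 d ∈ tS H hz := by
  refine ⟨by rw [← hfz, polar_oG]; exact hd.1, fun a hp => ?_⟩
  have hp' : polar Q z (a • d) = 0 := polar_perp_smul hd.1 a
  have h1 := mul_mem (mul_mem hh (hd.2 a hp')) (inv_mem hh)
  rw [conj_sO] at h1
  convert h1 using 1
  exact ext_oG fun v => by simp only [sO_apply, hfz, map_smul]

/-- orthogonal complementary subspaces, the first of dimension at least 4 and the larger one -/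
structure Dec (Q : QuadraticForm F V) (A B : Submodule F V) : Prop where
  two : (2 : F) ≠ 0
  nd : (polarBilin Q).Nondegenerate
  compl : IsCompl A B
  perp : ∀ a ∈ A, ∀ b ∈ B, polar Q a b = 0
  ndA : NdOn Q A
  ndB : NdOn Q B
  dimA : 4 ≤ finrank F A
  lt : finrank F B < finrank F A

/-- a singular vector of `A` with a parameter outside `A` generates everything -/
theorem eo_of_out (h : Dec Q A B) (hI : IrrCase Q B)
    (hsieg : ∀ (p w : V) (hp : Q p = 0) (hpw : polar Q p w = 0), (p ∈ A ∧ w ∈ A) ∨ (p ∈ B ∧ w ∈ B) → sO hp hpw ∈ H)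
    (hrefl : ∀ a ∈ A, ∀ b ∈ B, ∀ (ha : Q a ≠ 0) (hb : Q b ≠ 0), Q a = Q b → rO hb * rO ha ∈ H)
    {z w : V} (hzA : z ∈ A) (hz0 : z ≠ 0) (hz : Q z = 0) (hw : w ∈ tS H hz) (hwA : w ∉ A) : eo Q ≤ H := by
  obtain ⟨a, ha, b, hb, e⟩ := exists_split h.compl w
  have hb0 : b ≠ 0 := fun hb0 => hwA (by rw [e, hb0, add_zero]; exact ha)
  have hTA : ∀ y ∈ A, polar Q z y = 0 → y ∈ tS H hz := fun y hy hzy =>
    ⟨hzy, fun c hc => hsieg _ _ hz hc (Or.inl ⟨hzA, A.smul_mem c hy⟩)⟩
  have hza : polar Q z a = 0 := by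
    have h1 := hw.1
    rwa [e, polar_add_right, h.perp z hzA b hb, add_zero] at h1
  have hbT : b ∈ tS H hz := by
    have h1 := Submodule.sub_mem _ hw (hTA a ha hza)
    rwa [e, add_sub_cancel_left] at h1
  -- a hyperbolic pair and the space orthogonal to it inside `A`
  obtain ⟨f', hf', hzf'⟩ := exists_hyp_pair (Q := Q.comp A.subtype) h.ndA.comp (p := ⟨z, hzA⟩)
    (fun e => hz0 (congrArg Subtype.val e)) hz
  set f : V := (f' : V) with hfd
  have hf : Q f = 0 := hf'
  have hzf : polar Q z f = 1 := hzf'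
  have hdim : finrank F A = 2 + finrank F (perpPair (Q.comp A.subtype) (⟨z, hzA⟩ : A) f') :=
    finrank_perpPair (Q := Q.comp A.subtype) (e := ⟨z, hzA⟩) hz hf' hzf'
  have hnP := nondeg_restrictPair (Q := Q.comp A.subtype) h.ndA.comp (e := ⟨z, hzA⟩) hz hf' hzf'
  have hval : ∀ c : F, c ≠ 0 → ∃ u ∈ A, Q u = c ∧ polar Q z u = 0 ∧ polar Q f u = 0 := fun c hc => by
    obtain ⟨u, hu⟩ := exists_value hnP h.two (by have := h.dimA; omega) hc
    exact ⟨u.1.1, u.1.2, hu, (mem_perpPair.1 u.2).1, (mem_perpPair.1 u.2).2⟩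
  have hBT : B ≤ tS H hz := by
    refine le_trans (eq_top_of_stable h.ndB hI (inf_le_right : tS H hz ⊓ B ≤ B) ⟨hbT, hb⟩ hb0 ?_ ?_) inf_le_left
    · rintro c hc hcq y ⟨hy, hyB⟩
      obtain ⟨u, hu, huq, hzu, -⟩ := hval (Q c) hcq
      have hu0 : Q u ≠ 0 := by rwa [huq]
      have hs := hrefl u hu c hc hu0 hcq huq
      have hsz : (rO hcq * rO hu0).1 z = z := by
        rw [oG_mul_apply, rO_apply hu0, hzu, zero_div, zero_smul, sub_zero, rO_apply, h.perp z hzA c hc, zero_div,
          zero_smul, sub_zero]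
      have hsy : (rO hcq * rO hu0).1 y = (rO hcq).1 y := by
        rw [oG_mul_apply, rO_apply hu0, polar_comm Q y, h.perp u hu y hyB, zero_div, zero_smul, sub_zero]
      refine ⟨hsy ▸ tS_fix hs hsz hy, ?_⟩
      show (rO hcq).1 y ∈ B
      rw [rO_apply]
      exact B.sub_mem hyB (B.smul_mem _ hc)
    · rintro p v hpq hpv hp hv y ⟨hy, hyB⟩
      have hsz : (sO hpq hpv).1 z = z := by
        rw [sO_apply, h.perp z hzA p hp, h.perp z hzA v hv]
        simp
      refine ⟨tS_fix (hsieg p v hpq hpv (Or.inr ⟨hp, hv⟩)) hsz hy, ?_⟩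
      show (sO hpq hpv).1 y ∈ B
      rw [sO_apply]
      exact B.add_mem (B.add_mem (B.add_mem hyB (B.smul_mem _ hp)) (B.smul_mem _ hv)) (B.smul_mem _ hp)
  have hfull : Full H z := full_of_tS hz fun y hy => by
    obtain ⟨y₀, hy₀, y₁, hy₁, rfl⟩ := exists_split h.compl y
    rw [polar_add_right, h.perp z hzA y₁ hy₁, add_zero] at hy
    exact Submodule.add_mem _ (hTA y₀ hy₀ hy) (hBT hy₁)
  obtain ⟨u, hu, huq, hzu, hfu⟩ := hval 1 one_ne_zero
  have hs := hsieg f u hf hfu (Or.inl ⟨f'.2, hu⟩)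
  refine eo_le h.nd (by have := h.dimA; have := Submodule.finrank_le A; omega) hfull (hfull.conj hs) ?_
  rw [sO_apply, polar_add_right, polar_add_right, polar_add_right, polar_self', hz, polar_smul_right, polar_smul_right,
    polar_smul_right, hzu, hzf, huq]
  simp

/-- the Siegel transformation of a second subspace moves the parameters of a singular vector of `A` -/
theorem eo_of_second (h : Dec Q A B) (hI : IrrCase Q B)
    (hsieg : ∀ (p w : V) (hp : Q p = 0) (hpw : polar Q p w = 0), (p ∈ A ∧ w ∈ A) ∨ (p ∈ B ∧ w ∈ B) → sO hp hpw ∈ H)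
    (hrefl : ∀ a ∈ A, ∀ b ∈ B, ∀ (ha : Q a ≠ 0) (hb : Q b ≠ 0), Q a = Q b → rO hb * rO ha ∈ H)
    {A' : Submodule F V} (hnd' : NdOn Q A') (hdim' : finrank F A' = finrank F A) (hne : A' ≠ A)
    (hsA : ∀ (p w : V) (hp : Q p = 0) (hpw : polar Q p w = 0), p ∈ A' → w ∈ A' → sO hp hpw ∈ H) : eo Q ≤ H := by
  by_contra hno
  have h2 := h.two
  have base : ∀ {z : V}, z ∈ A → z ≠ 0 → ∀ (hz : Q z = 0) {w : V}, w ∈ tS H hz → w ∈ A := fun hzA hz0 hz w hw =>
    by_contra fun hwA => hno (eo_of_out h hI hsieg hrefl hzA hz0 hz hw hwA)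
  have meet : ∀ {p y : V}, p ∈ A → p ∈ A' → p ≠ 0 → ∀ (_ : Q p = 0), y ∈ A' → polar Q p y = 0 → y ∈ A :=
    fun {p y} hpA hpA' hp0 hp hy hpy => base hpA hp0 hp ⟨hpy, fun c hc => hsA _ _ hp hc hpA' (A'.smul_mem c hy)⟩
  -- what the transformation `(e, w)` fixing `z` does on the parameters of `z`
  have key : ∀ {e w z : V}, e ∈ A' → Q e = 0 → e ∉ A → z ∈ A → z ≠ 0 → Q z = 0 → polar Q z e = 0 → w ∈ A' →
      polar Q e w = 0 → polar Q z w = 0 →
      (∀ x ∈ A, polar Q z x = 0 → polar Q x w • e + (-polar Q x e) • w + (-(Q w * polar Q x e)) • e ∈ A) := by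
    intro e w z he heq heA hzA hz0 hz hze hw hew hzw x hx hzx
    have hs := hsA e w heq hew he hw
    have hsz : (sO heq hew).1 z = z := by
      rw [sO_apply, hze, hzw]
      simp
    have h1 := base hzA hz0 hz (tS_fix hs hsz
      ⟨hzx, fun c hc => hsieg _ _ hz hc (Or.inl ⟨hzA, A.smul_mem c hx⟩)⟩)
    have h3 := A.sub_mem h1 hx
    rw [sO_apply] at h3
    convert h3 using 1
    module
  have keyI : ∀ {e w z : V}, e ∈ A' → Q e = 0 → e ∉ A → z ∈ A → z ≠ 0 → Q z = 0 → polar Q z e = 0 → w ∈ A' →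
      polar Q e w = 0 → polar Q z w = 0 → w ∉ Submodule.span F ({e} : Set V) →
      (∃ x ∈ A, polar Q z x = 0 ∧ polar Q x e ≠ 0) → False := by
    intro e w z he heq heA hzA hz0 hz hze hw hew hzw hwe ⟨x1, hx1, hzx1, hxe1⟩
    have hk := key he heq heA hzA hz0 hz hze hw hew hzw
    set x0 := (polar Q x1 e)⁻¹ • x1 with hx0d
    have hx0 : x0 ∈ A := A.smul_mem _ hx1
    have hx0e : polar Q x0 e = 1 := by rw [hx0d, polar_smul_left, smul_eq_mul, inv_mul_cancel₀ hxe1]
    have hzx0 : polar Q z x0 = 0 := polar_perp_smul hzx1 _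
    set c := polar Q x0 w - Q w with hc
    set a := w + (-c) • e with had
    have haA : a ∈ A := by
      have h3 := A.smul_mem (-1 : F) (hk x0 hx0 hzx0)
      rw [hx0e] at h3
      convert h3 using 1
      rw [had, hc]
      module
    have haA' : a ∈ A' := A'.add_mem hw (A'.smul_mem _ he)
    have hqa : Q a = Q w := by rw [had, map_add_smul, polar_comm Q w e, hew, heq]; ring
    have hza : polar Q z a = 0 := by rw [had, polar_add_right, polar_smul_right, hzw, hze, smul_zero, add_zero]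
    have hlin : ∀ x ∈ A, polar Q z x = 0 → polar Q x a = polar Q x e * Q a := by
      intro x hx hzx
      set x' := x + (-polar Q x e) • x0 with hx'
      have hx'e : polar Q x' e = 0 := by
        rw [hx', polar_add_left, polar_smul_left, hx0e, smul_eq_mul]; ring
      have h3 := hk x' (A.add_mem hx (A.smul_mem _ hx0)) (by
        rw [hx', polar_add_right, polar_smul_right, hzx, hzx0, smul_zero, add_zero])
      rw [hx'e] at h3
      simp only [neg_zero, zero_smul, mul_zero, add_zero] at h3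
      have h4 : polar Q x' w = 0 := by
        by_contra hne0
        exact heA ((Submodule.smul_mem_iff _ hne0).1 h3)
      rw [hx', polar_add_left, polar_smul_left, smul_eq_mul] at h4
      rw [hqa, had, hc, polar_add_right, polar_smul_right, smul_eq_mul]
      linear_combination h4
    have hea : polar Q a e = 0 := by
      rw [had, polar_add_left, polar_smul_left, polar_comm Q w e, hew, polar_self', heq, smul_eq_mul]; ring
    have hqa0 : Q a = 0 := by
      have h3 := hlin a haA hza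
      rw [hea, polar_self', zero_mul] at h3
      exact (mul_eq_zero.1 h3).resolve_left h2
    obtain ⟨s, hs⟩ := line_in h.ndA hzA haA fun x hx hzx => by
      rw [polar_comm, hlin x hx hzx, hqa0, mul_zero]
    rcases eq_or_ne s 0 with rfl | hs0
    · rw [zero_smul] at hs
      exact hwe (Submodule.mem_span_singleton.2 ⟨c, by
        rw [had] at hs
        linear_combination (norm := module) hs⟩)
    · exact heA (meet hzA (by rw [← inv_smul_smul₀ hs0 z, hs]; exact A'.smul_mem _ haA') hz0 hz he hze)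
  have keyII : ∀ {e w z : V}, e ∈ A' → Q e = 0 → e ∉ A → z ∈ A → z ≠ 0 → Q z = 0 → polar Q z e = 0 → w ∈ A' →
      polar Q e w = 0 → polar Q z w = 0 → w ∈ A → w ≠ 0 →
      (∀ x ∈ A, polar Q z x = 0 → polar Q x e = 0) → False := by
    intro e w z he heq heA hzA hz0 hz hze hw hew hzw hwA hw0 hall
    have hk := key he heq heA hzA hz0 hz hze hw hew hzw
    obtain ⟨s, hs⟩ := line_in h.ndA hzA hwA fun x hx hzx => by
      have h3 := hk x hx hzx
      rw [hall x hx hzx] at h3
      simp only [neg_zero, zero_smul, mul_zero, add_zero] at h3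
      rw [polar_comm]
      by_contra hne0
      exact heA ((Submodule.smul_mem_iff _ hne0).1 h3)
    have hs0 : s ≠ 0 := fun hs0 => hw0 (by rw [← hs, hs0, zero_smul])
    exact heA (meet hzA (by rw [← inv_smul_smul₀ hs0 z, hs]; exact A'.smul_mem _ hw) hz0 hz he hze)
  have hd4 := h.dimA
  -- every singular vector of `A'` has a singular component in `A`
  have hcomp : ∀ e ∈ A', Q e = 0 → ∀ a ∈ A, ∀ b ∈ B, e = a + b → Q a = 0 := by
    intro e he heq a ha b hb eab
    by_contra hqa
    have heA : e ∉ A := fun heA => hqa (by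
      have hb0 : b = 0 := eq_zero_of_compl h.compl (by
        rw [show b = e - a by rw [eab]; abel]; exact A.sub_mem heA ha) hb
      rwa [eab, hb0, add_zero] at heq)
    have hpe : ∀ x ∈ A, polar Q x e = polar Q x a := fun x hx => by
      rw [eab, polar_add_right, h.perp x hx b hb, add_zero]
    obtain ⟨z, ⟨hzA, hze⟩, hz0, hz⟩ := exists_sing_mem (Q := Q) (A ⊓ LinearMap.ker (polarBilin Q e))
      (by have := finrank_le_inf_ker A (polarBilin Q e); omega)
    have hze' : polar Q z e = 0 := (polar_comm Q z e).trans hze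
    have hW := finrank_le_inf_ker (A' ⊓ LinearMap.ker (polarBilin Q e)) (polarBilin Q z)
    have hW' := finrank_le_inf_ker A' (polarBilin Q e)
    obtain ⟨w, ⟨⟨hw, hew⟩, hzw⟩, hwe⟩ := SetLike.not_le_iff_exists.1
      (show ¬ (A' ⊓ LinearMap.ker (polarBilin Q e) ⊓ LinearMap.ker (polarBilin Q z) ≤ Submodule.span F ({e} : Set V))
        from fun hle => by
          have h3 := Submodule.finrank_mono hle
          have h4 : finrank F (Submodule.span F ({e} : Set V)) ≤ 1 := (finrank_span_le_card _).trans (by simp)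
          omega)
    refine keyI he heq heA hzA hz0 hz hze' hw hew hzw hwe ?_
    by_contra hall
    push Not at hall
    obtain ⟨s, hs⟩ := line_in h.ndA hzA ha fun x hx hzx => by
      rw [polar_comm, ← hpe x hx]; exact hall x hx hzx
    exact hqa (by rw [← hs, map_smul', hz, mul_zero])
  have hdimV := Submodule.finrank_add_eq_of_isCompl h.compl
  have hC : 1 ≤ finrank F ↥(A ⊓ A') := by
    have h3 := Submodule.finrank_sup_add_finrank_inf_eq A A'
    have h4 := Submodule.finrank_le (A ⊔ A')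
    have := h.lt
    omega
  have finish : ∀ e ∈ A', Q e = 0 → e ∉ A → e ∉ B → ∀ w ∈ A, w ∈ A' → w ≠ 0 → polar Q e w = 0 → False := by
    intro e he heq heA heB w hwA hw hw0 hew
    obtain ⟨a, ha, b, hb, eab⟩ := exists_split h.compl e
    have ha0 : a ≠ 0 := fun ha0 => heB (by rw [eab, ha0, zero_add]; exact hb)
    have hqa := hcomp e he heq a ha b hb eab
    have hpe : ∀ x ∈ A, polar Q x e = polar Q x a := fun x hx => by
      rw [eab, polar_add_right, h.perp x hx b hb, add_zero]
    refine keyII he heq heA ha ha0 hqa (by rw [hpe a ha, polar_self', hqa, mul_zero]) hw hew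
      (by rw [polar_comm, ← hpe w hwA, polar_comm, hew]) hwA hw0 fun x hx hax => by rw [hpe x hx, polar_comm, hax]
  have hAB : ∀ {x : V}, x ∈ A → x ∈ B → x = 0 := fun hx hx' => eq_zero_of_compl h.compl hx hx'
  have hnA : ¬ A' ≤ A := fun hle => hne (Submodule.eq_of_le_of_finrank_eq hle hdim')
  have hnB : ¬ A' ≤ B := fun hle => by
    have h3 := Submodule.finrank_mono hle
    have := h.lt
    omega
  rcases Nat.lt_or_ge (finrank F ↥(A ⊓ A')) 2 with hC1 | hC2
  · obtain ⟨x0, hx0, hx00⟩ := Submodule.exists_mem_ne_zero_of_ne_bot (show A ⊓ A' ≠ ⊥ from fun e => by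
      rw [e, finrank_bot] at hC; omega)
    have hR := finrank_le_inf_ker A' (polarBilin Q x0)
    have hqx : Q x0 ≠ 0 := fun hq => by
      have hle : A' ⊓ LinearMap.ker (polarBilin Q x0) ≤ A ⊓ A' := fun y hy =>
        ⟨meet hx0.1 hx0.2 hx00 hq hy.1 hy.2, hy.1⟩
      have h3 := Submodule.finrank_mono hle
      omega
    have hline : ∀ y ∈ A ⊓ A', ∃ s : F, s • x0 = y := fun y hy => by
      have h1 : finrank F ↥(A ⊓ A') = 1 := Nat.le_antisymm (Nat.lt_succ_iff.1 hC1) hC
      obtain ⟨s, hs⟩ := (finrank_eq_one_iff_of_nonzero' (⟨x0, hx0⟩ : ↥(A ⊓ A'))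
        (fun e => hx00 (congrArg Subtype.val e))).1 h1 ⟨y, hy⟩
      exact ⟨s, congrArg Subtype.val hs⟩
    set R := A' ⊓ LinearMap.ker (polarBilin Q x0) with hRd
    have hp0 : polar Q x0 x0 ≠ 0 := by rw [polar_self']; exact mul_ne_zero h2 hqx
    have hproj : ∀ y ∈ A', y - (polar Q x0 y / polar Q x0 x0) • x0 ∈ R := fun y hy =>
      ⟨A'.sub_mem hy (A'.smul_mem _ hx0.2), by
        show polar Q x0 _ = 0
        rw [polar_sub_right, polar_smul_right, smul_eq_mul, div_mul_cancel₀ _ hp0, sub_self]⟩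
    have hndR : NdOn Q R := fun x hx hperp => hnd' x hx.1 fun y hy => by
      have h3 := hperp _ (hproj y hy)
      rw [polar_sub_right, polar_smul_right, polar_comm Q x x0, show polar Q x0 x = 0 from hx.2, smul_zero,
        sub_zero] at h3
      exact h3
    by_cases hex : ∃ e ∈ R, Q e = 0 ∧ e ∉ B
    · obtain ⟨e, he, heq, heB⟩ := hex
      refine finish e he.1 heq (fun heA => heB ?_) heB x0 hx0.1 hx0.2 hx00
        ((polar_comm Q e x0).trans he.2)
      obtain ⟨s, hs⟩ := hline e ⟨heA, he.1⟩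
      rw [← hs, map_smul', mul_eq_zero] at heq
      have hs0 : s = 0 := (mul_self_eq_zero.1 (heq.resolve_right hqx))
      rw [← hs, hs0, zero_smul]
      exact B.zero_mem
    push Not at hex
    have hRB : R ≤ B := le_of_sing h2 hndR (by omega) B hex
    obtain ⟨e, he, heq, heB⟩ : ∃ e ∈ A', Q e = 0 ∧ e ∉ B := by
      by_contra hall
      push Not at hall
      exact hnB (le_of_sing h2 hnd' (by omega) B hall)
    have hq := hcomp e he heq ((polar Q x0 e / polar Q x0 x0) • x0) (A.smul_mem _ hx0.1) _ (hRB (hproj e he))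
      (by abel)
    rw [map_smul', mul_eq_zero] at hq
    have hs0 := mul_self_eq_zero.1 (hq.resolve_right hqx)
    have h3 := hRB (hproj e he)
    rw [hs0, zero_smul, sub_zero] at h3
    exact heB h3
  · obtain ⟨e, he, heq, heA, heB⟩ : ∃ e ∈ A', Q e = 0 ∧ e ∉ A ∧ e ∉ B := by
      by_contra hall
      push Not at hall
      obtain ⟨p, hp, hpq, hpA⟩ : ∃ e ∈ A', Q e = 0 ∧ e ∉ A := by
        by_contra h'
        push Not at h'
        exact hnA (le_of_sing h2 hnd' (by omega) A h')
      obtain ⟨r, hr, hrq, hrB⟩ : ∃ e ∈ A', Q e = 0 ∧ e ∉ B := by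
        by_contra h'
        push Not at h'
        exact hnB (le_of_sing h2 hnd' (by omega) B h')
      have hrA : r ∈ A := by_contra fun hr' => hrB (hall r hr hrq hr')
      have hpB := hall p hp hpq hpA
      have hs : r + p ∈ B := hall (r + p) (A'.add_mem hr hp)
        (by rw [map_add', hrq, hpq, h.perp r hrA p hpB]; ring)
        (fun hm => hpA (by simpa using A.sub_mem hm hrA))
      exact hrB (by simpa using B.sub_mem hs hpB)
    obtain ⟨w, hw, hw0⟩ := Submodule.exists_mem_ne_zero_of_ne_bot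
      (show A ⊓ A' ⊓ LinearMap.ker (polarBilin Q e) ≠ ⊥ from fun e' => by
        have := finrank_le_inf_ker (A ⊓ A') (polarBilin Q e)
        rw [e', finrank_bot] at this
        omega)
    exact finish e he heq heA heB w hw.1.1 hw.1.2 hw0 hw.2

section Matrix

variable {ι : Type} [Fintype ι] [DecidableEq ι] [Fintype F]

theorem isMaximalIn_dec (q : QuadraticForm F (ι → F)) {A B W : Submodule F (ι → F)} (h : Dec q A B)
    (hW : W = A ∨ W = B) (hn : 5 ≤ Fintype.card ι) (hB0 : B ≠ ⊥) (hI : IrrCase q B) :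
    Cfsg.Geo.IsMaximalIn (Cfsg.Geo.omegaGL ⇑q) (Cfsg.Geo.subspaceStabilizer W ⊓ Cfsg.Geo.omegaGL ⇑q) := by
  have hn' : finrank F (ι → F) = Fintype.card ι := Module.finrank_fintype_fun_eq_card F
  have hperpA : ∀ g : oG q, B.map g.1.toLinearMap = B → A.map g.1.toLinearMap = A := fun g hB => by
    refine map_eq_of_le rfl fun x hx => ?_
    obtain ⟨a', ha', b', hb', e⟩ := exists_split h.compl (g.1 x)
    have : b' = 0 := h.ndB b' hb' fun y hy => by
      obtain ⟨y', hy', rfl⟩ : y ∈ B.map g.1.toLinearMap := hB.symm ▸ hy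
      have h1 : polar q (g.1 x) (g.1 y') = polar q b' (g.1 y') := by
        rw [e, polar_add_left, show polar q a' (g.1 y') = 0 from h.perp a' ha' _ hy, zero_add]
      show polar q b' (g.1 y') = 0
      rw [← h1, polar_oG, h.perp x hx y' hy']
    rw [e, this, add_zero]
    exact ha'
  have hperpB : ∀ g : oG q, A.map g.1.toLinearMap = A → B.map g.1.toLinearMap = B := fun g hA => by
    refine map_eq_of_le rfl fun x hx => ?_
    obtain ⟨a', ha', b', hb', e⟩ := exists_split h.compl (g.1 x)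
    have : a' = 0 := h.ndA a' ha' fun y hy => by
      obtain ⟨y', hy', rfl⟩ : y ∈ A.map g.1.toLinearMap := hA.symm ▸ hy
      have h1 : polar q (g.1 x) (g.1 y') = polar q a' (g.1 y') := by
        rw [e, polar_add_left, polar_comm q b', show polar q (g.1 y') b' = 0 from h.perp _ hy b' hb', add_zero]
      show polar q a' (g.1 y') = 0
      rw [← h1, polar_oG, polar_comm, h.perp y' hy' x hx]
    rw [e, this, zero_add]
    exact hb'
  have hmem : ∀ g : oG q, (glEquiv ι F).symm g.1 ∈ Cfsg.Geo.subspaceStabilizer W ↔ A.map g.1.toLinearMap = A := by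
    intro g
    have hx : ∀ x, Matrix.mulVec (Cfsg.glToMat ι F ((glEquiv ι F).symm g.1)) x = g.1 x := fun x => by
      conv_rhs => rw [← (glEquiv ι F).apply_symm_apply g.1]
      rw [glEquiv_apply]
      rfl
    have hiff : (glEquiv ι F).symm g.1 ∈ Cfsg.Geo.subspaceStabilizer W ↔ W.map g.1.toLinearMap = W := by
      refine ⟨fun h => map_eq_of_le rfl fun v hv => hx v ▸ (h v).1 hv, fun h x => ?_⟩
      rw [hx]
      refine ⟨fun hv => h.le (Submodule.mem_map_of_mem hv), fun hv => ?_⟩
      obtain ⟨w, hw, e⟩ := h.ge hv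
      exact g.1.injective e ▸ hw
    rw [hiff]
    rcases hW with rfl | rfl
    · exact Iff.rfl
    · exact ⟨hperpA g, hperpB g⟩
  have hex : Nat.card F ≠ 2 ∨ finrank F (ι → F) ≠ 4 := Or.inr (by omega)
  refine isMaximalIn_omega q h.nd hn _ ?_ fun H hH g hg hgS => ?_
  · obtain ⟨b, hb, hb0⟩ := Submodule.exists_mem_ne_zero_of_ne_bot hB0
    obtain ⟨d, hd, hd0, hdq⟩ := exists_sing_mem (Q := q) A (by have := h.dimA; omega)
    obtain ⟨x', -, hdx⟩ := exists_hyp_pair (Q := q.comp A.subtype) h.ndA.comp (p := ⟨d, hd⟩)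
      (fun e => hd0 (congrArg Subtype.val e)) hdq
    have hdx' : polar q d (x' : ι → F) = 1 := hdx
    have hdb : polar q d b = 0 := h.perp d hd b hb
    refine ⟨sO hdq hdb, sO_mem_commutator h.nd hex _ _, fun hm => hb0 ?_⟩
    have h1 : (sO hdq hdb).1 x' ∈ A := ((hmem _).1 hm).le (Submodule.mem_map_of_mem x'.2)
    rw [sO_apply, h.perp x' x'.2 b hb, polar_comm q (x' : ι → F) d, hdx'] at h1
    simp only [zero_smul, add_zero, mul_one] at h1
    have h2 := A.sub_mem (A.sub_mem h1 x'.2) (A.smul_mem (-q b) hd)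
    rw [show (x' : ι → F) + (-1 : F) • b + (-q b) • d - x' - (-q b) • d = (-1 : F) • b by module] at h2
    have h3 := eq_zero_of_compl h.compl h2 (B.smul_mem _ hb)
    simpa using h3
  have hsieg : ∀ (p w : ι → F) (hp : q p = 0) (hpw : polar q p w = 0),
      (p ∈ A ∧ w ∈ A) ∨ (p ∈ B ∧ w ∈ B) → sO hp hpw ∈ H := by
    intro p w hp hpw hh
    refine hH _ (sO_mem_commutator h.nd hex _ _) ((hmem _).2 (map_eq_of_le rfl fun x hx => ?_))
    rw [sO_apply]
    rcases hh with ⟨hpA, hwA⟩ | ⟨hpB, hwB⟩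
    · exact A.add_mem (A.add_mem (A.add_mem hx (A.smul_mem _ hpA)) (A.smul_mem _ hwA)) (A.smul_mem _ hpA)
    · rw [h.perp x hx p hpB, h.perp x hx w hwB]
      simpa using hx
  refine eo_of_second h hI hsieg (fun a ha b hb haq hbq e =>
    hH _ (rO_mul_mem_commutator h.nd hbq haq (t := 1) (by rw [e]; ring))
      ((hmem _).2 (map_eq_of_le rfl fun x hx => ?_))) (A' := A.map g.1.toLinearMap) ?_
      (LinearEquiv.finrank_map_eq g.1 A) (fun e => hgS ((hmem g).2 e)) ?_
  · rw [oG_mul_apply, rO_apply haq, rO_apply hbq]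
    have hx' : x - (polar q x a / q a) • a ∈ A := A.sub_mem hx (A.smul_mem _ ha)
    rw [h.perp _ hx' b hb, zero_div, zero_smul, sub_zero]
    exact hx'
  · rintro _ ⟨x, hx, rfl⟩ hperp
    have : x = 0 := h.ndA x hx fun y hy => by
      rw [← polar_oG g]; exact hperp _ (Submodule.mem_map_of_mem hy)
    rw [this, map_zero]
  · rintro _ _ hp hpw ⟨p, hpA, rfl⟩ ⟨w, hwA, rfl⟩
    have hp' : q p = 0 := (g.2 p).symm.trans hp
    have hpw' : polar q p w = 0 := (polar_oG g p w).symm.trans hpw
    have h1 := mul_mem (mul_mem hg (hsieg p w hp' hpw' (Or.inl ⟨hpA, hwA⟩))) (inv_mem hg)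
    rw [conj_sO] at h1
    exact h1

/-- maximality of the stabiliser of a non-degenerate subspace with a side of dimension at least 4, not a half -/
theorem isMaximalIn_nd4 (q : QuadraticForm F (ι → F)) (hQ : (polarBilin q).Nondegenerate) (h2 : (2 : F) ≠ 0)
    (hn : 5 ≤ Fintype.card ι) {W : Submodule F (ι → F)} (hW : NdOn q W) (hW0 : W ≠ ⊥) (hW1 : W ≠ ⊤)
    (hbig : 4 ≤ max (finrank F W) (Fintype.card ι - finrank F W)) (hhalf : 2 * finrank F W ≠ Fintype.card ι)
    (hex : ∀ U : Submodule F (ι → F), finrank F U = 2 → Nat.card F ≤ 3 → (U = W ∨ U = perpS q W) →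
      ∀ b ∈ U, q b = 0 → b = 0) :
    Cfsg.Geo.IsMaximalIn (Cfsg.Geo.omegaGL ⇑q) (Cfsg.Geo.subspaceStabilizer W ⊓ Cfsg.Geo.omegaGL ⇑q) := by
  obtain ⟨hc, hperp, hnd'⟩ := nondeg_compl q hQ hW
  have hsum := finrank_perpS hQ W
  rw [Module.finrank_fintype_fun_eq_card] at hsum
  have hB0 : perpS q W ≠ ⊥ := fun h => hW1 (by
    have := hc.sup_eq_top
    rwa [h, sup_bot_eq] at this)
  have irr : ∀ U : Submodule F (ι → F), NdOn q U → U ≠ ⊥ → (U = W ∨ U = perpS q W) → IrrCase q U := by
    intro U hU hU0 hUW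
    by_cases h3 : 3 ≤ finrank F U
    · exact Or.inl h3
    have hpos := finrank_pos_of_ne_bot hU0
    by_cases h1 : finrank F U = 1
    · refine Or.inr (Or.inl fun b hb hbq => ?_)
      by_contra hb0
      refine hb0 (hU b hb fun y hy => ?_)
      obtain ⟨t, ht⟩ := (finrank_eq_one_iff_of_nonzero' (⟨b, hb⟩ : U) (fun e => hb0 (congrArg Subtype.val e))).1 h1 ⟨y, hy⟩
      have ht' : t • b = y := congrArg Subtype.val ht
      rw [← ht', polar_smul_right, polar_self', hbq, mul_zero, smul_zero]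
    by_cases hq : Nat.card F ≤ 3
    · exact Or.inr (Or.inl (hex U (by omega) hq hUW))
    · exact Or.inr (Or.inr ⟨by omega, by omega⟩)
  rcases Nat.lt_or_ge (finrank F W) (finrank F (perpS q W)) with hlt | hge
  · exact isMaximalIn_dec q (A := perpS q W) (B := W)
      ⟨h2, hQ, hc.symm, fun a ha b hb => (polar_comm q a b).trans (hperp b hb a ha), hnd', hW, by omega, hlt⟩
      (Or.inr rfl) hn hW0 (irr W hW hW0 (Or.inl rfl))
  · exact isMaximalIn_dec q (A := W) (B := perpS q W) ⟨h2, hQ, hc, hperp, hW, hnd', by omega, by omega⟩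
      (Or.inl rfl) hn hB0 (irr _ hnd' hB0 (Or.inr rfl))

end Matrix

end Cfsg.Agent.ClassicalMax.NdFour
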