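import Mathlib
import Cfsg.Agent.ClassicalMax.Transvection
import Cfsg.Prelude.Def_GeometricClasses

/-! Stabilisers of two subspaces lie properly in the stabiliser of one of them. -/

set_option autoImplicit false

namespace Cfsg.Agent.ClassicalMax
open Cfsg Module

variable {F : Type*} [Field F] {n : ℕ}

theorem mem_stab_iff' (W : Submodule F (Fin n → F)) (g : (Fin n → F) ≃ₗ[F] (Fin n → F)) :
    (glEquiv (Fin n) F).symm g ∈ Cfsg.Geo.subspaceStabilizer W ↔ ∀ v, v ∈ W ↔ g v ∈ W := by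
  show (∀ v, v ∈ (W : Set (Fin n → F)) ↔ (((glEquiv (Fin n) F).symm g : Matrix.GeneralLinearGroup (Fin n) F) : Matrix (Fin n) (Fin n) F).mulVec v ∈ (W : Set (Fin n → F))) ↔ _
  simp only [symm_mulVec, SetLike.mem_coe]

/-- a transvection fixing `A` and moving `B` -/
theorem exists_tvec_split (A B : Submodule F (Fin n → F)) {b x : Fin n → F} (hb : b ∈ B)
    (hx : x ∉ B) (hA : b ∉ A ⊔ Submodule.span F {x}) :
    ∃ k ∈ Cfsg.Geo.subspaceStabilizer A ⊓ Cfsg.Geo.specialLinear (Fin n) F,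
      k ∉ Cfsg.Geo.subspaceStabilizer B := by
  obtain ⟨ψ, hψ, hA'⟩ := (A ⊔ Submodule.span F {x}).exists_le_ker_of_notMem hA
  set φ := (ψ b)⁻¹ • ψ
  have hb1 : φ b = 1 := by simp [φ, hψ]
  have h0 : φ x = 0 := by
    simp [φ, LinearMap.mem_ker.1 (hA' (Submodule.mem_sup_right (Submodule.mem_span_singleton_self x)))]
  have hA0 : ∀ a ∈ A, φ a = 0 := fun a ha => by
    simp [φ, LinearMap.mem_ker.1 (hA' (Submodule.mem_sup_left ha))]
  refine ⟨(glEquiv (Fin n) F).symm (tvec φ x), ⟨(mem_stab_iff' A _).2 fun v => ?_, tvec_mem_specialLinear φ x⟩,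
    fun hk => ?_⟩
  · rw [tvec_apply h0]
    refine ⟨fun hv => by rwa [hA0 v hv, zero_smul, add_zero], fun hv => ?_⟩
    have := hA0 _ hv
    rw [map_add, map_smul, h0, smul_zero, add_zero] at this
    rwa [this, zero_smul, add_zero] at hv
  · have := ((mem_stab_iff' B _).1 hk b).1 hb
    rw [tvec_apply h0, hb1, one_smul] at this
    exact hx ((B.add_mem_iff_right hb).1 this)

/-- the general statement -/
theorem not_maximal_pair (A B : Submodule F (Fin n → F)) {b x : Fin n → F} (hb : b ∈ B)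
    (hx : x ∉ B) (hA : b ∉ A ⊔ Submodule.span F {x}) {a y : Fin n → F} (ha : a ∈ A) (hy : y ∉ A)
    (ha' : a ∉ Submodule.span F {y}) :
    Cfsg.Geo.subspaceStabilizer A ⊓ Cfsg.Geo.subspaceStabilizer B ⊓ Cfsg.Geo.specialLinear (Fin n) F <
        Cfsg.Geo.subspaceStabilizer A ⊓ Cfsg.Geo.specialLinear (Fin n) F ∧
      Cfsg.Geo.subspaceStabilizer A ⊓ Cfsg.Geo.specialLinear (Fin n) F <
        Cfsg.Geo.specialLinear (Fin n) F := by
  obtain ⟨k, hk, hk'⟩ := exists_tvec_split A B hb hx hA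
  obtain ⟨l, hl, hl'⟩ := exists_tvec_split ⊥ A ha hy (by rwa [bot_sup_eq])
  exact ⟨lt_of_le_not_ge (inf_le_inf_right _ inf_le_left) fun h => hk' (h hk).1.2,
    lt_of_le_not_ge inf_le_right fun h => hl' (h hl.2).1⟩

theorem not_max_chain (W U : Submodule F (Fin n → F)) (hW0 : W ≠ ⊥) (hWU : W < U)
    (hdim : finrank F W + finrank F U = n) :
    ∃ K, Cfsg.Geo.subspaceStabilizer W ⊓ Cfsg.Geo.subspaceStabilizer U ⊓
        Cfsg.Geo.specialLinear (Fin n) F < K ∧ K < Cfsg.Geo.specialLinear (Fin n) F := by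
  obtain ⟨w, hw, hw0⟩ := W.exists_mem_ne_zero_of_ne_bot hW0
  obtain ⟨u, hu, huW⟩ := SetLike.exists_of_lt hWU
  obtain ⟨x, hx⟩ : ∃ x, x ∉ U := by
    by_contra! h
    rw [show U = ⊤ from eq_top_iff.2 fun v _ => h v, finrank_top, finrank_fin_fun] at hdim
    exact hW0 (Submodule.finrank_eq_zero.1 (by omega))
  refine ⟨_, not_maximal_pair W U hu hx ?_ hw huW ?_⟩
  · intro h
    obtain ⟨a, ha, c, hc, rfl⟩ := Submodule.mem_sup.1 h
    obtain ⟨r, rfl⟩ := Submodule.mem_span_singleton.1 hc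
    rcases eq_or_ne r 0 with rfl | hr
    · exact huW (by simpa using ha)
    · exact hx ((U.smul_mem_iff hr).1 ((U.add_mem_iff_right (hWU.le ha)).1 hu))
  · intro h
    obtain ⟨r, rfl⟩ := Submodule.mem_span_singleton.1 h
    exact huW ((W.smul_mem_iff fun e => hw0 (by rw [e, zero_smul])).1 hw)

theorem not_max_compl (W U : Submodule F (Fin n → F)) (hW0 : W ≠ ⊥) (hWU : W ⊓ U = ⊥)
    (hdim : finrank F W < finrank F U) :
    ∃ K, Cfsg.Geo.subspaceStabilizer W ⊓ Cfsg.Geo.subspaceStabilizer U ⊓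
        Cfsg.Geo.specialLinear (Fin n) F < K ∧ K < Cfsg.Geo.specialLinear (Fin n) F := by
  obtain ⟨w, hw, hw0⟩ := W.exists_mem_ne_zero_of_ne_bot hW0
  obtain ⟨u, hu, hu0⟩ := U.exists_mem_ne_zero_of_ne_bot (fun e => by rw [e, finrank_bot] at hdim; omega)
  have hwU : w ∉ U := fun h => hw0 (by
    have : w ∈ W ⊓ U := ⟨hw, h⟩
    rwa [hWU, Submodule.mem_bot] at this)
  have huW : u ∉ W := fun h => hu0 (by
    have : u ∈ W ⊓ U := ⟨h, hu⟩
    rwa [hWU, Submodule.mem_bot] at this)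
  rw [inf_comm (Cfsg.Geo.subspaceStabilizer W)]
  refine ⟨_, not_maximal_pair U W hw huW ?_ hu hwU ?_⟩
  · rwa [sup_eq_left.2 (by rw [Submodule.span_singleton_le_iff_mem]; exact hu)]
  · intro h
    obtain ⟨r, rfl⟩ := Submodule.mem_span_singleton.1 h
    exact hwU ((U.smul_mem_iff fun e => hu0 (by rw [e, zero_smul])).1 hu)

end Cfsg.Agent.ClassicalMax
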