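import Cfsg.Agent.ClassicalMax.RootNondeg

/-!
Overgroups in orthogonal groups of the stabiliser of two orthogonal non-degenerate subspaces of dimension at least 5,
containing the Siegel transformations of the two parts.
-/

set_option autoImplicit false
set_option linter.unusedSectionVars false
set_option linter.style.haveILetI false

namespace Cfsg.Agent.ClassicalMax.RootPlanes

open Module QuadraticMap Cfsg.Agent.Classical Cfsg.Agent.Classical.Quad

variable {F V : Type*} [Field F] [Finite F] [AddCommGroup V] [Module F V] [FiniteDimensional F V]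
  {Q : QuadraticForm F V} {A B : Submodule F V} {H : Subgroup (oG Q)}

/-- orthogonal complementary subspaces of dimension at least 5 -/
structure ODec5 (Q : QuadraticForm F V) (A B : Submodule F V) : Prop where
  compl : IsCompl A B
  perp : ∀ a ∈ A, ∀ b ∈ B, polar Q a b = 0
  ndA : NdOn Q A
  ndB : NdOn Q B
  dimA : 5 ≤ finrank F A
  dimB : 5 ≤ finrank F B

variable (H) in
/-- the Siegel transformations of `A` lie in `H` -/
def SOn (A : Submodule F V) : Prop :=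
  ∀ (d w : V), d ∈ A → w ∈ A → ∀ (hd : Q d = 0) (h : polar Q d w = 0), sO hd h ∈ H

theorem SOn.pl (hA : SOn H A) {a b : V} (ha : a ∈ A) (hb : b ∈ A) (haq : Q a = 0) (hbq : Q b = 0)
    (hab : polar Q a b = 0) : Pl H a b :=
  ⟨haq, hbq, hab, fun l hu h => hA a (l • b) ha (A.smul_mem l hb) hu h⟩

/-- conjugation by a Siegel transformation -/
theorem Pl.siegel (hA : SOn H A) {u v d w : V} (hp : Pl H u v) (hd : d ∈ A) (hw : w ∈ A) (hdq : Q d = 0)
    (hdw : polar Q d w = 0) (hud : polar Q u d = 0) (huw : polar Q u w = 0) (hvd : polar Q v d = 0)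
    (hvw : polar Q v w = 1) : Pl H d u := by
  have h1 := hp.conj (hA d w hd hw hdq hdw)
  have eu : (sO hdq hdw).1 u = u := by rw [sO_apply, hud, huw]; simp
  have ev : (sO hdq hdw).1 v = v + d := by rw [sO_apply, hvd, hvw]; simp
  rw [eu, ev] at h1
  have h2 := h1.add_right (hp.smul_right (-1)) (by
    rw [polar_smul_right, polar_add_left, polar_self', hp.2.1, polar_comm Q d v, hvd]
    simp)
  rw [show v + d + (-1 : F) • v = d by module] at h2
  exact h2.symm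

/-- a singular vector orthogonal to two vectors -/
theorem sing_perp5 (hd : 5 ≤ finrank F A) {a b : V} (ha : a ∈ A) (hb : b ∈ A) :
    ∃ c ∈ A, c ≠ 0 ∧ Q c = 0 ∧ polar Q a c = 0 ∧ polar Q b c = 0 := by
  set X := LinearMap.ker ((LinearMap.lcomp F F (Submodule.span F ({⟨a, ha⟩, ⟨b, hb⟩} : Set A)).subtype).comp
    (polarBilin (Q.comp A.subtype)))
  have hle := finrank_comap_pair_le (⟨a, ha⟩ : A) ⟨b, hb⟩
  have h3 : finrank F A ≤ finrank F X + finrank F (Submodule.span F ({⟨a, ha⟩, ⟨b, hb⟩} : Set A)) :=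
    finrank_perp_ge _
  obtain ⟨c, hc0, hc⟩ := exists_singular ((Q.comp A.subtype).comp X.subtype) (by omega)
  have key : ∀ y : A, y ∈ Submodule.span F ({⟨a, ha⟩, ⟨b, hb⟩} : Set A) → polar Q y.1 c.1.1 = 0 := fun y hy => by
    rw [polar_comm]
    exact LinearMap.congr_fun (LinearMap.mem_ker.1 c.2) ⟨y, hy⟩
  exact ⟨c.1.1, c.1.2, fun h => hc0 (Subtype.ext (Subtype.ext h)), hc,
    key ⟨a, ha⟩ (Submodule.subset_span (Or.inl rfl)), key ⟨b, hb⟩ (Submodule.subset_span (Or.inr rfl))⟩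

/-- a vector orthogonal to two vectors and paired with a third -/
theorem NdOn.sep_pair (h : NdOn Q A) {a b x : V} (ha : a ∈ A) (hb : b ∈ A) (hx : x ∈ A)
    (hind : x ∉ Submodule.span F ({a, b} : Set V)) :
    ∃ w ∈ A, polar Q a w = 0 ∧ polar Q b w = 0 ∧ polar Q x w = 1 := by
  obtain ⟨w, hw, hxw⟩ := exists_perp h.comp (S := Submodule.span F ({⟨a, ha⟩, ⟨b, hb⟩} : Set A)) (x := (⟨x, hx⟩ : A))
    fun hm => hind (by
      obtain ⟨s, t, e⟩ := Submodule.mem_span_pair.1 hm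
      exact Submodule.mem_span_pair.2 ⟨s, t, congrArg Subtype.val e⟩)
  have key : ∀ y z : A, polar (Q.comp A.subtype) y z = polar Q y.1 z.1 := fun y z => by simp [polar]
  exact ⟨w, w.2, by rw [← hw ⟨a, ha⟩ (Submodule.subset_span (Or.inl rfl)), key],
    by rw [← hw ⟨b, hb⟩ (Submodule.subset_span (Or.inr rfl)), key], by rw [← hxw, key]⟩

theorem ODec5.symm (h : ODec5 Q A B) : ODec5 Q B A :=
  ⟨h.compl.symm, fun b hb a ha => by rw [polar_comm]; exact h.perp a ha b hb, h.ndB, h.ndA, h.dimB, h.dimA⟩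

theorem ODec5.polarL (h : ODec5 Q A B) {u u₀ u₁ y : V} (hu₁ : u₁ ∈ B) (eu : u = u₀ + u₁) (hy : y ∈ A) :
    polar Q u y = polar Q u₀ y := by
  rw [eu, polar_add_left, polar_comm Q u₁ y, h.perp y hy u₁ hu₁, add_zero]

theorem ODec5.polarR (h : ODec5 Q A B) {u u₀ u₁ y : V} (hu₀ : u₀ ∈ A) (eu : u = u₀ + u₁) (hy : y ∈ B) :
    polar Q u y = polar Q u₁ y := by
  rw [eu, polar_add_left, h.perp u₀ hu₀ y hy, zero_add]

/-- from a plane with independent components in `A` -/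
theorem ODec5.stepA (h : ODec5 Q A B) (hbase : SOn H A) {u v u₀ u₁ v₀ v₁ : V} (hp : Pl H u v) (hu₀ : u₀ ∈ A)
    (hu₁ : u₁ ∈ B) (hv₀ : v₀ ∈ A) (hv₁ : v₁ ∈ B) (eu : u = u₀ + u₁) (ev : v = v₀ + v₁)
    (hu00 : u₀ ≠ 0) (hind : v₀ ∉ Submodule.span F ({u₀} : Set V)) :
    ∃ d ∈ A, d ≠ 0 ∧ ∃ x ∈ Submodule.span F ({u, v} : Set V), x ≠ 0 ∧ Pl H d x := by
  obtain ⟨d, hd, hd0, hdq, hud, hvd⟩ := sing_perp5 (Q := Q) h.dimA hu₀ hv₀
  by_cases hm : v₀ ∈ Submodule.span F ({d, u₀} : Set V)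
  · obtain ⟨s, t, hst⟩ := Submodule.mem_span_pair.1 hm
    have hs : s ≠ 0 := fun h' => hind (Submodule.mem_span_singleton.2 ⟨t, by rw [← hst, h', zero_smul, zero_add]⟩)
    obtain ⟨x, hx⟩ : ∃ x, x = s⁻¹ • v + (-(s⁻¹ * t)) • u := ⟨_, rfl⟩
    have hxe : x = d + (s⁻¹ • v₁ + (-(s⁻¹ * t)) • u₁) := by
      rw [hx, eu, ev, ← hst]
      match_scalars <;> field_simp <;> ring
    have hx1 : s⁻¹ • v₁ + (-(s⁻¹ * t)) • u₁ ∈ B := B.add_mem (B.smul_mem _ hv₁) (B.smul_mem _ hu₁)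
    have hxs : x ∈ Submodule.span F ({u, v} : Set V) := by
      rw [hx]; exact Submodule.add_mem _ (Submodule.smul_mem _ _ (Submodule.subset_span (by simp)))
        (Submodule.smul_mem _ _ (Submodule.subset_span (by simp)))
    have hu0 : u₀ ∉ Submodule.span F ({d, d} : Set V) := fun hm' => by
      obtain ⟨r, hr⟩ := Submodule.mem_span_singleton.1 (by simpa using hm')
      rcases eq_or_ne r 0 with rfl | hr0
      · exact hu00 (by rw [← hr, zero_smul])
      · exact hind (Submodule.mem_span_singleton.2 ⟨s * r⁻¹ + t, by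
          rw [← hst, ← hr]
          match_scalars
          field_simp⟩)
    obtain ⟨w, hw, hdw, -, huw⟩ := h.ndA.sep_pair hd hd hu₀ hu0
    have hdd : polar Q d d = 0 := by rw [polar_self', hdq, mul_zero]
    refine ⟨d, hd, hd0, x, hxs, fun hx0 => hd0 ?_, (hp.span hxs (Submodule.subset_span (Set.mem_insert u {v}))).siegel hbase hd hw
      hdq hdw (by rw [h.polarL hx1 hxe hd, hdd]) (by rw [h.polarL hx1 hxe hw, hdw])
      (by rw [h.polarL hu₁ eu hd, hud]) (by rw [h.polarL hu₁ eu hw, huw])⟩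
    exact eq_zero_of_compl h.compl hd (by
      have e : d = -(s⁻¹ • v₁ + (-(s⁻¹ * t)) • u₁) := eq_neg_of_add_eq_zero_left (hxe ▸ hx0)
      rw [e]; exact B.neg_mem hx1)
  · obtain ⟨w, hw, hdw, huw, hvw⟩ := h.ndA.sep_pair hd hu₀ hv₀ hm
    refine ⟨d, hd, hd0, u, Submodule.subset_span (by simp), fun h' => ?_, hp.siegel hbase hd hw hdq hdw
      (by rw [h.polarL hu₁ eu hd, hud]) (by rw [h.polarL hu₁ eu hw, huw])
      (by rw [h.polarL hv₁ ev hd, hvd]) (by rw [h.polarL hv₁ ev hw, hvw])⟩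
    exact hu00 (eq_zero_of_compl h.compl hu₀ (by
      have e : u₀ = -u₁ := eq_neg_of_add_eq_zero_left (eu ▸ h')
      rw [e]; exact B.neg_mem hu₁))

/-- a plane through `d ∈ A` leads to a mixed one -/
theorem ODec5.stepB (h : ODec5 Q A B) (hbase : SOn H B) {d u u₀ u₁ : V} (hd : d ∈ A) (hp : Pl H d u) (hu₀ : u₀ ∈ A)
    (hu₁ : u₁ ∈ B) (eu : u = u₀ + u₁) (h1 : u₁ ≠ 0) : ∃ x ∈ B, x ≠ 0 ∧ Q x = 0 ∧ Pl H d x := by
  obtain ⟨x, hx, hxq, hxn, hux⟩ := perp1 (Q := Q) h.dimB hu₁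
  have hn : u₁ ∉ Submodule.span F ({x, x} : Set V) := fun hm => by
    obtain ⟨s, hs⟩ := Submodule.mem_span_singleton.1 (by simpa using hm)
    have hs0 : s ≠ 0 := fun h' => h1 (by rw [← hs, h', zero_smul])
    exact hxn (Submodule.mem_span_singleton.2 ⟨s⁻¹, by rw [← hs, inv_smul_smul₀ hs0]⟩)
  obtain ⟨w, hw, hxw, -, huw⟩ := h.ndB.sep_pair hx hx hu₁ hn
  exact ⟨x, hx, ne_zero_of_notin hxn, hxq, (hp.siegel hbase hx hw hxq hxw (h.perp d hd x hx) (h.perp d hd w hw)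
    (by rw [h.polarR hu₀ eu hx, hux]) (by rw [h.polarR hu₀ eu hw, huw])).symm⟩

theorem ODec5.mixed_all (h : ODec5 Q A B) (hbase : SOn H B) {d x : V} (hd : d ∈ A) (hx : x ∈ B) (hx0 : x ≠ 0)
    (hp : Pl H d x) {y : V} (hy : y ∈ B) (hyq : Q y = 0) : Pl H d y := by
  have key : ∀ {x y : V}, x ∈ B → x ≠ 0 → y ∈ B → Q y = 0 → polar Q x y = 0 → Pl H d x → Pl H d y := by
    intro x y hx hx0 hy hyq hxy hp
    by_cases hm : x ∈ Submodule.span F ({y, y} : Set V)
    · obtain ⟨s, hs⟩ := Submodule.mem_span_singleton.1 (by simpa using hm)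
      have hs0 : s ≠ 0 := fun h' => hx0 (by rw [← hs, h', zero_smul])
      have := hp.smul_right s⁻¹
      rwa [← hs, inv_smul_smul₀ hs0] at this
    obtain ⟨w, hw, hyw, -, hxw⟩ := h.ndB.sep_pair hy hy hx hm
    exact (hp.siegel hbase hy hw hyq hyw (h.perp d hd y hy) (h.perp d hd w hw) hxy hxw).symm
  obtain ⟨z, hz, hz0, hzq, hxz, hyz⟩ := sing_perp5 (Q := Q) h.dimB hx hy
  exact key hz hz0 hy hyq (by rw [polar_comm, hyz]) (key hx hx0 hz hzq hxz hp)

theorem ODec5.mem_map (h : ODec5 Q A B) {g : oG Q} (hA : A.map g.1.toLinearMap = A) : B.map g.1.toLinearMap = B := by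
  refine map_eq_of_le rfl fun b hb => ?_
  obtain ⟨a, ha, b', hb', e⟩ := exists_split h.compl (g.1 b)
  have : a = 0 := h.ndA a ha fun y hy => by
    obtain ⟨y', hy', rfl⟩ : y ∈ A.map g.1.toLinearMap := hA.symm ▸ hy
    rw [← h.polarL hb' e (hA ▸ Submodule.mem_map_of_mem hy')]
    show polar Q (g.1 b) (g.1 y') = 0
    rw [polar_oG, polar_comm, h.perp y' hy' b hb]
  rw [e, this, zero_add]
  exact hb'

/-- an element moving `A` elsewhere carries some plane of `A` into neither of the two subspaces -/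
theorem ODec5.exists_out (h : ODec5 Q A B) (heq : finrank F A = finrank F B) (g : oG Q) (hA : A.map g.1.toLinearMap ≠ A)
    (hB : A.map g.1.toLinearMap ≠ B) :
    ∃ u ∈ A, ∃ v ∈ A, u ≠ 0 ∧ Q u = 0 ∧ Q v = 0 ∧ polar Q u v = 0 ∧ v ∉ Submodule.span F ({u} : Set V) ∧
      (g.1 u ∉ A ∨ g.1 v ∉ A) ∧ (g.1 u ∉ B ∨ g.1 v ∉ B) := by
  by_contra hc
  have pair : ∀ u ∈ A, ∀ v ∈ A, u ≠ 0 → Q u = 0 → Q v = 0 → polar Q u v = 0 → v ∉ Submodule.span F ({u} : Set V) →
      (g.1 u ∈ A ∧ g.1 v ∈ A) ∨ (g.1 u ∈ B ∧ g.1 v ∈ B) := fun u hu v hv h0 h1 h2 h3 h4 => by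
    by_contra h5
    push Not at h5
    exact hc ⟨u, hu, v, hv, h0, h1, h2, h3, h4, by tauto, by tauto⟩
  -- all singular vectors go to the same side
  obtain ⟨a, ha, haq, han, -⟩ := perp1 (Q := Q) h.dimA A.zero_mem
  have ha0 := ne_zero_of_notin han
  have side : ∀ (C : Submodule F V), g.1 a ∈ C → (C = A ∨ C = B) → ∀ z ∈ A, Q z = 0 → g.1 z ∈ C := by
    intro C haC hC z hz hzq
    rcases eq_or_ne z 0 with rfl | hz0
    · rw [map_zero]; exact C.zero_mem
    by_cases hza : z ∈ Submodule.span F ({a} : Set V)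
    · obtain ⟨s, rfl⟩ := Submodule.mem_span_singleton.1 hza
      rw [map_smul]; exact C.smul_mem s haC
    have hne : ∀ {y}, y ≠ 0 → g.1 y ∈ A → g.1 y ∈ B → False := fun hy h1 h2 =>
      hy (g.1.map_eq_zero_iff.1 (eq_zero_of_compl h.compl h1 h2))
    rcases eq_or_ne (polar Q a z) 0 with haz | haz
    · rcases hC with rfl | rfl
      · exact ((pair a ha z hz ha0 haq hzq haz hza).resolve_right fun h' => hne ha0 haC h'.1).2
      · exact ((pair a ha z hz ha0 haq hzq haz hza).resolve_left fun h' => hne ha0 h'.1 haC).2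
    obtain ⟨w, hw, hw0, hwq, haw, hzw⟩ := sing_perp5 (Q := Q) h.dimA ha hz
    have hw1 : w ∉ Submodule.span F ({a} : Set V) := fun hm => by
      obtain ⟨s, rfl⟩ := Submodule.mem_span_singleton.1 hm
      rw [polar_smul_right, polar_comm Q z a, smul_eq_mul] at hzw
      exact hw0 (by rw [(mul_eq_zero.1 hzw).resolve_right haz, zero_smul])
    have hw2 : w ∉ Submodule.span F ({z} : Set V) := fun hm => by
      obtain ⟨s, rfl⟩ := Submodule.mem_span_singleton.1 hm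
      rw [polar_smul_right, smul_eq_mul] at haw
      exact hw0 (by rw [(mul_eq_zero.1 haw).resolve_right haz, zero_smul])
    rcases hC with rfl | rfl
    · have h1 : g.1 w ∈ C := ((pair a ha w hw ha0 haq hwq haw hw1).resolve_right fun h' => hne ha0 haC h'.1).2
      exact ((pair z hz w hw hz0 hzq hwq hzw hw2).resolve_right fun h' => hne hw0 h1 h'.2).1
    · have h1 : g.1 w ∈ C := ((pair a ha w hw ha0 haq hwq haw hw1).resolve_left fun h' => hne ha0 h'.1 haC).2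
      exact ((pair z hz w hw hz0 hzq hwq hzw hw2).resolve_left fun h' => hne hw0 h'.2 h1).1
  have done : ∀ C : Submodule F V, g.1 a ∈ C → (C = A ∨ C = B) → finrank F A = finrank F C →
      A.map g.1.toLinearMap = C := fun C haC hC hd => map_eq_of_le hd fun y hy =>
    show y ∈ C.comap g.1.toLinearMap from perp_le5 h.ndA h.dimA A.zero_mem (map_zero Q) (C.comap g.1.toLinearMap)
      (fun z hz hzq _ => side C haC hC z hz hzq) hy (by simp [polar])
  obtain ⟨w, hw, hwq, hwn, haw⟩ := perp1 (Q := Q) h.dimA ha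
  rcases pair a ha w hw ha0 haq hwq haw hwn with h' | h'
  · exact hA (done A h'.1 (Or.inl rfl) rfl)
  · exact hB (done B h'.1 (Or.inr rfl) heq)

theorem ODec5.full (h : ODec5 Q A B) (hbase : SOn H A)
    (hmix : ∀ a ∈ A, ∀ b ∈ B, Q a = 0 → Q b = 0 → Pl H a b) {e : V} (he : e ∈ A) (heq : Q e = 0) : Full H e := by
  refine full_of_tS heq fun w hw => ?_
  obtain ⟨w₀, hw₀, w₁, hw₁, rfl⟩ := exists_split h.compl w
  rw [polar_add_right, h.perp e he w₁ hw₁, add_zero] at hw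
  exact Submodule.add_mem _
    (perp_le5 h.ndA h.dimA he heq _ (fun z hz hzq hez => mem_tS (hbase.pl he hz heq hzq hez)) hw₀ hw)
    (perp_le5 h.ndB h.dimB B.zero_mem (map_zero Q) _ (fun z hz hzq _ => mem_tS (hmix e he z hz heq hzq)) hw₁
      (by simp [polar]))

/-- the members are not carried into each other -/
theorem ODec5.over (h : ODec5 Q A B) (hQ : (polarBilin Q).Nondegenerate) (heq : finrank F A = finrank F B)
    (hbA : SOn H A) (hbB : SOn H B)
    (hne : ∀ g : oG Q, A.map g.1.toLinearMap ≠ B) {g : oG Q} (hg : g ∈ H)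
    (hgS : ¬ (A.map g.1.toLinearMap = A ∧ B.map g.1.toLinearMap = B)) : eo Q ≤ H := by
  obtain ⟨u, hu, v, hv, hu0', huq, hvq, huv, hind, hnA, hnB⟩ :=
    h.exists_out heq g (fun h' => hgS ⟨h', h.mem_map h'⟩) (hne g)
  have hp := (hbA.pl hu hv huq hvq huv).conj hg
  obtain ⟨u₀, hu₀, u₁, hu₁, eu⟩ := exists_split h.compl (g.1 u)
  obtain ⟨v₀, hv₀, v₁, hv₁, ev⟩ := exists_split h.compl (g.1 v)
  -- a mixed plane
  obtain ⟨d, hd, x, hx, hd0, hdq, hx0, hxq, hdx⟩ :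
      ∃ d ∈ A, ∃ x ∈ B, d ≠ 0 ∧ Q d = 0 ∧ x ≠ 0 ∧ Q x = 0 ∧ Pl H d x := by
    have fromB : ∀ {w u' u₀' u₁' : V}, Pl H w u' → w ∈ B → w ≠ 0 → u₀' ∈ A → u₁' ∈ B → u' = u₀' + u₁' → u₀' ≠ 0 →
        ∃ d ∈ A, ∃ x ∈ B, d ≠ 0 ∧ Q d = 0 ∧ x ≠ 0 ∧ Q x = 0 ∧ Pl H d x := by
      intro w u' u₀' u₁' hwu hwB hw0 hu₀' hu₁' eu' h0
      obtain ⟨x, hx, hx0, hxq, hwx⟩ := h.symm.stepB hbA hwB hwu hu₁' hu₀' (eu'.trans (add_comm _ _)) h0
      exact ⟨x, hx, w, hwB, hx0, hxq, hw0, hwu.1, hwx.symm⟩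
    have fromA : ∀ {u v u₀ u₁ v₀ v₁ : V}, Pl H u v → u₀ ∈ A → u₁ ∈ B → v₀ ∈ A → v₁ ∈ B → u = u₀ + u₁ → v = v₀ + v₁ →
        u₀ ≠ 0 → v₀ ∉ Submodule.span F ({u₀} : Set V) → u₁ ≠ 0 →
        ∃ d ∈ A, ∃ x ∈ B, d ≠ 0 ∧ Q d = 0 ∧ x ≠ 0 ∧ Q x = 0 ∧ Pl H d x := by
      intro u v u₀ u₁ v₀ v₁ hp hu₀ hu₁ hv₀ hv₁ eu ev hu00 hi h1
      obtain ⟨d, hd, hd0, y, hy, hy0, hdy⟩ := h.stepA hbA hp hu₀ hu₁ hv₀ hv₁ eu ev hu00 hi
      obtain ⟨y₀, hy₀, y₁, hy₁, ey⟩ := exists_split h.compl y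
      rcases eq_or_ne y₁ 0 with e1 | e1
      · have hyA : y ∈ A := by rw [ey, e1, add_zero]; exact hy₀
        have hyu := hp.span hy (Submodule.subset_span (Set.mem_insert u {v}))
        obtain ⟨x, hx, hx0, hxq, hdx⟩ := h.stepB hbB hyA hyu hu₀ hu₁ eu h1
        exact ⟨y, hyA, x, hx, hy0, hyu.1, hx0, hxq, hdx⟩
      obtain ⟨x, hx, hx0, hxq, hdx⟩ := h.stepB hbB hd hdy hy₀ hy₁ ey e1
      exact ⟨d, hd, x, hx, hd0, hdy.1, hx0, hxq, hdx⟩
    by_cases h0 : u₀ = 0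
    · -- `g u` lies in `B`
      have hv0 : v₀ ≠ 0 := fun h' => hnB.elim (fun h'' => h'' (by rw [eu, h0, zero_add]; exact hu₁))
        (fun h'' => h'' (by rw [ev, h', zero_add]; exact hv₁))
      have hu0 : u₁ ≠ 0 := fun h' => by
        have e0 : u = 0 := g.1.map_eq_zero_iff.1 (by rw [eu, h0, h', add_zero])
        exact hu0' e0
      exact fromB hp (by rw [eu, h0, zero_add]; exact hu₁) (by rw [eu, h0, zero_add]; exact hu0) hv₀ hv₁ ev hv0
    by_cases hi : v₀ ∈ Submodule.span F ({u₀} : Set V)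
    · obtain ⟨s, hs⟩ := Submodule.mem_span_singleton.1 hi
      set w := g.1 v + (-s) • g.1 u with hw
      have hwB : w ∈ B := by
        have : w = v₁ + (-s) • u₁ := by rw [hw, eu, ev, ← hs]; module
        rw [this]
        exact B.add_mem hv₁ (B.smul_mem _ hu₁)
      have hw0 : w ≠ 0 := fun h0 => hind (Submodule.mem_span_singleton.2 ⟨s, g.1.injective (by
        rw [map_smul]
        rw [hw] at h0
        linear_combination (norm := module) -h0)⟩)
      exact fromB (hp.symm.span (Submodule.mem_span_pair.2 ⟨1, -s, by rw [hw, one_smul]⟩) (Submodule.subset_span (by simp)))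
        hwB hw0 hu₀ hu₁ eu h0
    by_cases h1 : u₁ = 0
    · have hv1 : v₁ ≠ 0 := fun h' => hnA.elim (fun h'' => h'' (by rw [eu, h1, add_zero]; exact hu₀))
        (fun h'' => h'' (by rw [ev, h', add_zero]; exact hv₀))
      refine fromA hp.symm hv₀ hv₁ hu₀ hu₁ ev eu (fun h' => hi (by rw [h']; exact Submodule.zero_mem _)) (fun hj => hi ?_) hv1
      obtain ⟨t, ht⟩ := Submodule.mem_span_singleton.1 hj
      have ht0 : t ≠ 0 := fun h' => h0 (by rw [← ht, h', zero_smul])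
      exact Submodule.mem_span_singleton.2 ⟨t⁻¹, by rw [← ht, inv_smul_smul₀ ht0]⟩
    · exact fromA hp hu₀ hu₁ hv₀ hv₁ eu ev h0 hi h1
  have hmix : ∀ a ∈ A, ∀ b ∈ B, Q a = 0 → Q b = 0 → Pl H a b := fun a ha b hb haq hbq => by
    rcases eq_or_ne b 0 with rfl | hb0
    · have := (Pl.refl (H := H) haq).smul_right 0
      rwa [zero_smul] at this
    exact (h.symm.mixed_all hbA hb hd hd0 (h.mixed_all hbB hd hx hx0 hdx hb hbq).symm ha haq).symm
  obtain ⟨e, he, heq', hen, -⟩ := perp1 (Q := Q) h.dimA A.zero_mem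
  obtain ⟨f, hf, hfq, -, hef⟩ := sep1 h.ndA h.dimA A.zero_mem he hen
  have hn : 3 ≤ finrank F V := by
    have := Submodule.finrank_le A
    have := h.dimA
    omega
  exact eo_le hQ hn (h.full hbA hmix he heq') (h.full hbA hmix hf hfq) (by rw [hef]; exact one_ne_zero)

end Cfsg.Agent.ClassicalMax.RootPlanes
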