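import Cfsg.Agent.ClassicalMax.RootDec5

/-!
Maximality of the stabiliser of two orthogonal non-isometric halves of dimension at least 5.
-/

set_option autoImplicit false
open Cfsg

namespace Cfsg.Agent.ClassicalMax

open Cfsg.Agent.Classical

/-- maximality of the stabiliser of two orthogonal non-isometric halves of dimension at least 5 -/
theorem isMaximalIn_nonisometric {F : Type*} [Field F] [Fintype F] {n : ℕ} (Q : (Fin n → F) → F) (hQ : Cfsg.Geo.IsNondegenerateQuadraticForm Q) (k : ℕ) (hk : 2 * k = n) (hk5 : 5 ≤ k) (D : Fin 2 → Submodule F (Fin n → F)) (hD : Cfsg.Geo.IsNondegenerateMDecomposition (QuadraticMap.polar Q) k D) (hni : ¬ Cfsg.Geo.AreIsometricFor Q (D 0) (D 1)) : Cfsg.Geo.IsMaximalIn (Cfsg.Geo.omegaGL Q) (Cfsg.Geo.decompositionStabilizer D ⊓ Cfsg.Geo.omegaGL Q) := by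
  classical
  let q : QuadraticForm F (Fin n → F) := QuadraticMap.ofPolar Q
    (fun a x => by rw [hQ.smul, smul_eq_mul, pow_two])
    hQ.polar_bilinear.add_left
    (fun a x y => by rw [hQ.polar_bilinear.smul_left, smul_eq_mul])
  have hq : ⇑q = Q := rfl
  have hnd : (QuadraticMap.polarBilin q).Nondegenerate :=
    ⟨fun x hx => by_contra fun h => (hQ.nondegenerate x h).2.elim fun y hy => hy (hx y),
      fun x hx => by_contra fun h => (hQ.nondegenerate x h).1.elim fun y hy => hy (hx y)⟩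
  rw [← hq]
  have hcompl : IsCompl (D 0) (D 1) := ⟨hD.decomp.indep.pairwiseDisjoint (by decide), codisjoint_iff.2 (by
    have h := hD.decomp.iSup_eq_top
    rw [← h]
    refine le_antisymm (sup_le (le_iSup D 0) (le_iSup D 1)) (iSup_le fun i => ?_)
    fin_cases i <;> simp)⟩
  have hnd' : ∀ i, RootPlanes.NdOn q (D i) := fun i x hx h => by_contra fun h0 =>
    (hD.nondegenerate i x hx h0).2.elim fun y hy => hy.2 (h y hy.1)
  have hA : RootPlanes.ODec5 q (D 0) (D 1) :=
    ⟨hcompl, hD.orthogonal 0 1 (by decide), hnd' 0, hnd' 1, by rw [hD.decomp.finrank_eq]; omega,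
      by rw [hD.decomp.finrank_eq]; omega⟩
  have hmem : ∀ g : (Fin n → F) ≃ₗ[F] (Fin n → F), (glEquiv (Fin n) F).symm g ∈ Cfsg.Geo.decompositionStabilizer D ↔
      ∃ σ : Equiv.Perm (Fin 2), ∀ i, (D i).map g.toLinearMap = D (σ i) := by
    intro g
    have e : Matrix.toLin' ((((glEquiv (Fin n) F).symm g : GL (Fin n) F)) : Matrix (Fin n) (Fin n) F) = g.toLinearMap :=
      LinearMap.ext fun x => by
        conv_rhs => rw [← (glEquiv (Fin n) F).apply_symm_apply g]
        rw [LinearEquiv.coe_coe, glEquiv_apply, Matrix.toLin'_apply]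
    show (∃ σ : Equiv.Perm (Fin 2), ∀ i, _) ↔ _
    rw [e]
  have hstab : ∀ g : Quad.oG q, (glEquiv (Fin n) F).symm g.1 ∈ Cfsg.Geo.decompositionStabilizer D ↔
      ((D 0).map g.1.toLinearMap = D 0 ∧ (D 1).map g.1.toLinearMap = D 1) ∨
        ((D 0).map g.1.toLinearMap = D 1 ∧ (D 1).map g.1.toLinearMap = D 0) := by
    intro g
    rw [hmem]
    constructor
    · rintro ⟨σ, hσ⟩
      have hb : σ 0 ≠ σ 1 := fun h => absurd (σ.injective h) (by decide)
      rw [hσ 0, hσ 1]
      have h2 : ∀ a : Fin 2, a = 0 ∨ a = 1 := by decide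
      rcases h2 (σ 0) with h0 | h0 <;> rcases h2 (σ 1) with h1 | h1
      · exact absurd (h0.trans h1.symm) hb
      · exact Or.inl ⟨by rw [h0], by rw [h1]⟩
      · exact Or.inr ⟨by rw [h0], by rw [h1]⟩
      · exact absurd (h0.trans h1.symm) hb
    · rintro (⟨h0, h1⟩ | ⟨h0, h1⟩)
      · exact ⟨1, fun i => by fin_cases i <;> assumption⟩
      · exact ⟨Equiv.swap 0 1, fun i => by fin_cases i <;> simpa using ‹_›⟩
  have hex : Nat.card F ≠ 2 ∨ Module.finrank F (Fin n → F) ≠ 4 := Or.inr (by rw [Module.finrank_fin_fun]; omega)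
  have hne : ∀ g : Quad.oG q, (D 0).map g.1.toLinearMap ≠ D 1 := fun g hg => hni
    ⟨(g.1.submoduleMap (D 0)).trans (LinearEquiv.ofEq _ _ hg), fun w => g.2 (w : Fin n → F)⟩
  refine RootPlanes.isMaximalIn_omega q hnd (by rw [Fintype.card_fin]; omega) _ ?_ fun H hH g hg hgS => ?_
  · obtain ⟨d, hd, hd0, hdq, -, -⟩ := RootPlanes.sing_perp5 (Q := q) hA.dimA (D 0).zero_mem (D 0).zero_mem
    obtain ⟨x, hx, hx0, hxq, -, -⟩ := RootPlanes.sing_perp5 (Q := q) hA.dimB (D 1).zero_mem (D 1).zero_mem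
    obtain ⟨z, hz, -, -, hdz⟩ := RootPlanes.NdOn.sep_pair (hnd' 0) (D 0).zero_mem (D 0).zero_mem hd (fun hm => hd0 (by simpa using hm))
    have hdx : QuadraticMap.polar q d x = 0 := hA.perp d hd x hx
    refine ⟨Quad.sO hdq hdx, Quad.sO_mem_commutator hnd hex _ _, fun hm => ?_⟩
    have e : (Quad.sO hdq hdx).1 z = z + (-1 : F) • x := by
      rw [Quad.sO_apply, hA.perp z hz x hx, hxq, QuadraticMap.polar_comm q z d, hdz]
      simp
    rcases (hstab _).1 hm with ⟨h0, -⟩ | ⟨h0, -⟩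
    · have h1 : z + (-1 : F) • x ∈ D 0 := h0.le ⟨z, hz, e⟩
      have h2 := ((D 0).add_mem_iff_right hz).1 h1
      have h3 := RootPlanes.eq_zero_of_compl hcompl h2 ((D 1).smul_mem _ hx)
      exact hx0 (by simpa using h3)
    · exact hne _ h0
  · refine hA.over hnd (by rw [hD.decomp.finrank_eq, hD.decomp.finrank_eq]) ?_ ?_ hne hg (fun h => hgS ((hstab g).2 (Or.inl h)))
    all_goals
      intro d w hd hw hdq hdw
      refine hH _ (Quad.sO_mem_commutator hnd hex _ _) ((hstab _).2 (Or.inl ?_))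
      constructor <;> refine RootPlanes.map_eq_of_le rfl fun y hy => ?_ <;> rw [Quad.sO_apply]
    · exact Submodule.add_mem _ (Submodule.add_mem _ (Submodule.add_mem _ hy (Submodule.smul_mem _ _ hd))
        (Submodule.smul_mem _ _ hw)) (Submodule.smul_mem _ _ hd)
    · rw [QuadraticMap.polar_comm q y w, QuadraticMap.polar_comm q y d, hA.perp d hd y hy, hA.perp w hw y hy]
      simpa using hy
    · rw [hA.perp y hy d hd, hA.perp y hy w hw]
      simpa using hy
    · exact Submodule.add_mem _ (Submodule.add_mem _ (Submodule.add_mem _ hy (Submodule.smul_mem _ _ hd))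
        (Submodule.smul_mem _ _ hw)) (Submodule.smul_mem _ _ hd)

end Cfsg.Agent.ClassicalMax
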