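import Cfsg.Agent.ClassicalMax.RootPar
import Cfsg.Agent.ClassicalMax.RootDec
import Cfsg.Agent.Classical.QuadTypes

/-!
Maximality in the orthogonal group of the stabiliser of a non-degenerate subspace with an orthogonal complement of
dimension at least 6 (at least 7 in characteristic two).
-/

set_option autoImplicit false
set_option linter.unusedSectionVars false
set_option linter.style.haveILetI false

namespace Cfsg.Agent.ClassicalMax.RootPlanes

open Module QuadraticMap Cfsg.Agent.Classical Cfsg.Agent.Classical.Quad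

variable {F V : Type*} [Field F] [Finite F] [AddCommGroup V] [Module F V] [FiniteDimensional F V]
  {Q : QuadraticForm F V} {A B : Submodule F V} {H : Subgroup (oG Q)}

/-- the part of a non-degenerate subspace orthogonal to a non-degenerate part of it -/
theorem NdOn.perp_in (hA : NdOn Q A) {U : Submodule F V} (hUA : U ≤ A) (hU : NdOn Q U) :
    ∃ A' ≤ A, NdOn Q A' ∧ finrank F A ≤ finrank F A' + finrank F U ∧ Disjoint U A' ∧
      ∀ y ∈ A', ∀ u ∈ U, polar Q u y = 0 := by
  set L := (LinearMap.lcomp F F U.subtype).comp (polarBilin Q)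
  have hperp : ∀ y ∈ LinearMap.ker L, ∀ u ∈ U, polar Q u y = 0 := fun y hy u hu => by
    rw [polar_comm]
    exact LinearMap.congr_fun (LinearMap.mem_ker.1 hy) ⟨u, hu⟩
  set A' := A ⊓ LinearMap.ker L with hA'
  have hd : Disjoint U A' := Submodule.disjoint_def.2 fun x hx hx' =>
    hU x hx fun y hy => by rw [polar_comm]; exact hperp x hx'.2 y hy
  have hdim : finrank F A ≤ finrank F A' + finrank F U := by
    have h1 := Submodule.finrank_sup_add_finrank_inf_eq A (LinearMap.ker L)
    have h2 := Submodule.finrank_le (A ⊔ LinearMap.ker L)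
    have h3 : finrank F V ≤ finrank F (LinearMap.ker L) + finrank F U := finrank_perp_ge U
    rw [← hA'] at h1
    omega
  have hsup : U ⊔ A' = A := by
    refine Submodule.eq_of_le_of_finrank_le (sup_le hUA inf_le_left) ?_
    have h1 := Submodule.finrank_sup_add_finrank_inf_eq U A'
    rw [hd.eq_bot, finrank_bot] at h1
    omega
  refine ⟨A', inf_le_left, fun x hx h => hA x hx.1 fun y hy => ?_, hdim, hd, fun y hy => hperp y hy.2⟩
  rw [← hsup] at hy
  obtain ⟨u, hu, a, ha, rfl⟩ := Submodule.mem_sup.1 hy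
  rw [polar_add_right, h a ha, polar_comm, hperp x hx.2 u hu, add_zero]

/-- a vector separated from one vector by a singular vector -/
theorem sep1 (h : NdOn Q A) (hd : 5 ≤ finrank F A) {a x : V} (ha : a ∈ A) (hx : x ∈ A)
    (hind : x ∉ Submodule.span F ({a} : Set V)) :
    ∃ c ∈ A, Q c = 0 ∧ polar Q a c = 0 ∧ polar Q x c = 1 := by
  have hle : finrank F (Submodule.span F ({(⟨a, ha⟩ : A)} : Set A)) ≤ 1 :=
    (finrank_span_le_card _).trans (by simp)
  obtain ⟨c, hc, hcU, hxc⟩ := exists_sing_sep h.comp (Submodule.span F ({(⟨a, ha⟩ : A)} : Set A)) (by omega)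
    (x := ⟨x, hx⟩) (fun hm => hind (by
      obtain ⟨s, e⟩ := Submodule.mem_span_singleton.1 hm
      exact Submodule.mem_span_singleton.2 ⟨s, congrArg Subtype.val e⟩))
  exact ⟨c, c.2, hc, hcU ⟨a, ha⟩ (Submodule.subset_span rfl), hxc⟩

/-- a singular vector orthogonal to one vector -/
theorem perp1 (hd : 5 ≤ finrank F A) {a : V} (ha : a ∈ A) :
    ∃ c ∈ A, Q c = 0 ∧ c ∉ Submodule.span F ({a} : Set V) ∧ polar Q a c = 0 := by
  have hle : finrank F (Submodule.span F ({(⟨a, ha⟩ : A)} : Set A)) ≤ 1 :=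
    (finrank_span_le_card _).trans (by simp)
  obtain ⟨c, hc, hcn, hcU⟩ := exists_sing_perp (Q := Q.comp A.subtype) (Submodule.span F ({(⟨a, ha⟩ : A)} : Set A))
    (by omega)
  refine ⟨c, c.2, hc, fun hm => hcn ?_, hcU ⟨a, ha⟩ (Submodule.subset_span rfl)⟩
  obtain ⟨s, e⟩ := Submodule.mem_span_singleton.1 hm
  exact Submodule.mem_span_singleton.2 ⟨s, Subtype.ext e⟩

/-- singular vectors orthogonal to a singular vector span its orthogonal -/
theorem perp_le5 (h : NdOn Q A) (hd : 5 ≤ finrank F A) {a : V} (ha : a ∈ A) (has : Q a = 0)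
    (S : Submodule F V) (hS : ∀ z ∈ A, Q z = 0 → polar Q a z = 0 → z ∈ S) {w : V} (hw : w ∈ A)
    (haw : polar Q a w = 0) : w ∈ S := by
  by_cases hm : w ∈ Submodule.span F ({a} : Set V)
  · obtain ⟨s, rfl⟩ := Submodule.mem_span_singleton.1 hm
    exact S.smul_mem s (hS a ha has (by rw [polar_self', has, mul_zero]))
  obtain ⟨c, hcA, hc, hac, hwc⟩ := sep1 h hd ha hw hm
  have h1 := hS (w + (-Q w) • c) (A.add_mem hw (A.smul_mem _ hcA)) (by rw [map_add_smul, hc, hwc]; ring)
    (by rw [polar_add_right, haw, polar_smul_right, hac, smul_zero, add_zero])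
  have h2 := S.smul_mem (Q w) (hS c hcA hc hac)
  have h3 := S.add_mem h1 h2
  rwa [show w + (-Q w) • c + Q w • c = w by module] at h3

/-- a second hyperbolic pair -/
theorem pair_next (h : NdOn Q A) (hd : 6 ≤ finrank F A) {a b : V} (ha : a ∈ A) (hb : b ∈ A) (haq : Q a = 0)
    (hab : polar Q a b ≠ 0) :
    ∃ c ∈ A, ∃ c' ∈ A, Q c = 0 ∧ Q c' = 0 ∧ c ∉ Submodule.span F ({a, b} : Set V) ∧ polar Q a c = 0 ∧ polar Q b c = 0 ∧
      polar Q a c' = 0 ∧ polar Q b c' = 0 ∧ polar Q c c' = 1 := by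
  have hU : NdOn Q (Submodule.span F ({a, b} : Set V)) := by
    intro x hx hx'
    obtain ⟨s, t, rfl⟩ := Submodule.mem_span_pair.1 hx
    have h1 := hx' a (Submodule.subset_span (Or.inl rfl))
    have h2 := hx' b (Submodule.subset_span (Or.inr rfl))
    simp only [polar_add_left, polar_smul_left, polar_self', haq, polar_comm Q b a, mul_zero, zero_add,
      smul_eq_mul] at h1 h2
    have ht : t = 0 := (mul_eq_zero.1 h1).resolve_right hab
    rw [ht, zero_mul, add_zero] at h2
    rw [ht, (mul_eq_zero.1 h2).resolve_right hab]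
    simp
  have hUA : Submodule.span F ({a, b} : Set V) ≤ A := Submodule.span_le.2 (by
    rintro _ (rfl | rfl) <;> assumption)
  obtain ⟨A', hle, hnd, hdim, hdis, hperp⟩ := h.perp_in hUA hU
  have h2U : finrank F (Submodule.span F ({a, b} : Set V)) ≤ 2 := by
    classical
    have := finrank_span_le_card (R := F) ({a, b} : Set V)
    rw [Set.toFinset_insert, Set.toFinset_singleton] at this
    exact this.trans Finset.card_le_two
  obtain ⟨c, hc0, hc⟩ := exists_singular (Q.comp A'.subtype) (by omega)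
  obtain ⟨c', hc', -, hcc'⟩ := exists_sing_sep hnd.comp (⊥ : Submodule F A') (by rw [finrank_bot]; omega) (x := c)
    (fun hm => hc0 (by simpa using hm))
  exact ⟨c, hle c.2, c', hle c'.2, hc, hc',
    fun hm => hc0 (Subtype.ext (Submodule.disjoint_def.1 hdis _ hm c.2)),
    hperp _ c.2 a (Submodule.subset_span (Or.inl rfl)), hperp _ c.2 b (Submodule.subset_span (Or.inr rfl)),
    hperp _ c'.2 a (Submodule.subset_span (Or.inl rfl)), hperp _ c'.2 b (Submodule.subset_span (Or.inr rfl)), hcc'⟩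

/-- a singular vector orthogonal to two independent vectors and a partner for the second -/
theorem sep_two (h : NdOn Q A) (hd : 6 ≤ finrank F A) {u v : V} (hu : u ∈ A)
    (hv : v ∈ A) (hu0 : u ≠ 0) (hi : v ∉ Submodule.span F ({u} : Set V))
    (hdim : (2 : F) ≠ 0 ∨ 7 ≤ finrank F A ∨ Q u = 0 ∨ polar Q u v ≠ 0) :
    ∃ d ∈ A, ∃ c ∈ A, d ≠ 0 ∧ Q d = 0 ∧ Q c = 0 ∧ polar Q u d = 0 ∧ polar Q v d = 0 ∧ polar Q d c = 0 ∧
      polar Q u c = 0 ∧ polar Q v c = 1 := by
  rcases eq_or_ne (polar Q u u) 0 with huu | huu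
  swap
  · have hU : NdOn Q (Submodule.span F ({u} : Set V)) := fun x hx hx' => by
      obtain ⟨s, rfl⟩ := Submodule.mem_span_singleton.1 hx
      have h1 := hx' u (Submodule.mem_span_singleton_self u)
      rw [polar_smul_left, smul_eq_mul, mul_eq_zero] at h1
      rw [h1.resolve_right huu, zero_smul]
    obtain ⟨A', hle, hnd, hd', -, hperp⟩ := h.perp_in ((Submodule.span_singleton_le_iff_mem _ _).2 hu) hU
    rw [finrank_span_singleton hu0] at hd'
    have hsup : ∀ y ∈ A, ∃ (s : F), ∃ y' ∈ A', y = s • u + y' := by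
      intro y hy
      have he : Submodule.span F ({u} : Set V) ⊔ A' = A := by
        refine Submodule.eq_of_le_of_finrank_le (sup_le ((Submodule.span_singleton_le_iff_mem _ _).2 hu) hle) ?_
        have hdis : Disjoint (Submodule.span F ({u} : Set V)) A' := Submodule.disjoint_def.2 fun x hx hx' =>
          hU x hx fun z hz => by rw [polar_comm]; exact hperp x hx' z hz
        have h1 := Submodule.finrank_sup_add_finrank_inf_eq (Submodule.span F ({u} : Set V)) A'
        rw [hdis.eq_bot, finrank_bot, finrank_span_singleton hu0] at h1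
        omega
      rw [← he] at hy
      obtain ⟨x, hx, y', hy', e⟩ := Submodule.mem_sup.1 hy
      obtain ⟨s, rfl⟩ := Submodule.mem_span_singleton.1 hx
      exact ⟨s, y', hy', e.symm⟩
    obtain ⟨s, v', hv', ev⟩ := hsup v hv
    obtain ⟨d, hdA, hdq, hdn, hvd⟩ := perp1 (Q := Q) (A := A') (by omega) hv'
    have hv0 : v' ≠ 0 := fun h0 => hi (Submodule.mem_span_singleton.2 ⟨s, by rw [ev, h0, add_zero]⟩)
    obtain ⟨c, hcA, hcq, hdc, hvc⟩ := sep1 hnd (by omega) hdA hv' (fun hm => by
      obtain ⟨r, hr⟩ := Submodule.mem_span_singleton.1 hm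
      have hr0 : r ≠ 0 := fun h0 => hv0 (by rw [← hr, h0, zero_smul])
      exact hdn (Submodule.mem_span_singleton.2 ⟨r⁻¹, by rw [← hr, inv_smul_smul₀ hr0]⟩))
    have hmu := Submodule.mem_span_singleton_self (R := F) u
    refine ⟨d, hle hdA, c, hle hcA, ne_zero_of_notin hdn, hdq, hcq, hperp d hdA u hmu, ?_, hdc, hperp c hcA u hmu, ?_⟩
    · rw [ev, polar_add_left, polar_smul_left, hperp d hdA u hmu, smul_zero, zero_add, hvd]
    · rw [ev, polar_add_left, polar_smul_left, hperp c hcA u hmu, smul_zero, zero_add, hvc]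
  by_cases hd7 : 7 ≤ finrank F A
  · obtain ⟨d, hdA, hdq, hdn, hud, hvd⟩ := perp2 (Q := Q) hd7 hu hv
    obtain ⟨c, hcA, hcq, hdc, huc, hvc⟩ := sep2 h hd7 hdA hu hv (notin_swap hdn hi)
    exact ⟨d, hdA, c, hcA, ne_zero_of_notin hdn, hdq, hcq, hud, hvd, hdc, huc, hvc⟩
  by_cases huq : Q u = 0
  swap
  · have h2 : (2 : F) = 0 := by
      rw [polar_self', mul_eq_zero] at huu
      exact huu.resolve_right huq
    have huv : polar Q u v ≠ 0 := ((hdim.resolve_left (not_ne_iff.2 h2)).resolve_left hd7).resolve_left huq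
    have hU : NdOn Q (Submodule.span F ({u, v} : Set V)) := fun x hx hx' => by
      obtain ⟨s, t, rfl⟩ := Submodule.mem_span_pair.1 hx
      have h1 := hx' u (Submodule.subset_span (Or.inl rfl))
      have h3 := hx' v (Submodule.subset_span (Or.inr rfl))
      simp only [polar_add_left, polar_smul_left, polar_self', h2, polar_comm Q v u, zero_mul, mul_zero, zero_add,
        add_zero, smul_eq_mul] at h1 h3
      rw [(mul_eq_zero.1 h1).resolve_right huv, (mul_eq_zero.1 h3).resolve_right huv]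
      simp
    obtain ⟨A', hle, hnd, hd', -, hperp⟩ := h.perp_in (Submodule.span_le.2 (by rintro _ (rfl | rfl) <;> assumption)) hU
    have h2U : finrank F (Submodule.span F ({u, v} : Set V)) ≤ 2 := by
      classical
      have := finrank_span_le_card (R := F) ({u, v} : Set V)
      rw [Set.toFinset_insert, Set.toFinset_singleton] at this
      exact this.trans Finset.card_le_two
    obtain ⟨d, hd0, hdq⟩ := exists_singular (Q.comp A'.subtype) (by omega)
    obtain ⟨f, hfq, -, hdf⟩ := exists_sing_sep hnd.comp (⊥ : Submodule F A') (by rw [finrank_bot]; omega) (x := d)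
      (fun hm => hd0 (by simpa using hm))
    replace hdq : Q (d : V) = 0 := hdq
    replace hdf : polar Q (d : V) f = 1 := hdf
    have hD : NdOn Q (Submodule.span F ({(d : V), (f : V)} : Set V)) := fun x hx hx' => by
      obtain ⟨s, t, rfl⟩ := Submodule.mem_span_pair.1 hx
      have h1 := hx' d (Submodule.subset_span (Or.inl rfl))
      have h3 := hx' f (Submodule.subset_span (Or.inr rfl))
      simp only [polar_add_left, polar_smul_left, polar_self', h2, polar_comm Q (f : V) d, hdf, zero_mul, mul_zero,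
        zero_add, add_zero, smul_eq_mul, mul_one] at h1 h3
      rw [h1, h3]
      simp
    obtain ⟨A'', hle', hnd', hd'', -, hperp'⟩ := hnd.perp_in
      (Submodule.span_le.2 (by rintro _ (rfl | rfl) <;> exact Subtype.coe_prop _)) hD
    have h2D : finrank F (Submodule.span F ({(d : V), (f : V)} : Set V)) ≤ 2 := by
      classical
      have := finrank_span_le_card (R := F) ({(d : V), (f : V)} : Set V)
      rw [Set.toFinset_insert, Set.toFinset_singleton] at this
      exact this.trans Finset.card_le_two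
    obtain ⟨x, hx, hxq⟩ : ∃ x ∈ A'', Q x ≠ 0 := by
      by_contra! hall
      have hz : A'' = ⊥ := (Submodule.eq_bot_iff _).2 fun x hx => hnd' x hx fun y hy => by
        rw [polar, hall _ (A''.add_mem hx hy), hall x hx, hall y hy, sub_zero, sub_zero]
      rw [hz, finrank_bot] at hd''
      omega
    set s := (polar Q v u)⁻¹ with hs
    have hch : CharP F 2 := CharTwo.of_one_ne_zero_of_two_eq_zero one_ne_zero h2
    obtain ⟨r, hr⟩ := FiniteField.isSquare_of_char_two (F := F) (ringChar.eq F 2) (s * s * Q u / Q x)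
    have hmu : u ∈ Submodule.span F ({u, v} : Set V) := Submodule.subset_span (Or.inl rfl)
    have hmv : v ∈ Submodule.span F ({u, v} : Set V) := Submodule.subset_span (Or.inr rfl)
    refine ⟨d, hle d.2, s • u + r • x, A.add_mem (A.smul_mem _ hu) (A.smul_mem _ (hle (hle' hx))),
      fun e => hd0 (Subtype.ext e), hdq, ?_, hperp _ d.2 u hmu, hperp _ d.2 v hmv, ?_, ?_, ?_⟩
    · rw [map_add', map_smul', map_smul', polar_smul_left, polar_smul_right, hperp _ (hle' hx) u hmu, smul_zero,
        smul_zero, add_zero, ← hr, div_mul_cancel₀ _ hxq]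
      linear_combination (s * s * Q u) * h2
    · rw [polar_add_right, polar_smul_right, polar_smul_right, polar_comm Q (d : V) u, hperp _ d.2 u hmu,
        hperp' _ hx d (Submodule.subset_span (Or.inl rfl)), smul_zero, smul_zero, add_zero]
    · rw [polar_add_right, polar_smul_right, polar_smul_right, huu, hperp _ (hle' hx) u hmu, smul_zero, smul_zero,
        add_zero]
    · rw [polar_add_right, polar_smul_right, polar_smul_right, hperp _ (hle' hx) v hmv, smul_zero, add_zero,
        smul_eq_mul, hs, inv_mul_cancel₀ (by rwa [polar_comm])]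
  rcases eq_or_ne (polar Q u v) 0 with huv | huv
  · obtain ⟨c, hcA, hcq, huc, hvc⟩ := sep1 h (by omega) hu hv hi
    exact ⟨u, hu, c, hcA, hu0, huq, hcq, huu, (polar_comm Q v u).trans huv, huc, huc, hvc⟩
  · obtain ⟨d, hdA, -, -, hdq, -, hdn, hud, hvd, -, -, -⟩ := pair_next h hd hu hv huq huv
    refine ⟨d, hdA, (polar Q v u)⁻¹ • u, A.smul_mem _ hu, ne_zero_of_notin hdn, hdq, ?_, hud, hvd, ?_, ?_, ?_⟩
    · rw [map_smul', huq, mul_zero]
    · rw [polar_smul_right, polar_comm Q d u, hud, smul_zero]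
    · rw [polar_smul_right, huu, smul_zero]
    · rw [polar_smul_right, smul_eq_mul, inv_mul_cancel₀ (by rwa [polar_comm])]

/-- orthogonal complementary subspaces, the first of dimension at least 6 -/
structure NDec (Q : QuadraticForm F V) (A B : Submodule F V) : Prop where
  compl : IsCompl A B
  perp : ∀ a ∈ A, ∀ b ∈ B, polar Q a b = 0
  ndA : NdOn Q A
  ndB : NdOn Q B
  dimA : 6 ≤ finrank F A

theorem NDec.polarL (h : NDec Q A B) {u u₀ u₁ y : V} (hu₁ : u₁ ∈ B) (eu : u = u₀ + u₁) (hy : y ∈ A) :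
    polar Q u y = polar Q u₀ y := by
  rw [eu, polar_add_left, polar_comm Q u₁ y, h.perp y hy u₁ hu₁, add_zero]

theorem NDec.mem_map (h : NDec Q A B) {g : oG Q} (hA : A.map g.1.toLinearMap = A) : B.map g.1.toLinearMap = B := by
  refine map_eq_of_le rfl fun b hb => ?_
  obtain ⟨a, ha, b', hb', e⟩ := exists_split h.compl (g.1 b)
  have : a = 0 := h.ndA a ha fun y hy => by
    obtain ⟨y', hy', rfl⟩ : y ∈ A.map g.1.toLinearMap := hA.symm ▸ hy
    rw [← h.polarL hb' e (hA ▸ Submodule.mem_map_of_mem hy')]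
    show polar Q (g.1 b) (g.1 y') = 0
    rw [polar_oG, polar_comm, h.perp y' hy' b hb]
  rw [e, this, zero_add]
  exact hb'

theorem NDec.exists_out (h : NDec Q A B) (g : oG Q) (hA : A.map g.1.toLinearMap ≠ A)
    (hB : ¬ ∀ y ∈ A, g.1 y ∈ B) :
    ∃ u ∈ A, ∃ v ∈ A, u ≠ 0 ∧ Q u = 0 ∧ Q v = 0 ∧ polar Q u v = 0 ∧ v ∉ Submodule.span F ({u} : Set V) ∧
      (g.1 u ∉ A ∨ g.1 v ∉ A) ∧ (g.1 u ∉ B ∨ g.1 v ∉ B) := by
  by_contra hc
  have pair : ∀ u ∈ A, ∀ v ∈ A, u ≠ 0 → Q u = 0 → Q v = 0 → polar Q u v = 0 → v ∉ Submodule.span F ({u} : Set V) →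
      (g.1 u ∈ A ∧ g.1 v ∈ A) ∨ (g.1 u ∈ B ∧ g.1 v ∈ B) := fun u hu v hv h0 h1 h2 h3 h4 => by
    by_contra h5
    push Not at h5
    exact hc ⟨u, hu, v, hv, h0, h1, h2, h3, h4, by tauto, by tauto⟩
  -- all singular vectors go to the same side
  have hd5 : 5 ≤ finrank F A := by have := h.dimA; omega
  obtain ⟨a, ha, haq, han, -⟩ := perp1 (Q := Q) hd5 A.zero_mem
  have ha0 := ne_zero_of_notin han
  have side : ∀ (C : Submodule F V), g.1 a ∈ C → (C = A ∨ C = B) → ∀ z ∈ A, Q z = 0 → g.1 z ∈ C := by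
    intro C haC hC z hz hzq
    rcases eq_or_ne z 0 with rfl | hz0
    · rw [map_zero]; exact C.zero_mem
    by_cases hza : z ∈ Submodule.span F ({a} : Set V)
    · obtain ⟨s, rfl⟩ := Submodule.mem_span_singleton.1 hza
      rw [map_smul]
      exact C.smul_mem s haC
    by_cases haz : polar Q a z = 0
    · rcases hC with rfl | rfl
      · exact ((pair a ha z hz ha0 haq hzq haz hza).resolve_right fun h' =>
          ha0 (g.1.map_eq_zero_iff.1 (eq_zero_of_compl h.compl haC h'.1))).2
      · exact ((pair a ha z hz ha0 haq hzq haz hza).resolve_left fun h' =>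
          ha0 (g.1.map_eq_zero_iff.1 (eq_zero_of_compl h.compl h'.1 haC))).2
    obtain ⟨w, hw, -, -, hwq, -, hwn, haw, hzw, -, -, -⟩ := pair_next h.ndA h.dimA ha hz haq haz
    have hw1 : w ∉ Submodule.span F ({a} : Set V) := fun hm => hwn (Submodule.span_mono (by simp) hm)
    have hw2 : w ∉ Submodule.span F ({z} : Set V) := fun hm => hwn (Submodule.span_mono (by simp) hm)
    have hne : ∀ {y}, y ≠ 0 → g.1 y ∈ A → g.1 y ∈ B → False := fun hy h1 h2 =>
      hy (g.1.map_eq_zero_iff.1 (eq_zero_of_compl h.compl h1 h2))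
    rcases hC with rfl | rfl
    · have h1 : g.1 w ∈ C := ((pair a ha w hw ha0 haq hwq haw hw1).resolve_right fun h' => hne ha0 haC h'.1).2
      exact ((pair z hz w hw hz0 hzq hwq hzw hw2).resolve_right fun h' => hne (ne_zero_of_notin hwn) h1 h'.2).1
    · have h1 : g.1 w ∈ C := ((pair a ha w hw ha0 haq hwq haw hw1).resolve_left fun h' => hne ha0 h'.1 haC).2
      exact ((pair z hz w hw hz0 hzq hwq hzw hw2).resolve_left fun h' => hne (ne_zero_of_notin hwn) h'.2 h1).1
  have done : ∀ C : Submodule F V, g.1 a ∈ C → (C = A ∨ C = B) → ∀ y ∈ A, g.1 y ∈ C := fun C haC hC y hy =>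
    show y ∈ C.comap g.1.toLinearMap from perp_le5 h.ndA hd5 A.zero_mem (map_zero Q) (C.comap g.1.toLinearMap)
      (fun z hz hzq _ => side C haC hC z hz hzq) hy (by simp [polar])
  obtain ⟨w, hw, hwq, hwn, haw⟩ := perp1 (Q := Q) hd5 ha
  rcases pair a ha w hw ha0 haq hwq haw hwn with h' | h'
  · exact hA (map_eq_of_le rfl (done A h'.1 (Or.inl rfl)))
  · exact hB (done B h'.1 (Or.inr rfl))


/-- the three cases in which a subspace is irreducible -/
def IrrCase (Q : QuadraticForm F V) (B : Submodule F V) : Prop :=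
  3 ≤ finrank F B ∨ (∀ b ∈ B, Q b = 0 → b = 0) ∨ (finrank F B = 2 ∧ 4 ≤ Nat.card F)

theorem eq_top_of_stable (hnd : NdOn Q B) (hI : IrrCase Q B) {U : Submodule F V} (hU : U ≤ B) {x : V} (hx : x ∈ U) (hx0 : x ≠ 0)
    (hrefl : ∀ a ∈ B, ∀ (ha : Q a ≠ 0), ∀ u ∈ U, (rO ha).1 u ∈ U)
    (hsieg : ∀ (p w : V) (hp : Q p = 0) (h : polar Q p w = 0), p ∈ B → w ∈ B → ∀ u ∈ U, (sO hp h).1 u ∈ U) : B ≤ U := by
  have hstep : ∀ a ∈ B, Q a ≠ 0 → ∀ u ∈ U, polar Q u a ≠ 0 → a ∈ U := fun a ha hqa u hu hua => by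
    have h1 := U.sub_mem hu (hrefl a ha hqa u hu)
    rw [rO_apply, sub_sub_cancel] at h1
    have h2 := U.smul_mem (polar Q u a / Q a)⁻¹ h1
    rwa [inv_smul_smul₀ (div_ne_zero hua hqa)] at h2
  obtain ⟨a₀, ha₀, hxa₀⟩ : ∃ a ∈ B, polar Q x a ≠ 0 := by
    by_contra! h
    exact hx0 (hnd x (hU hx) h)
  rcases hI with h3 | haniso | ⟨h2, h4⟩
  · have key : ∀ p ∈ B, Q p = 0 → ∀ u ∈ U, polar Q u p ≠ 0 → p ∈ U := by
      intro p hp hpq u hu hup
      set c := polar Q u p with hc
      let π : V → V := fun y => y + (-(polar Q p y / c)) • u + (-((polar Q u y + -(polar Q p y / c) * polar Q u u) / c)) • p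
      have hπ : ∀ y ∈ B, π y ∈ B ∧ polar Q p (π y) = 0 ∧ polar Q u (π y) = 0 := by
        intro y hy
        refine ⟨B.add_mem (B.add_mem hy (B.smul_mem _ (hU hu))) (B.smul_mem _ hp), ?_, ?_⟩
        · simp only [π, polar_add_right, polar_smul_right, polar_comm Q p u, ← hc, polar_self', hpq, smul_eq_mul]
          field_simp
          ring
        · simp only [π, polar_add_right, polar_smul_right, ← hc, smul_eq_mul]
          field_simp
          ring
      obtain ⟨y, hy, hyn⟩ : ∃ y ∈ B, y ∉ Submodule.span F ({p, u} : Set V) := by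
        by_contra! h
        have h1 := Submodule.finrank_mono h
        classical
        have h2 := finrank_span_le_card (R := F) ({p, u} : Set V)
        rw [Set.toFinset_insert, Set.toFinset_singleton] at h2
        have h5 := h2.trans Finset.card_le_two
        omega
      have hw0 : π y ≠ 0 := fun h0 => hyn (Submodule.mem_span_pair.2
        ⟨(polar Q u y + -(polar Q p y / c) * polar Q u u) / c, polar Q p y / c, by
          linear_combination (norm := module) -h0⟩)
      obtain ⟨hwB, hpw, huw⟩ := hπ y hy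
      obtain ⟨z, hz, hwz⟩ : ∃ z ∈ B, polar Q (π y) z ≠ 0 := by
        by_contra! h
        exact hw0 (hnd _ hwB h)
      obtain ⟨hzB, hpz, huz⟩ := hπ z hz
      have hwz' : polar Q (π y) (π z) ≠ 0 := by
        show polar Q (π y) (z + _ • u + _ • p) ≠ 0
        rw [polar_add_right, polar_add_right, polar_smul_right, polar_smul_right, polar_comm Q (π y) u, huw,
          polar_comm Q (π y) p, hpw, smul_zero, smul_zero, add_zero, add_zero]
        exact hwz
      have hu' : ∀ w ∈ B, polar Q p w = 0 → polar Q u w = 0 → w + Q w • p ∈ U := by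
        intro w hw h1 h2
        have h5 := U.smul_mem c⁻¹ (U.sub_mem hu (hsieg p w hpq h1 hp hw u hu))
        rw [sO_apply, h2, ← hc] at h5
        convert h5 using 1
        match_scalars <;> field_simp <;> ring
      have h6 := U.sub_mem (U.sub_mem (hu' _ (B.add_mem hwB hzB) (by rw [polar_add_right, hpw, hpz, add_zero])
        (by rw [polar_add_right, huw, huz, add_zero])) (hu' _ hwB hpw huw)) (hu' _ hzB hpz huz)
      rw [map_add', show π y + π z + (Q (π y) + Q (π z) + polar Q (π y) (π z)) • p - (π y + Q (π y) • p) - (π z + Q (π z) • p) =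
        polar Q (π y) (π z) • p by module] at h6
      have h7 := U.smul_mem (polar Q (π y) (π z))⁻¹ h6
      rwa [inv_smul_smul₀ hwz'] at h7
    obtain ⟨p₀, hp₀0, hp₀⟩ := exists_singular (Q.comp B.subtype) h3
    obtain ⟨f₀, hf₀, hpf⟩ := exists_hyp_pair hnd.comp hp₀0 hp₀
    have hp₀' : Q (p₀ : V) = 0 := hp₀
    have hf₀' : Q (f₀ : V) = 0 := hf₀
    have hpf' : polar Q (p₀ : V) f₀ = 1 := hpf
    have hsp : ∀ y ∈ B, polar Q (p₀ : V) y = 0 → polar Q (f₀ : V) y = 0 → Q (y + (p₀ : V) + (-Q y) • (f₀ : V)) = 0 := by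
      intro y hy h1 h2
      rw [map_add_smul, map_add', hp₀', hf₀', polar_add_left, polar_comm Q y p₀, h1, polar_comm Q y f₀, h2, hpf']
      ring
    set y' : V → V := fun y => y + (-polar Q (p₀ : V) y) • (f₀ : V) + (-polar Q (f₀ : V) y) • (p₀ : V) with hy'
    have hy'1 : ∀ y ∈ B, y' y ∈ B ∧ polar Q (p₀ : V) (y' y) = 0 ∧ polar Q (f₀ : V) (y' y) = 0 := fun y hy => by
      refine ⟨B.add_mem (B.add_mem hy (B.smul_mem _ f₀.2)) (B.smul_mem _ p₀.2), ?_, ?_⟩
      · simp [hy', polar_add_right, polar_smul_right, hpf', polar_self', hp₀']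
      · simp [hy', polar_add_right, polar_smul_right, polar_comm Q (f₀ : V) p₀, hpf', polar_self', hf₀']
    obtain ⟨p, hp, hpq, hxp⟩ : ∃ p ∈ B, Q p = 0 ∧ polar Q x p ≠ 0 := by
      by_contra! h
      have h1 := h p₀ p₀.2 hp₀'
      have h2 := h f₀ f₀.2 hf₀'
      obtain ⟨h3, h4, h5⟩ := hy'1 a₀ ha₀
      have h6 := h _ (B.add_mem (B.add_mem h3 p₀.2) (B.smul_mem _ f₀.2)) (hsp _ h3 h4 h5)
      simp [hy', polar_add_right, polar_smul_right, h1, h2] at h6
      exact hxa₀ h6
    have hpU : p ∈ U := key p hp hpq x hx hxp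
    have hp0 : p ≠ 0 := fun h0 => hxp (by rw [h0]; simp [polar])
    obtain ⟨f, hf, hpf2⟩ := exists_hyp_pair hnd.comp (p := ⟨p, hp⟩) (fun h => hp0 (congrArg Subtype.val h)) hpq
    have hpf3 : polar Q p (f : V) = 1 := hpf2
    have hfq : Q (f : V) = 0 := hf
    have hfU : (f : V) ∈ U := key f f.2 hfq p hpU (by rw [hpf3]; exact one_ne_zero)
    intro b hb
    set y := b + (-polar Q p b) • (f : V) + (-polar Q (f : V) b) • p with hyd
    have h1 : polar Q p y = 0 := by simp [hyd, polar_add_right, polar_smul_right, hpf3, polar_self', hpq]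
    have h2 : polar Q (f : V) y = 0 := by simp [hyd, polar_add_right, polar_smul_right, polar_comm Q (f : V) p, hpf3, polar_self', hfq]
    have hyB : y ∈ B := B.add_mem (B.add_mem hb (B.smul_mem _ f.2)) (B.smul_mem _ hp)
    have h3' : y + p + (-Q y) • (f : V) ∈ U := by
      refine key _ (B.add_mem (B.add_mem hyB hp) (B.smul_mem _ f.2)) ?_ f hfU ?_
      · rw [map_add_smul, map_add', hpq, hfq, polar_comm Q y p, h1, polar_add_left (Q := Q) y p, polar_comm Q y f, h2, hpf3]
        ring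
      · simp [polar_add_right, polar_smul_right, h2, polar_comm Q (f : V) p, hpf3, polar_self', hfq]
    have h4 := U.add_mem (U.add_mem (U.add_mem h3' (U.smul_mem (polar Q (f : V) b - 1) hpU))
      (U.smul_mem (Q y + polar Q p b) hfU)) U.zero_mem
    convert h4 using 1
    rw [hyd]
    module
  · intro b hb
    have hne : ∀ a ∈ B, polar Q x a ≠ 0 → a ∈ U := fun a ha h =>
      hstep a ha (fun h0 => h (by rw [haniso a ha h0]; simp [polar])) x hx h
    by_cases h : polar Q x b = 0
    · have h1 := U.sub_mem (hne _ (B.add_mem hb ha₀) (by rw [polar_add_right, h, zero_add]; exact hxa₀)) (hne a₀ ha₀ hxa₀)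
      rwa [add_sub_cancel_right] at h1
    · exact hne b hb h
  · by_cases haniso : ∀ b ∈ B, Q b = 0 → b = 0
    · intro b hb
      have hne : ∀ a ∈ B, polar Q x a ≠ 0 → a ∈ U := fun a ha h =>
        hstep a ha (fun h0 => h (by rw [haniso a ha h0]; simp [polar])) x hx h
      by_cases h : polar Q x b = 0
      · have h1 := U.sub_mem (hne _ (B.add_mem hb ha₀) (by rw [polar_add_right, h, zero_add]; exact hxa₀)) (hne a₀ ha₀ hxa₀)
        rwa [add_sub_cancel_right] at h1
      · exact hne b hb h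
    push Not at haniso
    obtain ⟨p, hp, hpq, hp0⟩ := haniso
    obtain ⟨f, hf, hpf⟩ := exists_hyp_pair hnd.comp (p := ⟨p, hp⟩) (fun h => hp0 (congrArg Subtype.val h)) hpq
    have hpf' : polar Q p (f : V) = 1 := hpf
    have hfq : Q (f : V) = 0 := hf
    have hin : ∀ s : F, s ≠ 0 → s * polar Q x p + polar Q x (f : V) ≠ 0 → s • p + (f : V) ∈ U := fun s hs h =>
      hstep _ (B.add_mem (B.smul_mem _ hp) f.2) (by rw [Q_pair hpq hfq hpf']; exact hs) x hx
        (by rwa [polar_add_right, polar_smul_right, smul_eq_mul])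
    classical
    haveI := Fintype.ofFinite F
    have hnz : polar Q x p ≠ 0 ∨ polar Q x (f : V) ≠ 0 := by
      by_contra! h
      have hspan : B ≤ Submodule.span F ({p, (f : V)} : Set V) := by
        refine (Submodule.eq_of_le_of_finrank_le (Submodule.span_le.2 ?_) ?_).ge
        · rintro z (rfl | rfl)
          · exact hp
          · exact f.2
        · have hli : LinearIndependent F ![p, (f : V)] := by
            rw [LinearIndependent.pair_iff]
            intro s t e
            have h1 := congrArg (polar Q p) e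
            have h2 := congrArg (polar Q (f : V)) e
            simp [polar_add_right, polar_smul_right, hpf', polar_comm Q (f : V) p, polar_self', hpq, hfq] at h1 h2
            exact ⟨by simpa [polar] using h2, by simpa [polar] using h1⟩
          have h5 := finrank_span_eq_card hli
          rw [Matrix.range_cons, Matrix.range_cons, Matrix.range_empty, Set.union_empty, Set.singleton_union] at h5
          rw [h2, h5, Fintype.card_fin]
      obtain ⟨s, t, e⟩ := Submodule.mem_span_pair.1 (hspan ha₀)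
      exact hxa₀ (by rw [← e, polar_add_right, polar_smul_right, polar_smul_right, h.1, h.2]; simp)
    let G := Finset.univ.filter fun s : F => s ≠ 0 ∧ s * polar Q x p + polar Q x (f : V) ≠ 0
    have hG : 1 < G.card := by
      have h5 : (Finset.univ.filter fun s : F => ¬ (s ≠ 0 ∧ s * polar Q x p + polar Q x (f : V) ≠ 0)).card ≤ 2 := by
        refine (Finset.card_le_card (t := ({0, -polar Q x (f : V) / polar Q x p} : Finset F)) fun s hs => ?_).trans Finset.card_le_two
        simp only [Finset.mem_filter, Finset.mem_univ, true_and, Finset.mem_insert, Finset.mem_singleton] at hs ⊢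
        rcases eq_or_ne s 0 with rfl | hs0
        · exact Or.inl rfl
        push Not at hs
        have h6 := hs hs0
        rcases eq_or_ne (polar Q x p) 0 with hz | hz
        · rw [hz, mul_zero, zero_add] at h6
          exact absurd h6 (hnz.resolve_left (fun h => h hz))
        · exact Or.inr (by field_simp; linear_combination h6)
      have h7 := Finset.card_filter_add_card_filter_not (s := Finset.univ) (fun s : F => s ≠ 0 ∧ s * polar Q x p + polar Q x (f : V) ≠ 0)
      rw [Finset.card_univ, ← Nat.card_eq_fintype_card] at h7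
      show 1 < (Finset.univ.filter _).card
      omega
    obtain ⟨s, hs, t, ht, hst⟩ := Finset.one_lt_card.1 hG
    simp only [G, Finset.mem_filter, Finset.mem_univ, true_and] at hs ht
    have hpU : p ∈ U := by
      have h1 := U.smul_mem (s - t)⁻¹ (U.sub_mem (hin s hs.1 hs.2) (hin t ht.1 ht.2))
      rwa [add_sub_add_right_eq_sub, ← sub_smul, inv_smul_smul₀ (sub_ne_zero.2 hst)] at h1
    have hfU : (f : V) ∈ U := by
      have h1 := U.sub_mem (hin s hs.1 hs.2) (U.smul_mem s hpU)
      rwa [add_sub_cancel_left] at h1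
    intro b hb
    have hle : Submodule.span F ({p, (f : V)} : Set V) ≤ B := Submodule.span_le.2 (by
      rintro z (rfl | rfl)
      · exact hp
      · exact f.2)
    have hb' : b + (-polar Q p b) • (f : V) + (-polar Q (f : V) b) • p = 0 := by
      refine hnd _ (B.add_mem (B.add_mem hb (B.smul_mem _ f.2)) (B.smul_mem _ hp)) fun y hy => ?_
      by_contra hne
      set w := b + (-polar Q p b) • (f : V) + (-polar Q (f : V) b) • p with hw
      have hwp : polar Q p w = 0 := by simp [hw, polar_add_right, polar_smul_right, hpf', polar_self', hpq]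
      have hwf : polar Q (f : V) w = 0 := by simp [hw, polar_add_right, polar_smul_right, polar_comm Q (f : V) p, hpf', polar_self', hfq]
      have hwn : w ∉ Submodule.span F ({p, (f : V)} : Set V) := fun hm => by
        obtain ⟨c, d, e⟩ := Submodule.mem_span_pair.1 hm
        have hd : d = 0 := by
          rw [← e] at hwp
          simpa [polar_add_right, polar_smul_right, hpf', polar_self', hpq] using hwp
        have hc : c = 0 := by
          rw [← e] at hwf
          simpa [polar_add_right, polar_smul_right, polar_comm Q (f : V) p, hpf', polar_self', hfq] using hwf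
        exact hne (by rw [← e, hc, hd]; simp [polar])
      have h5 : 3 ≤ finrank F B := by
        have hli : LinearIndependent F ![p, (f : V), w] := by
          rw [Fintype.linearIndependent_iff]
          intro c hc
          simp only [Fin.sum_univ_three, Matrix.cons_val] at hc
          have e2 : c 2 = 0 := by
            by_contra h0
            refine hwn (Submodule.mem_span_pair.2 ⟨-(c 0 / c 2), -(c 1 / c 2), ?_⟩)
            linear_combination (norm := (match_scalars <;> field_simp <;> ring)) (-(c 2)⁻¹) • hc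
          rw [e2, zero_smul, add_zero] at hc
          have e1 := congrArg (polar Q p) hc
          have e0 := congrArg (polar Q (f : V)) hc
          simp [polar_add_right, polar_smul_right, hpf', polar_comm Q (f : V) p, polar_self', hpq, hfq] at e0 e1
          intro i
          fin_cases i
          · simpa [polar] using e0
          · simpa [polar] using e1
          · exact e2
        have h6 : Submodule.span F (Set.range ![p, (f : V), w]) ≤ B := Submodule.span_le.2 (by
          rintro z ⟨i, rfl⟩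
          fin_cases i
          · exact hp
          · exact f.2
          · exact B.add_mem (B.add_mem hb (B.smul_mem _ f.2)) (B.smul_mem _ hp))
        have h8 := Submodule.finrank_mono h6
        rw [finrank_span_eq_card hli, Fintype.card_fin] at h8
        exact h8
      omega
    have h1 := U.add_mem (U.smul_mem (polar Q p b) hfU) (U.smul_mem (polar Q (f : V) b) hpU)
    convert h1 using 1
    linear_combination (norm := module) hb'

theorem NDec.over (h : NDec Q A B) (hQ : (polarBilin Q).Nondegenerate) (hI : IrrCase Q B)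
    (hbase : ∀ a ∈ A, ∀ b ∈ A, Q a = 0 → Q b = 0 → polar Q a b = 0 → Pl H a b)
    (hsieg : ∀ (p w : V) (hp : Q p = 0) (hpw : polar Q p w = 0), (p ∈ A ∧ w ∈ A) ∨ (p ∈ B ∧ w ∈ B) → sO hp hpw ∈ H)
    (hrefl : ∀ a ∈ A, ∀ b ∈ B, ∀ (ha : Q a ≠ 0) (hb : Q b ≠ 0), Q a = Q b → rO hb * rO ha ∈ H)
    (hne : ∀ g : oG Q, ¬ ∀ y ∈ A, g.1 y ∈ B) {g : oG Q} (hg : g ∈ H) (hgS : A.map g.1.toLinearMap ≠ A) : eo Q ≤ H := by
  obtain ⟨u, hu, v, hv, hu0', huq, hvq, huv, hind, hnA, hnB⟩ := h.exists_out g hgS (hne g)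
  have hp := (hbase u hu v hv huq hvq huv).conj hg
  obtain ⟨u₀, hu₀, u₁, hu₁, eu⟩ := exists_split h.compl (g.1 u)
  obtain ⟨v₀, hv₀, v₁, hv₁, ev⟩ := exists_split h.compl (g.1 v)
  obtain ⟨d, hd, w, w₀, hw₀, w₁, hw₁, hd0, ew, hw10, hdw⟩ :
      ∃ d ∈ A, ∃ w : V, ∃ w₀ ∈ A, ∃ w₁ ∈ B, d ≠ 0 ∧ w = w₀ + w₁ ∧ w₁ ≠ 0 ∧ Pl H d w := by
    have main : ∀ {u v u₀ u₁ v₀ v₁ : V}, Pl H u v → u₀ ∈ A → u₁ ∈ B → v₀ ∈ A → v₁ ∈ B → u = u₀ + u₁ → v = v₀ + v₁ →
        v₀ ∉ Submodule.span F ({u₀} : Set V) → u₀ ≠ 0 → u₁ ≠ 0 →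
        ((2 : F) ≠ 0 ∨ 7 ≤ finrank F A ∨ Q u₀ = 0 ∨ polar Q u₀ v₀ ≠ 0) →
        ∃ d ∈ A, ∃ w : V, ∃ w₀ ∈ A, ∃ w₁ ∈ B, d ≠ 0 ∧ w = w₀ + w₁ ∧ w₁ ≠ 0 ∧ Pl H d w := by
      intro u v u₀ u₁ v₀ v₁ hp hu₀ hu₁ hv₀ hv₁ eu ev hi hu00 h1 hgood
      obtain ⟨d, hd, c, hc, hd0, hdq, hcq, hud, hvd, hdc, huc, hvc⟩ := sep_two h.ndA h.dimA hu₀ hv₀ hu00 hi hgood
      exact ⟨d, hd, u, u₀, hu₀, u₁, hu₁, hd0, eu, h1, (hp.rule
        (hbase c hc d hd hcq hdq (by rw [polar_comm, hdc])) ((h.polarL hu₁ eu hc).trans huc) ((h.polarL hu₁ eu hd).trans hud)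
        ((h.polarL hv₁ ev hd).trans hvd) (by rw [h.polarL hv₁ ev hc, hvc]; exact one_ne_zero)).symm⟩
    have fromA : ∀ {u v u₀ u₁ v₀ v₁ : V}, Pl H u v → u₀ ∈ A → u₁ ∈ B → v₀ ∈ A → v₁ ∈ B → u = u₀ + u₁ → v = v₀ + v₁ →
        v₀ ∉ Submodule.span F ({u₀} : Set V) → u₀ ≠ 0 → u₁ ≠ 0 →
        ∃ d ∈ A, ∃ w : V, ∃ w₀ ∈ A, ∃ w₁ ∈ B, d ≠ 0 ∧ w = w₀ + w₁ ∧ w₁ ≠ 0 ∧ Pl H d w := by
      intro u v u₀ u₁ v₀ v₁ hp hu₀ hu₁ hv₀ hv₁ eu ev hi h0' h1
      by_cases hgood : (2 : F) ≠ 0 ∨ 7 ≤ finrank F A ∨ Q u₀ = 0 ∨ polar Q u₀ v₀ ≠ 0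
      swap
      · -- a singular combination replaces the first vector
        push Not at hgood
        obtain ⟨h2, -, huq, huv⟩ := hgood
        haveI : CharP F 2 := CharTwo.of_one_ne_zero_of_two_eq_zero one_ne_zero h2
        haveI := Fintype.ofFinite F
        obtain ⟨s, hs⟩ := FiniteField.isSquare_of_char_two (F := F) (ringChar.eq F 2) (Q v₀ / Q u₀)
        have hq' : Q (v₀ + s • u₀) = 0 := by
          rw [map_add', map_smul', polar_smul_right, polar_comm Q v₀ u₀, huv, smul_zero, add_zero, ← hs,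
            div_mul_cancel₀ _ huq]
          linear_combination Q v₀ * h2
        have hne : v₀ + s • u₀ ≠ 0 := fun e => hi (Submodule.mem_span_singleton.2
          ⟨-s, by linear_combination (norm := module) -e⟩)
        have hp' : Pl H (v + s • u) u :=
          hp.symm.span (Submodule.mem_span_pair.2 ⟨1, s, by rw [one_smul]⟩) (Submodule.subset_span (by simp))
        have e' : v + s • u = (v₀ + s • u₀) + (v₁ + s • u₁) := by rw [eu, ev]; module
        by_cases h1' : v₁ + s • u₁ = 0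
        · rw [h1', add_zero] at e'
          exact ⟨_, A.add_mem hv₀ (A.smul_mem _ hu₀), u, u₀, hu₀, u₁, hu₁, hne, eu, h1, e' ▸ hp'⟩
        exact main hp' (A.add_mem hv₀ (A.smul_mem _ hu₀)) (B.add_mem hv₁ (B.smul_mem _ hu₁)) hu₀ hu₁ e' eu
          (fun hm => by
            obtain ⟨r, hr⟩ := Submodule.mem_span_singleton.1 hm
            have e3 : r • v₀ + (r * s - 1) • u₀ = 0 := by linear_combination (norm := module) hr
            rcases eq_or_ne r 0 with rfl | hr0
            · simp at e3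
              exact h0' e3
            · exact hi (Submodule.mem_span_singleton.2 ⟨-(r * s - 1) / r, by
                linear_combination (norm := (match_scalars <;> field_simp <;> ring)) (-r⁻¹) • e3⟩))
          hne h1' (Or.inr (Or.inr (Or.inl hq')))
      exact main hp hu₀ hu₁ hv₀ hv₁ eu ev hi h0' h1 hgood
    have fromB : ∀ {w u u₀ u₁ : V}, Pl H w u → w ∈ B → w ≠ 0 → u₀ ∈ A → u₁ ∈ B → u = u₀ + u₁ → u₀ ≠ 0 →
        ∃ d ∈ A, ∃ w : V, ∃ w₀ ∈ A, ∃ w₁ ∈ B, d ≠ 0 ∧ w = w₀ + w₁ ∧ w₁ ≠ 0 ∧ Pl H d w := by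
      intro w u u₀ u₁ hp hwB hw0 hu₀ hu₁ eu h0
      obtain ⟨x, hx, hxq, hxn, hux⟩ := perp1 (Q := Q) (by have := h.dimA; omega) hu₀
      have hn : u₀ ∉ Submodule.span F ({x} : Set V) := fun hm => by
        obtain ⟨s, hs⟩ := Submodule.mem_span_singleton.1 hm
        have hs0 : s ≠ 0 := fun h' => h0 (by rw [← hs, h', zero_smul])
        exact hxn (Submodule.mem_span_singleton.2 ⟨s⁻¹, by rw [← hs, inv_smul_smul₀ hs0]⟩)
      obtain ⟨c, hc, hcq, hxc, huc⟩ := sep1 h.ndA (by have := h.dimA; omega) hx hu₀ hn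
      exact ⟨x, hx, w, 0, A.zero_mem, w, hwB, ne_zero_of_notin hxn, (zero_add w).symm, hw0,
        (hp.rule (hbase c hc x hx hcq hxq (by rw [polar_comm, hxc])) (by rw [polar_comm, h.perp c hc w hwB])
          (by rw [polar_comm, h.perp x hx w hwB]) ((h.polarL hu₁ eu hx).trans hux)
          (by rw [h.polarL hu₁ eu hc, huc]; exact one_ne_zero)).symm⟩
    by_cases h0 : u₀ = 0
    · have hv0 : v₀ ≠ 0 := fun h' => hnB.elim (fun h'' => h'' (by rw [eu, h0, zero_add]; exact hu₁))
        (fun h'' => h'' (by rw [ev, h', zero_add]; exact hv₁))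
      exact fromB hp (by rw [eu, h0, zero_add]; exact hu₁) (fun h' => hu0' (g.1.map_eq_zero_iff.1 h')) hv₀ hv₁ ev hv0
    by_cases hi : v₀ ∈ Submodule.span F ({u₀} : Set V)
    · obtain ⟨s, hs⟩ := Submodule.mem_span_singleton.1 hi
      set w := g.1 v + (-s) • g.1 u with hw
      have hwB : w ∈ B := by
        have : w = v₁ + (-s) • u₁ := by rw [hw, eu, ev, ← hs]; module
        rw [this]
        exact B.add_mem hv₁ (B.smul_mem _ hu₁)
      have hw0 : w ≠ 0 := fun h0 => hind (Submodule.mem_span_singleton.2 ⟨s, g.1.injective (by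
        rw [map_smul]
        rw [hw] at h0
        linear_combination (norm := module) -h0)⟩)
      exact fromB (hp.symm.span (Submodule.mem_span_pair.2 ⟨1, -s, by rw [hw, one_smul]⟩) (Submodule.subset_span (by simp)))
        hwB hw0 hu₀ hu₁ eu h0
    by_cases h1 : u₁ = 0
    · have hv1 : v₁ ≠ 0 := fun h' => hnA.elim (fun h'' => h'' (by rw [eu, h1, add_zero]; exact hu₀))
        (fun h'' => h'' (by rw [ev, h', add_zero]; exact hv₀))
      refine fromA hp.symm hv₀ hv₁ hu₀ hu₁ ev eu (fun hj => hi ?_) (fun h' => hi (h' ▸ Submodule.zero_mem _)) hv1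
      obtain ⟨t, ht⟩ := Submodule.mem_span_singleton.1 hj
      have ht0 : t ≠ 0 := fun h' => h0 (by rw [← ht, h', zero_smul])
      exact Submodule.mem_span_singleton.2 ⟨t⁻¹, by rw [← ht, inv_smul_smul₀ ht0]⟩
    · exact fromA hp hu₀ hu₁ hv₀ hv₁ eu ev hi h0 h1
  have hdq := hdw.1
  have hTA : ∀ y ∈ A, polar Q d y = 0 → y ∈ tS H hdq := fun y hy hdy =>
    perp_le5 h.ndA (by have := h.dimA; omega) hd hdq _ (fun z hz hzq hdz => mem_tS (hbase d hd z hz hdq hzq hdz)) hy hdy
  have hw₁T : w₁ ∈ tS H hdq := by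
    have h1 := hdw.2.2.1
    rw [ew, polar_add_right, h.perp d hd w₁ hw₁, add_zero] at h1
    have h2 := Submodule.sub_mem _ (mem_tS hdw : w ∈ tS H hdq) (hTA w₀ hw₀ h1)
    rwa [ew, add_sub_cancel_left] at h2
  have hmove : ∀ {s : oG Q}, s ∈ H → s.1 d = d → ∀ y ∈ tS H hdq, s.1 y ∈ tS H hdq := fun {s} hs hsd y hy =>
    ⟨by rw [← hsd, polar_oG, hy.1], fun a hh => by
      have h0 : polar Q d (a • y) = 0 := polar_perp_smul hy.1 a
      have h1 := mul_mem (mul_mem hs (hy.2 a h0)) (inv_mem hs)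
      rw [conj_sO] at h1
      convert h1 using 2 <;> simp [hsd]⟩
  have hBT : B ≤ tS H hdq := by
    refine le_trans (eq_top_of_stable h.ndB hI (inf_le_right : tS H hdq ⊓ B ≤ B) ⟨hw₁T, hw₁⟩ hw10 ?_ ?_) inf_le_left
    · rintro a ha haq y ⟨hy, hyB⟩
      obtain ⟨z, hz, hzq, hzn, hdz⟩ := perp1 (Q := Q) (by have := h.dimA; omega) hd
      obtain ⟨f, hf, hfq, hdf, hzf⟩ := sep1 h.ndA (by have := h.dimA; omega) hd hz hzn
      have hbq : Q (Q a • z + f) = Q a := Q_pair hzq hfq hzf (Q a)
      have hbA : Q a • z + f ∈ A := A.add_mem (A.smul_mem _ hz) hf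
      have hb0 : Q (Q a • z + f) ≠ 0 := by rwa [hbq]
      have hsH := hrefl _ hbA a ha hb0 haq hbq
      have hsd : (rO haq * rO hb0).1 d = d := by
        have hzero : polar Q d (Q a • z + f) = 0 := by rw [polar_add_right, polar_smul_right, hdz, hdf, smul_zero, add_zero]
        rw [oG_mul_apply, rO_apply hb0, hzero, zero_div, zero_smul, sub_zero, rO_apply, h.perp d hd a ha, zero_div, zero_smul, sub_zero]
      have hsy : (rO haq * rO hb0).1 y = (rO haq).1 y := by
        rw [oG_mul_apply, rO_apply hb0, polar_comm Q y, h.perp _ hbA y hyB, zero_div, zero_smul, sub_zero]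
      refine ⟨hsy ▸ hmove hsH hsd y hy, ?_⟩
      show (rO haq).1 y ∈ B
      rw [rO_apply]
      exact B.sub_mem hyB (B.smul_mem _ ha)
    · rintro p w hpq hpw hp hwB y ⟨hy, hyB⟩
      have hsd : (sO hpq hpw).1 d = d := by
        rw [sO_apply, h.perp d hd p hp, h.perp d hd w hwB]
        simp
      refine ⟨hmove (hsieg p w hpq hpw (Or.inr ⟨hp, hwB⟩)) hsd y hy, ?_⟩
      show (sO hpq hpw).1 y ∈ B
      rw [sO_apply]
      exact B.add_mem (B.add_mem (B.add_mem hyB (B.smul_mem _ hp)) (B.smul_mem _ hwB)) (B.smul_mem _ hp)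
  have hfd : Full H d := full_of_tS hdq fun y hy => by
    obtain ⟨y₀, hy₀, y₁, hy₁, rfl⟩ := exists_split h.compl y
    rw [polar_add_right, h.perp d hd y₁ hy₁, add_zero] at hy
    exact Submodule.add_mem _ (hTA y₀ hy₀ hy) (hBT hy₁)
  obtain ⟨f, hf, hfq, -, hdf⟩ := sep1 h.ndA (by have := h.dimA; omega) A.zero_mem hd (by simpa using hd0)
  obtain ⟨z₀, hz₀, f₀, hf₀, hz₀q, hf₀q, -, hdz, hfz, hdf₀, hff₀, hzf₀⟩ :=
    pair_next h.ndA h.dimA hd hf hdq (by rw [hdf]; exact one_ne_zero)
  set z := d + (-1 : F) • f + (z₀ + f₀) with hzd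
  have hzA : z ∈ A := A.add_mem (A.add_mem hd (A.smul_mem _ hf)) (A.add_mem hz₀ hf₀)
  have hzd' : polar Q z d = -1 := by
    simp [hzd, polar_add_left, polar_smul_left, polar_self', hdq, polar_comm Q f d, hdf, polar_comm Q z₀ d, hdz, polar_comm Q f₀ d, hdf₀]
  have hzf : polar Q z f = 1 := by
    simp [hzd, polar_add_left, polar_smul_left, polar_self', hfq, hdf, polar_comm Q z₀ f, hfz, polar_comm Q f₀ f, hff₀]
  have hzq : Q z = 0 := by
    rw [hzd, map_add', map_add_smul, map_add', hdq, hfq, hz₀q, hf₀q, hdf, hzf₀, polar_add_left, polar_smul_left, polar_add_right,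
      polar_add_right, hdz, hdf₀, hfz, hff₀]
    simp
  have hd' := hfd.smul (polar Q z d)⁻¹
  obtain ⟨hh, -, hmv⟩ := sO_partner (Q := Q) (e := z) (f := (polar Q z d)⁻¹ • d) (f' := f) hzq hd'.1
    (by rw [polar_smul_right, smul_eq_mul, inv_mul_cancel₀ (by rw [hzd']; simp)]) hfq hzf
  have hff : Full H f := by
    rw [← hmv]
    exact hd'.conj (hsieg _ _ hzq hh (Or.inl ⟨hzA, A.sub_mem (A.smul_mem _ hd) hf⟩))
  have hn : 3 ≤ finrank F V := by
    have := Submodule.finrank_le A
    have := h.dimA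
    omega
  exact eo_le hQ hn hfd hff (by rw [hdf]; exact one_ne_zero)

section Matrix

variable {ι : Type} [Fintype ι] [DecidableEq ι] [Fintype F]

/-- the stabiliser of a non-degenerate subspace, the larger side given by `A` -/
theorem isMaximalIn_nondeg (q : QuadraticForm F (ι → F)) (hQ : (polarBilin q).Nondegenerate) {A B W : Submodule F (ι → F)}
    (h : NDec q A B) (hW : W = A ∨ W = B) (hn : 7 ≤ Fintype.card ι) (hB0 : B ≠ ⊥) (hI : IrrCase q B)
    (hne : ∀ g : oG q, ¬ ∀ y ∈ A, g.1 y ∈ B) :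
    Cfsg.Geo.IsMaximalIn (Cfsg.Geo.omegaGL ⇑q) (Cfsg.Geo.subspaceStabilizer W ⊓ Cfsg.Geo.omegaGL ⇑q) := by
  have hn' : finrank F (ι → F) = Fintype.card ι := Module.finrank_fintype_fun_eq_card F
  have hmem : ∀ g : oG q, (glEquiv ι F).symm g.1 ∈ Cfsg.Geo.subspaceStabilizer W ↔ A.map g.1.toLinearMap = A := by
    intro g
    have hx : ∀ x, Matrix.mulVec (Cfsg.glToMat ι F ((glEquiv ι F).symm g.1)) x = g.1 x := fun x => by
      conv_rhs => rw [← (glEquiv ι F).apply_symm_apply g.1]
      rw [glEquiv_apply]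
      rfl
    have hiff : (glEquiv ι F).symm g.1 ∈ Cfsg.Geo.subspaceStabilizer W ↔ W.map g.1.toLinearMap = W := by
      refine ⟨fun h => map_eq_of_le rfl fun v hv => hx v ▸ (h v).1 hv, fun h x => ?_⟩
      rw [hx]
      refine ⟨fun hv => h.le (Submodule.mem_map_of_mem hv), fun hv => ?_⟩
      obtain ⟨w, hw, e⟩ := h.ge hv
      exact g.1.injective e ▸ hw
    rw [hiff]
    rcases hW with rfl | rfl
    · exact Iff.rfl
    · refine ⟨fun hB => map_eq_of_le rfl fun a ha => ?_, h.mem_map⟩
      obtain ⟨a', ha', b', hb', e⟩ := exists_split h.compl (g.1 a)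
      have : b' = 0 := h.ndB b' hb' fun y hy => by
        obtain ⟨y', hy', rfl⟩ : y ∈ W.map g.1.toLinearMap := hB.symm ▸ hy
        have h1 : polar q (g.1 a) (g.1 y') = polar q b' (g.1 y') := by
          rw [e, polar_add_left, show polar q a' (g.1 y') = 0 from h.perp a' ha' _ hy, zero_add]
        show polar q b' (g.1 y') = 0
        rw [← h1, polar_oG, h.perp a ha y' hy']
      rw [e, this, add_zero]
      exact ha'
  have hex : Nat.card F ≠ 2 ∨ finrank F (ι → F) ≠ 4 := Or.inr (by omega)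
  refine isMaximalIn_omega q hQ (by omega) _ ?_ fun H hH g hg hgS => ?_
  · obtain ⟨b, hb, hb0⟩ := Submodule.exists_mem_ne_zero_of_ne_bot hB0
    obtain ⟨d, hd, hdq, hdn, -⟩ := perp1 (Q := q) (by have := h.dimA; omega) A.zero_mem
    obtain ⟨x, hx, -, -, hdx⟩ := sep1 h.ndA (by have := h.dimA; omega) A.zero_mem hd hdn
    have hdb : polar q d b = 0 := h.perp d hd b hb
    refine ⟨sO hdq hdb, sO_mem_commutator hQ hex _ _, fun hm => hb0 ?_⟩
    have h1 : (sO hdq hdb).1 x ∈ A := ((hmem _).1 hm).le (Submodule.mem_map_of_mem hx)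
    rw [sO_apply, h.perp x hx b hb, polar_comm q x d, hdx] at h1
    simp only [zero_smul, add_zero, mul_one] at h1
    have h2 := A.sub_mem (A.sub_mem h1 hx) (A.smul_mem (-q b) hd)
    rw [show x + (-1 : F) • b + (-q b) • d - x - (-q b) • d = (-1 : F) • b by module] at h2
    have h3 := eq_zero_of_compl h.compl h2 (B.smul_mem _ hb)
    simpa using h3
  have hsieg : ∀ (p w : ι → F) (hp : q p = 0) (hpw : polar q p w = 0), (p ∈ A ∧ w ∈ A) ∨ (p ∈ B ∧ w ∈ B) → sO hp hpw ∈ H := by
    intro p w hp hpw hh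
    refine hH _ (sO_mem_commutator hQ hex _ _) ((hmem _).2 (map_eq_of_le rfl fun x hx => ?_))
    rw [sO_apply]
    rcases hh with ⟨hpA, hwA⟩ | ⟨hpB, hwB⟩
    · exact A.add_mem (A.add_mem (A.add_mem hx (A.smul_mem _ hpA)) (A.smul_mem _ hwA)) (A.smul_mem _ hpA)
    · rw [h.perp x hx p hpB, h.perp x hx w hwB]
      simpa using hx
  refine h.over hQ hI (fun a ha b hb haq hbq hab => ⟨haq, hbq, hab, fun l hu hh => hsieg _ _ hu hh (Or.inl ⟨ha, A.smul_mem l hb⟩)⟩)
    hsieg (fun a ha b hb haq hbq e => hH _ (rO_mul_mem_commutator hQ hbq haq (t := 1) (by rw [e]; ring))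
      ((hmem _).2 (map_eq_of_le rfl fun x hx => ?_))) hne hg (fun hm => hgS ((hmem g).2 hm))
  rw [oG_mul_apply, rO_apply haq, rO_apply hbq]
  have hx' : x - (polar q x a / q a) • a ∈ A := A.sub_mem hx (A.smul_mem _ ha)
  rw [h.perp _ hx' b hb, zero_div, zero_smul, sub_zero]
  exact hx'

theorem finrank_pos_of_ne_bot {V : Type*} [AddCommGroup V] [Module F V] [FiniteDimensional F V] {W : Submodule F V}
    (h : W ≠ ⊥) : 0 < finrank F W :=
  Nat.pos_of_ne_zero fun h0 => h (Submodule.finrank_eq_zero.1 h0)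

/-- a non-degenerate subspace and its orthogonal -/
theorem nondeg_compl (q : QuadraticForm F (ι → F)) (hQ : (polarBilin q).Nondegenerate) {W : Submodule F (ι → F)}
    (hW : NdOn q W) : IsCompl W (perpS q W) ∧ (∀ a ∈ W, ∀ b ∈ perpS q W, polar q a b = 0) ∧ NdOn q (perpS q W) := by
  have hd : Disjoint W (perpS q W) := Submodule.disjoint_def.2 fun x hx hx' =>
    hW x hx fun y hy => (polar_comm q x y).trans (mem_perpS.1 hx' y hy)
  have hc : IsCompl W (perpS q W) := ⟨hd, codisjoint_iff.2 (Submodule.eq_top_of_finrank_eq (by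
    have h1 := Submodule.finrank_sup_add_finrank_inf_eq W (perpS q W)
    rw [hd.eq_bot, finrank_bot] at h1
    have h2 := finrank_perpS hQ W
    omega))⟩
  refine ⟨hc, fun a ha b hb => mem_perpS.1 hb a ha, fun x hx h => hQ.1 x fun y => ?_⟩
  obtain ⟨a, ha, b, hb, rfl⟩ := exists_split hc y
  show polar q x (a + b) = 0
  rw [polar_add_right, h b hb, polar_comm q x a, mem_perpS.1 hx a ha, add_zero]

/-- the whole space has plus type when it is the sum of two isometric orthogonal even-dimensional halves -/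
theorem plus_of_isometric (q : QuadraticForm F (ι → F)) {W W' : Submodule F (ι → F)} (hW : NdOn q W) (hc : Disjoint W W')
    (hperp : ∀ a ∈ W, ∀ b ∈ W', polar q a b = 0) (hev : Even (finrank F W)) (g : oG q) (hg : ∀ y ∈ W, g.1 y ∈ W') :
    ∃ U : Submodule F (ι → F), finrank F U = finrank F W ∧ ∀ x ∈ U, q x = 0 := by
  obtain ⟨m, hm⟩ := hev
  obtain ⟨σ, hσ⟩ := iso_smul_even hW.comp (m := m) (by omega) (c := (-1 : F)) (neg_ne_zero.2 one_ne_zero)
  let φ : W →ₗ[F] (ι → F) := W.subtype.comp σ.toLinearMap + g.1.toLinearMap.comp W.subtype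
  have hφ : ∀ w : W, φ w = (σ w : ι → F) + g.1 w := fun w => rfl
  refine ⟨LinearMap.range φ, LinearMap.finrank_range_of_inj ?_, ?_⟩
  · refine (injective_iff_map_eq_zero φ).2 fun w hw => ?_
    rw [hφ] at hw
    have h1 : g.1 w ∈ W := by
      rw [eq_neg_of_add_eq_zero_right hw]
      exact W.neg_mem (σ w).2
    exact Subtype.ext (g.1.map_eq_zero_iff.1 (Submodule.disjoint_def.1 hc _ h1 (hg w w.2)))
  · rintro x ⟨w, rfl⟩
    rw [hφ, map_add', hperp _ (σ w).2 _ (hg w w.2), g.2]
    have h1 := hσ w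
    simp only [QuadraticMap.smul_apply, QuadraticMap.comp_apply, Submodule.subtype_apply, smul_eq_mul] at h1
    rw [h1]
    ring

/-- maximality of the stabiliser of a non-degenerate subspace from the conditions on both sides -/
theorem isMaximalIn_nd6 (q : QuadraticForm F (ι → F)) (hQ : (polarBilin q).Nondegenerate) (hn : 7 ≤ Fintype.card ι)
    {W : Submodule F (ι → F)} (hW : NdOn q W) (hW0 : W ≠ ⊥) (hW1 : W ≠ ⊤)
    (hbig : 6 ≤ max (finrank F W) (Fintype.card ι - finrank F W))
    (hhalf : 2 * finrank F W = Fintype.card ι → Even (finrank F W) ∧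
      ∀ U : Submodule F (ι → F), 2 * finrank F U = Fintype.card ι → ¬ ∀ x ∈ U, q x = 0)
    (hex : ∀ U : Submodule F (ι → F), finrank F U = 2 → Nat.card F ≤ 3 → (U = W ∨ U = perpS q W) →
      ∀ b ∈ U, q b = 0 → b = 0) :
    Cfsg.Geo.IsMaximalIn (Cfsg.Geo.omegaGL ⇑q) (Cfsg.Geo.subspaceStabilizer W ⊓ Cfsg.Geo.omegaGL ⇑q) := by
  obtain ⟨hc, hperp, hnd'⟩ := nondeg_compl q hQ hW
  have hsum := finrank_perpS hQ W
  rw [Module.finrank_fintype_fun_eq_card] at hsum
  have hB0 : perpS q W ≠ ⊥ := fun h => hW1 (by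
    have := hc.sup_eq_top
    rwa [h, sup_bot_eq] at this)
  have irr : ∀ U : Submodule F (ι → F), NdOn q U → U ≠ ⊥ → (U = W ∨ U = perpS q W) → IrrCase q U := by
    intro U hU hU0 hUW
    by_cases h3 : 3 ≤ finrank F U
    · exact Or.inl h3
    have hpos := finrank_pos_of_ne_bot hU0
    by_cases h1 : finrank F U = 1
    · refine Or.inr (Or.inl fun b hb hbq => ?_)
      by_contra hb0
      refine hb0 (hU b hb fun y hy => ?_)
      obtain ⟨v, -, hv⟩ := finrank_eq_one_iff'.1 h1
      obtain ⟨s, hs⟩ := hv ⟨b, hb⟩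
      obtain ⟨t, ht⟩ := hv ⟨y, hy⟩
      have hs' : s • (v : ι → F) = b := congrArg Subtype.val hs
      have ht' : t • (v : ι → F) = y := congrArg Subtype.val ht
      have hs0 : s ≠ 0 := fun h => hb0 (by rw [← hs', h, zero_smul])
      rw [← hs', map_smul', mul_eq_zero] at hbq
      have hvq : q (v : ι → F) = 0 := hbq.resolve_left (mul_ne_zero hs0 hs0)
      rw [← hs', ← ht', polar_smul_left, polar_smul_right, polar_self', hvq]
      simp
    by_cases hq : Nat.card F ≤ 3
    · exact Or.inr (Or.inl (hex U (by omega) hq hUW))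
    · exact Or.inr (Or.inr ⟨by omega, by omega⟩)
  rcases Nat.lt_or_ge (finrank F W) (finrank F (perpS q W)) with hlt | hge
  · refine isMaximalIn_nondeg q hQ (A := perpS q W) (B := W)
      ⟨hc.symm, fun a ha b hb => (polar_comm q a b).trans (hperp b hb a ha), hnd', hW, by omega⟩ (Or.inr rfl) (by omega)
      hW0 (irr W hW hW0 (Or.inl rfl)) fun g h => ?_
    have h1 : Submodule.map g.1.toLinearMap (perpS q W) ≤ W := by
      rintro _ ⟨y, hy, rfl⟩
      exact h y hy
    have h2 := Submodule.finrank_mono h1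
    rw [LinearEquiv.finrank_map_eq g.1] at h2
    omega
  · refine isMaximalIn_nondeg q hQ (A := W) (B := perpS q W) ⟨hc, hperp, hW, hnd', by omega⟩ (Or.inl rfl) (by omega)
      hB0 (irr _ hnd' hB0 (Or.inr rfl)) fun g h => ?_
    rcases Nat.lt_or_ge (finrank F (perpS q W)) (finrank F W) with hlt | hle
    · have h1 : Submodule.map g.1.toLinearMap W ≤ perpS q W := by
        rintro _ ⟨y, hy, rfl⟩
        exact h y hy
      have h2 := Submodule.finrank_mono h1
      rw [LinearEquiv.finrank_map_eq g.1] at h2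
      omega
    · obtain ⟨hev, hno⟩ := hhalf (by omega)
      obtain ⟨U, hU, hUts⟩ := plus_of_isometric q hW hc.disjoint hperp hev g h
      exact hno U (by omega) hUts

/-- maximality of the stabiliser of a non-degenerate subspace in dimension at least 13 -/
theorem isMaximalIn_nd (q : QuadraticForm F (ι → F)) (hQ : (polarBilin q).Nondegenerate) (hn : 13 ≤ Fintype.card ι)
    {W : Submodule F (ι → F)} (hW : NdOn q W) (hW0 : W ≠ ⊥) (hW1 : W ≠ ⊤)
    (hhalf : 2 * finrank F W = Fintype.card ι → Even (finrank F W) ∧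
      ∀ U : Submodule F (ι → F), 2 * finrank F U = Fintype.card ι → ¬ ∀ x ∈ U, q x = 0)
    (hex : ∀ U : Submodule F (ι → F), finrank F U = 2 → Nat.card F ≤ 3 → (U = W ∨ U = perpS q W) →
      ∀ b ∈ U, q b = 0 → b = 0) :
    Cfsg.Geo.IsMaximalIn (Cfsg.Geo.omegaGL ⇑q) (Cfsg.Geo.subspaceStabilizer W ⊓ Cfsg.Geo.omegaGL ⇑q) :=
  isMaximalIn_nd6 q hQ (by omega) hW hW0 hW1 (by omega) hhalf hex

end Matrix

end Cfsg.Agent.ClassicalMax.RootPlanes
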