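import Cfsg.Agent.ClassicalMax.RootTwo
import Cfsg.Agent.Classical.QuadFamily

/-!
Maximality in the orthogonal group of the stabiliser of a totally singular subspace.
-/

set_option autoImplicit false
set_option linter.unusedSectionVars false
set_option linter.style.haveILetI false

namespace Cfsg.Agent.ClassicalMax.RootPlanes

open Module QuadraticMap Matrix Cfsg.Agent.Classical Cfsg.Agent.Classical.Quad

variable {F V : Type*} [Field F] [Finite F] [AddCommGroup V] [Module F V] [FiniteDimensional F V]
  {Q : QuadraticForm F V} {W : Submodule F V} {H : Subgroup (oG Q)}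

/-- the orthogonal of `W` -/
def perpS (Q : QuadraticForm F V) (W : Submodule F V) : Submodule F V :=
  LinearMap.ker ((LinearMap.lcomp F F W.subtype).comp (polarBilin Q))

theorem mem_perpS {x : V} : x ∈ perpS Q W ↔ ∀ w ∈ W, polar Q w x = 0 := by
  rw [perpS, LinearMap.mem_ker]
  refine ⟨fun h w hw => by rw [polar_comm]; exact LinearMap.congr_fun h ⟨w, hw⟩, fun h => LinearMap.ext fun w => ?_⟩
  show polar Q x w = 0
  rw [polar_comm]
  exact h w w.2

theorem finrank_perpS (hQ : (polarBilin Q).Nondegenerate) (W : Submodule F V) :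
    finrank F (perpS Q W) + finrank F W = finrank F V := by
  have e : perpS Q W = LinearMap.BilinForm.orthogonal (polarBilin Q) W := Submodule.ext fun x => mem_perpS
  rw [e, finrank_perp hQ]
  have := Submodule.finrank_le W
  omega

theorem par_over (hQ : (polarBilin Q).Nondegenerate) (hn : 3 ≤ finrank F V) (hts : ∀ w ∈ W, Q w = 0)
    (hd : ∀ a, Q a = 0 → a ∈ perpS Q W → a ∉ W → finrank F (perpS Q W) ≠ finrank F W + 2)
    (hfull : ∀ e ∈ W, Full H e)
    (hstab : ∀ (p w : V) (hp : Q p = 0) (h : polar Q p w = 0), p ∈ perpS Q W → w ∈ perpS Q W → sO hp h ∈ H)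
    {g : oG Q} (hg : g ∈ H) (hgW : W.map g.1.toLinearMap ≠ W) : eo Q ≤ H := by
  have hWperp : W ≤ perpS Q W := fun x hx => mem_perpS.2 fun w hw => by
    rw [polar, hts _ (W.add_mem hw hx), hts _ hw, hts _ hx, sub_zero, sub_zero]
  obtain ⟨e', he', hne⟩ : ∃ e ∈ W, g.1 e ∉ W := by
    by_contra! h
    exact hgW (map_eq_of_le rfl h)
  set a := g.1 e' with ha
  have hfa : Full H a := (hfull e' he').conj hg
  by_cases hperp : ∀ w ∈ W, polar Q w a = 0
  swap
  · push Not at hperp
    obtain ⟨w, hw, hwa⟩ := hperp
    exact eo_le hQ hn (hfull w hw) hfa hwa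
  have haP : a ∈ perpS Q W := mem_perpS.2 hperp
  obtain ⟨y, hy, hay⟩ := exists_perp hQ hne
  set b := y + (-Q y) • a with hb
  have hbP : b ∈ perpS Q W := Submodule.add_mem _ (mem_perpS.2 hy) (Submodule.smul_mem _ _ haP)
  have hbq : Q b = 0 := by rw [hb, map_add_smul, hfa.1, polar_comm Q y a, hay]; ring
  have hab : polar Q a b = 1 := by rw [hb, polar_add_right, hay, polar_smul_right, polar_self', hfa.1]; simp
  -- an anisotropic vector orthogonal to both
  obtain ⟨u, huP, hau, hbu, hu⟩ : ∃ u ∈ perpS Q W, polar Q a u = 0 ∧ polar Q b u = 0 ∧ Q u ≠ 0 := by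
    by_contra! hc
    have hproj : ∀ x ∈ perpS Q W, x + (-polar Q a x) • b + (-polar Q b x) • a ∈ W := by
      intro x hx
      set x' := x + (-polar Q a x) • b + (-polar Q b x) • a with hx'
      have hP : x' ∈ perpS Q W :=
        Submodule.add_mem _ (Submodule.add_mem _ hx (Submodule.smul_mem _ _ hbP)) (Submodule.smul_mem _ _ haP)
      have h1 : polar Q a x' = 0 := by
        rw [hx']
        simp [polar_add_right, polar_smul_right, hab, polar_self', hfa.1]
      have h2 : polar Q b x' = 0 := by
        rw [hx']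
        simp [polar_add_right, polar_smul_right, polar_comm Q b a, hab, polar_self', hbq]
      by_contra hn'
      obtain ⟨z, hz, hxz⟩ := exists_perp hQ hn'
      set z' := z + (-polar Q a z) • b + (-polar Q b z) • a with hz'
      have hzP : z' ∈ perpS Q W := Submodule.add_mem _ (Submodule.add_mem _ (mem_perpS.2 hz) (Submodule.smul_mem _ _ hbP))
        (Submodule.smul_mem _ _ haP)
      have h3 : polar Q a z' = 0 := by
        rw [hz']
        simp [polar_add_right, polar_smul_right, hab, polar_self', hfa.1]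
      have h4 : polar Q b z' = 0 := by
        rw [hz']
        simp [polar_add_right, polar_smul_right, polar_comm Q b a, hab, polar_self', hbq]
      have h5 : polar Q x' z' = 1 := by
        rw [hz', polar_add_right, polar_add_right, hxz, polar_smul_right, polar_smul_right, polar_comm Q x' b, h2,
          polar_comm Q x' a, h1]
        simp
      have := hc _ (Submodule.add_mem _ hP hzP) (by rw [polar_add_right, h1, h3, add_zero])
        (by rw [polar_add_right, h2, h4, add_zero])
      rw [map_add', hc x' hP h1 h2, hc z' hzP h3 h4, h5] at this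
      simp at this
    let L : perpS Q W →ₗ[F] F × F := ((polarBilin Q a).prod (polarBilin Q b)).comp (perpS Q W).subtype
    have hker : LinearMap.ker L = W.comap (perpS Q W).subtype := by
      ext x
      rw [LinearMap.mem_ker, Submodule.mem_comap]
      constructor
      · intro hx
        have := hproj x x.2
        rw [show polar Q a (x : V) = 0 from congrArg Prod.fst hx, show polar Q b (x : V) = 0 from congrArg Prod.snd hx] at this
        simpa using this
      · intro hx
        exact Prod.ext ((polar_comm Q a _).trans (hperp _ hx)) ((polar_comm Q b _).trans (mem_perpS.1 hbP _ hx))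
    have hsurj : Function.Surjective L := fun st => ⟨⟨st.2 • a + st.1 • b,
      Submodule.add_mem _ (Submodule.smul_mem _ _ haP) (Submodule.smul_mem _ _ hbP)⟩, by
      refine Prod.ext ?_ ?_
      · show polar Q a (st.2 • a + st.1 • b) = st.1
        simp [polar_add_right, polar_smul_right, hab, polar_self', hfa.1]
      · show polar Q b (st.2 • a + st.1 • b) = st.2
        simp [polar_add_right, polar_smul_right, polar_comm Q b a, hab, polar_self', hbq]⟩
    have h1 := LinearMap.finrank_range_add_finrank_ker L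
    rw [LinearMap.range_eq_top.2 hsurj, finrank_top, Module.finrank_prod, Module.finrank_self, hker,
      (Submodule.comapSubtypeEquivOfLe hWperp).finrank_eq] at h1
    exact hd a hfa.1 haP hne (by omega)
  set z := a + (-Q u) • b + u with hz
  have hzq : Q z = 0 := by
    rw [hz, map_add', map_add_smul, hfa.1, hbq, hab, polar_add_left, polar_smul_left, hau, hbu]
    simp
  have hzP : z ∈ perpS Q W := Submodule.add_mem _ (Submodule.add_mem _ haP (Submodule.smul_mem _ _ hbP)) huP
  have hza : polar Q z a = -Q u := by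
    rw [hz]
    simp [polar_add_left, polar_smul_left, polar_self', hfa.1, polar_comm Q b a, hab, polar_comm Q u a, hau]
  have hzb : polar Q z b = 1 := by
    rw [hz]
    simp [polar_add_left, polar_smul_left, polar_self', hbq, hab, polar_comm Q u b, hbu]
  have ha' := hfa.smul (polar Q z a)⁻¹
  obtain ⟨h, -, hmv⟩ := sO_partner (Q := Q) (e := z) (f := (polar Q z a)⁻¹ • a) (f' := b) hzq ha'.1
    (by rw [polar_smul_right, smul_eq_mul, inv_mul_cancel₀ (by rw [hza]; exact neg_ne_zero.2 hu)]) hbq hzb
  have hfb : Full H b := by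
    rw [← hmv]
    exact ha'.conj (hstab _ _ hzq h hzP (Submodule.sub_mem _ (Submodule.smul_mem _ _ haP) hbP))
  exact eo_le hQ hn hfa hfb (by rw [hab]; exact one_ne_zero)

theorem par_moved (hQ : (polarBilin Q).Nondegenerate) (hts : ∀ w ∈ W, Q w = 0) (hW0 : W ≠ ⊥) (hn : 7 ≤ finrank F V) :
    ∃ g ∈ commutator (oG Q), W.map g.1.toLinearMap ≠ W := by
  obtain ⟨x, hx, hx0⟩ := Submodule.exists_mem_ne_zero_of_ne_bot hW0
  obtain ⟨p, hp, hxp⟩ := exists_hyp_pair hQ hx0 (hts x hx)
  by_contra! hc
  have hk := two_mul_finrank_le hQ hts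
  have hle : LinearMap.ker (polarBilin Q p) ≤ W ⊔ Submodule.span F {p} := fun w hw => by
    have hpw : polar Q p w = 0 := hw
    have h1 : (sO hp hpw).1 x ∈ W :=
      (hc _ (sO_mem_commutator hQ (Or.inr (by omega)) hp hpw)).le (Submodule.mem_map_of_mem hx)
    rw [sO_apply, hxp] at h1
    rw [show w = (x - (x + polar Q x w • p + (-1 : F) • w + (-(Q w * 1)) • p)) + (polar Q x w - Q w) • p by module]
    exact Submodule.add_mem _ (Submodule.mem_sup_left (W.sub_mem hx h1))
      (Submodule.mem_sup_right (Submodule.smul_mem _ _ (Submodule.mem_span_singleton_self p)))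
  have h1 := Submodule.finrank_mono hle
  have h2 := LinearMap.finrank_range_add_finrank_ker (polarBilin Q p)
  have h3 := Submodule.finrank_le (LinearMap.range (polarBilin Q p))
  rw [Module.finrank_self] at h3
  have h4 := Submodule.finrank_add_le_finrank_add_finrank W (Submodule.span F {p})
  have h5 : finrank F (Submodule.span F ({p} : Set V)) ≤ 1 := by
    have hp0 : p ≠ 0 := fun h => by simp [h, polar] at hxp
    rw [finrank_span_singleton hp0]
  omega

section Matrix

variable {ι : Type} [Fintype ι] [DecidableEq ι] [Fintype F]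

/-- the stabiliser of a totally singular subspace is maximal -/
theorem isMaximalIn_parabolic (q : QuadraticForm F (ι → F)) (hQ : (polarBilin q).Nondegenerate) (hn : 7 ≤ Fintype.card ι)
    (W : Submodule F (ι → F)) (hW0 : W ≠ ⊥) (hts : ∀ w ∈ W, q w = 0)
    (hd : ∀ a, q a = 0 → a ∈ perpS q W → a ∉ W → finrank F (perpS q W) ≠ finrank F W + 2) :
    Cfsg.Geo.IsMaximalIn (Cfsg.Geo.omegaGL ⇑q) (Cfsg.Geo.subspaceStabilizer W ⊓ Cfsg.Geo.omegaGL ⇑q) := by
  have hn' : finrank F (ι → F) = Fintype.card ι := Module.finrank_fintype_fun_eq_card F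
  have hmem : ∀ g : oG q, (glEquiv ι F).symm g.1 ∈ Cfsg.Geo.subspaceStabilizer W ↔ W.map g.1.toLinearMap = W := by
    intro g
    have e : Matrix.toLin' ((((glEquiv ι F).symm g.1 : GL ι F)) : Matrix ι ι F) = g.1.toLinearMap :=
      LinearMap.ext fun x => by
        conv_rhs => rw [← (glEquiv ι F).apply_symm_apply g.1]
        rw [LinearEquiv.coe_coe, glEquiv_apply, Matrix.toLin'_apply]
    have hv : ∀ v, Cfsg.glToMat ι F ((glEquiv ι F).symm g.1) *ᵥ v = g.1 v := fun v =>
      (Matrix.toLin'_apply _ v).symm.trans (LinearMap.congr_fun e v)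
    constructor
    · intro h
      exact map_eq_of_le rfl fun v hvW => hv v ▸ (h v).1 hvW
    · intro h v
      rw [hv]
      refine ⟨fun hvW => h.le (Submodule.mem_map_of_mem hvW), fun hgv => ?_⟩
      obtain ⟨w, hw, e'⟩ := h.ge hgv
      exact g.1.injective e' ▸ hw
  refine isMaximalIn_omega q hQ (by omega) _ ?_ fun H hH g hg hgS => ?_
  · obtain ⟨g, hg, hgW⟩ := par_moved hQ hts hW0 (by omega)
    exact ⟨g, hg, fun hm => hgW ((hmem g).1 hm)⟩
  have hex : Nat.card F ≠ 2 ∨ finrank F (ι → F) ≠ 4 := Or.inr (by omega)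
  refine par_over hQ (by omega) hts hd (fun e he => ⟨hts e he, fun w hw => hH _ (sO_mem_commutator hQ hex _ _)
    ((hmem _).2 (map_eq_of_le rfl fun x hx => ?_))⟩) (fun p w hp h hpP hwP => hH _ (sO_mem_commutator hQ hex _ _)
    ((hmem _).2 (map_eq_of_le rfl fun x hx => ?_))) hg (fun hm => hgS ((hmem g).2 hm))
  · rw [sO_apply, show polar q x e = 0 by rw [polar, hts _ (W.add_mem hx he), hts _ hx, hts _ he, sub_zero, sub_zero]]
    simpa using W.add_mem hx (W.smul_mem (polar q x w) he)
  · rw [sO_apply, mem_perpS.1 hpP x hx, mem_perpS.1 hwP x hx]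
    simpa using hx

end Matrix

end Cfsg.Agent.ClassicalMax.RootPlanes
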