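import Cfsg.Agent.ClassicalMax.RootPlanes

/-!
Overgroups in orthogonal groups of the stabiliser of two complementary totally singular subspaces, and of two
orthogonal non-degenerate subspaces.
-/

set_option autoImplicit false
set_option linter.unusedSectionVars false
set_option linter.style.haveILetI false

namespace Cfsg.Agent.ClassicalMax.RootPlanes

open Module QuadraticMap Cfsg.Agent.Classical Cfsg.Agent.Classical.Quad
open scoped commutatorElement

variable {F V : Type*} [Field F] [AddCommGroup V] [Module F V] {Q : QuadraticForm F V} {A B : Submodule F V}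
  {H : Subgroup (oG Q)}

theorem notin_swap {w u v : V} (hw : w ∉ Submodule.span F ({u, v} : Set V)) (hv : v ∉ Submodule.span F ({u} : Set V)) :
    v ∉ Submodule.span F ({w, u} : Set V) := fun h => by
  obtain ⟨s, t, e⟩ := Submodule.mem_span_pair.1 h
  rcases eq_or_ne s 0 with rfl | hs
  · exact hv (Submodule.mem_span_singleton.2 ⟨t, by rw [← e]; module⟩)
  · refine hw (Submodule.mem_span_pair.2 ⟨-(t / s), s⁻¹, ?_⟩)
    rw [← e]
    match_scalars <;> field_simp <;> ring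

theorem ne_zero_of_notin {w : V} {S : Set V} (hw : w ∉ Submodule.span F S) : w ≠ 0 :=
  fun h => hw (h ▸ zero_mem _)

theorem exists_split (h : IsCompl A B) (x : V) : ∃ a ∈ A, ∃ b ∈ B, x = a + b := by
  obtain ⟨a, ha, b, hb, e⟩ := Submodule.mem_sup.1 (h.sup_eq_top.symm ▸ Submodule.mem_top : x ∈ A ⊔ B)
  exact ⟨a, ha, b, hb, e.symm⟩

theorem eq_zero_of_compl (h : IsCompl A B) {x : V} (ha : x ∈ A) (hb : x ∈ B) : x = 0 :=
  Submodule.disjoint_def.1 h.disjoint x ha hb

theorem map_eq_of_le {g : V ≃ₗ[F] V} [FiniteDimensional F V] (h : finrank F A = finrank F B)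
    (hle : ∀ a ∈ A, g a ∈ B) : A.map g.toLinearMap = B :=
  Submodule.eq_of_le_of_finrank_eq (by rintro _ ⟨a, ha, rfl⟩; exact hle a ha)
    (by rw [LinearEquiv.finrank_map_eq g A]; exact h)

/-! ### two totally singular subspaces -/

/-- complementary totally singular subspaces of equal dimension at least 6 -/
structure Lag (Q : QuadraticForm F V) (A B : Submodule F V) : Prop where
  compl : IsCompl A B
  tsA : ∀ a ∈ A, Q a = 0
  tsB : ∀ b ∈ B, Q b = 0
  dim : 6 ≤ finrank F A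
  eqdim : finrank F A = finrank F B

theorem Lag.symm (hL : Lag Q A B) : Lag Q B A :=
  ⟨hL.compl.symm, hL.tsB, hL.tsA, hL.eqdim ▸ hL.dim, hL.eqdim.symm⟩

theorem Lag.polarA (hL : Lag Q A B) {a a' : V} (ha : a ∈ A) (ha' : a' ∈ A) : polar Q a a' = 0 := by
  rw [polar, hL.tsA _ (A.add_mem ha ha'), hL.tsA _ ha, hL.tsA _ ha', sub_zero, sub_zero]

theorem Lag.polarB (hL : Lag Q A B) {b b' : V} (hb : b ∈ B) (hb' : b' ∈ B) : polar Q b b' = 0 :=
  hL.symm.polarA hb hb'

variable [FiniteDimensional F V]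

theorem Lag.sepB (hL : Lag Q A B) (hQ : (polarBilin Q).Nondegenerate) {a b x : V} (ha : a ∈ A) (hb : b ∈ A) (hx : x ∈ A)
    (hn : x ∉ Submodule.span F ({a, b} : Set V)) :
    ∃ c ∈ B, polar Q a c = 0 ∧ polar Q b c = 0 ∧ polar Q x c = 1 := by
  obtain ⟨z, hz, hxz⟩ := exists_perp hQ hn
  obtain ⟨z₀, hz₀, z₁, hz₁, rfl⟩ := exists_split hL.compl z
  have e : ∀ y ∈ A, polar Q y (z₀ + z₁) = polar Q y z₁ := fun y hy => by
    rw [polar_add_right, hL.polarA hy hz₀, zero_add]
  exact ⟨z₁, hz₁, (e a ha).symm.trans (hz a (Submodule.subset_span (by simp))),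
    (e b hb).symm.trans (hz b (Submodule.subset_span (by simp))), (e x hx).symm.trans hxz⟩

theorem Lag.perpA (hL : Lag Q A B) (a b p p' : V) :
    ∃ w ∈ A, w ∉ Submodule.span F ({p, p'} : Set V) ∧ polar Q a w = 0 ∧ polar Q b w = 0 := by
  by_contra! hc
  let L : A →ₗ[F] F × F := ((polarBilin Q a).prod (polarBilin Q b)).comp A.subtype
  have hle : (LinearMap.ker L).map A.subtype ≤ Submodule.span F ({p, p'} : Set V) := by
    rintro _ ⟨w, hw, rfl⟩
    by_contra hn
    exact hc _ w.2 hn (congrArg Prod.fst (LinearMap.mem_ker.1 hw)) (congrArg Prod.snd (LinearMap.mem_ker.1 hw))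
  have h1 := Submodule.finrank_mono hle
  rw [← (Submodule.equivMapOfInjective A.subtype A.injective_subtype (LinearMap.ker L)).finrank_eq] at h1
  have h2 := LinearMap.finrank_range_add_finrank_ker L
  have h3 := Submodule.finrank_le (LinearMap.range L)
  rw [Module.finrank_prod, Module.finrank_self] at h3
  have h4 : finrank F (Submodule.span F ({p, p'} : Set V)) ≤ 2 := by
    classical
    have := finrank_span_le_card (R := F) ({p, p'} : Set V)
    rw [Set.toFinset_insert, Set.toFinset_singleton] at this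
    exact this.trans Finset.card_le_two
  have := hL.dim
  omega

theorem Lag.plane_of (hL : Lag Q A B) (hQ : (polarBilin Q).Nondegenerate)
    (hmix : ∀ a ∈ A, ∀ b ∈ B, polar Q a b = 0 → Pl H a b) {u v u₀ u₁ v₀ v₁ : V} (h : Pl H u v) (hu₀ : u₀ ∈ A)
    (hu₁ : u₁ ∈ B) (hv₀ : v₀ ∈ A) (hv₁ : v₁ ∈ B) (eu : u = u₀ + u₁) (ev : v = v₀ + v₁) (h0 : u₀ ≠ 0)
    (hind : v₀ ∉ Submodule.span F ({u₀} : Set V)) :
    ∃ w ∈ A, ∃ x ∈ A, x ≠ 0 ∧ w ∉ Submodule.span F ({x} : Set V) ∧ Pl H w x := by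
  obtain ⟨w, hw, hwn, huw, hvw⟩ := hL.perpA u v u₀ v₀
  obtain ⟨c, hc, hwc, huc, hvc⟩ := hL.sepB hQ hw hu₀ hv₀ (notin_swap hwn hind)
  have huw' : Pl H u w := h.rule (hmix w hw c hc hwc).symm
    (by rw [eu, polar_add_left, huc, hL.polarB hu₁ hc, add_zero]) huw hvw
    (by rw [ev, polar_add_left, hvc, hL.polarB hv₁ hc, add_zero]; exact one_ne_zero)
  obtain ⟨x, hx, hxn, hux, -⟩ := hL.perpA u u w u₀
  have hu₀w : u₀ ∉ Submodule.span F ({w} : Set V) := fun hm => by
    obtain ⟨s, hs⟩ := Submodule.mem_span_singleton.1 hm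
    have hs0 : s ≠ 0 := fun h' => h0 (by rw [← hs, h', zero_smul])
    exact hwn (Submodule.mem_span_pair.2 ⟨s⁻¹, 0, by rw [← hs, inv_smul_smul₀ hs0]; simp⟩)
  obtain ⟨c', hc', hxc', hwc', huc'⟩ := hL.sepB hQ hx hw hu₀ (notin_swap hxn hu₀w)
  refine ⟨w, hw, x, hx, ne_zero_of_notin hxn, fun hm => hxn ?_, huw'.symm.rule (hmix x hx c' hc' hxc').symm hwc'
    (hL.polarA hw hx) hux (by rw [eu, polar_add_left, huc', hL.polarB hu₁ hc', add_zero]; exact one_ne_zero)⟩
  obtain ⟨s, hs⟩ := Submodule.mem_span_singleton.1 hm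
  have hs0 : s ≠ 0 := fun h' => ne_zero_of_notin hwn (by rw [← hs, h', zero_smul])
  exact Submodule.mem_span_pair.2 ⟨s⁻¹, 0, by rw [← hs, inv_smul_smul₀ hs0]; simp⟩

theorem Lag.step (hL : Lag Q A B) (hQ : (polarBilin Q).Nondegenerate)
    (hmix : ∀ a ∈ A, ∀ b ∈ B, polar Q a b = 0 → Pl H a b) {w x : V} (hw : w ∈ A) (hx : x ∈ A)
    (hind : w ∉ Submodule.span F ({x} : Set V)) (h : Pl H w x) {a : V} (ha : a ∈ A) : Pl H a x := by
  by_cases hm : a ∈ Submodule.span F ({x, w} : Set V)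
  · exact h.span (by rwa [Set.pair_comm]) (Submodule.subset_span (by simp))
  obtain ⟨c, hc, hac, hxc, hwc⟩ := hL.sepB hQ ha hx hw (notin_swap hm hind)
  exact (h.symm.rule (hmix a ha c hc hac).symm hxc (hL.polarA hx ha) (hL.polarA hw ha) (by rw [hwc]; exact one_ne_zero)).symm

theorem Lag.all (hL : Lag Q A B) (hQ : (polarBilin Q).Nondegenerate)
    (hmix : ∀ a ∈ A, ∀ b ∈ B, polar Q a b = 0 → Pl H a b) {w x : V} (hw : w ∈ A) (hx : x ∈ A) (hx0 : x ≠ 0)
    (hind : w ∉ Submodule.span F ({x} : Set V)) (h : Pl H w x) {a y : V} (ha : a ∈ A) (hy : y ∈ A) : Pl H a y := by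
  by_cases hm : a ∈ Submodule.span F ({x} : Set V)
  · obtain ⟨s, rfl⟩ := Submodule.mem_span_singleton.1 hm
    exact (hL.step hQ hmix hw hx hind h hy).symm.smul_left s
  refine (hL.step hQ hmix hx ha (fun hm' => hm ?_) (hL.step hQ hmix hw hx hind h ha).symm hy).symm
  obtain ⟨s, hs⟩ := Submodule.mem_span_singleton.1 hm'
  have hs0 : s ≠ 0 := fun h' => hx0 (by rw [← hs, h', zero_smul])
  exact Submodule.mem_span_singleton.2 ⟨s⁻¹, by rw [← hs, inv_smul_smul₀ hs0]⟩

theorem Lag.full (hL : Lag Q A B) (hall : ∀ a ∈ A, ∀ y ∈ A, Pl H a y)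
    (hmix : ∀ a ∈ A, ∀ b ∈ B, polar Q a b = 0 → Pl H a b) {a : V} (ha : a ∈ A) : Full H a := by
  refine full_of_tS (hL.tsA a ha) fun w hw => ?_
  obtain ⟨w₀, hw₀, w₁, hw₁, rfl⟩ := exists_split hL.compl w
  rw [polar_add_right, hL.polarA ha hw₀, zero_add] at hw
  exact Submodule.add_mem _ (mem_tS (hall a ha _ hw₀)) (mem_tS (hmix a ha _ hw₁ hw))

/-- a map fixing neither possibility has an image plane with an independent pair of components -/
theorem Lag.exists_indep (hL : Lag Q A B) (g : V ≃ₗ[F] V) (hA : A.map g.toLinearMap ≠ A) (hB : A.map g.toLinearMap ≠ B) :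
    ∃ a ∈ A, ∃ b ∈ B, polar Q a b = 0 ∧ ∃ u₀ ∈ A, ∃ u₁ ∈ B, ∃ v₀ ∈ A, ∃ v₁ ∈ B, g a = u₀ + u₁ ∧ g b = v₀ + v₁ ∧
      ((u₀ ≠ 0 ∧ v₀ ∉ Submodule.span F ({u₀} : Set V)) ∨ (u₁ ≠ 0 ∧ v₁ ∉ Submodule.span F ({u₁} : Set V))) := by
  by_contra! hc
  have key : ∀ a ∈ A, g a ∈ A ∨ g a ∈ B := by
    intro a ha
    obtain ⟨x, hx, y, hy, e⟩ := exists_split hL.compl (g a)
    rcases eq_or_ne x 0 with rfl | hx0
    · exact Or.inr (by rw [e, zero_add]; exact hy)
    rcases eq_or_ne y 0 with rfl | hy0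
    · exact Or.inl (by rw [e, add_zero]; exact hx)
    exfalso
    let L : B →ₗ[F] F := (polarBilin Q a).comp B.subtype
    have hle : (LinearMap.ker L).map (g.toLinearMap.comp B.subtype) ≤ Submodule.span F ({x, y} : Set V) := by
      rintro _ ⟨b, hb, rfl⟩
      obtain ⟨v₀, hv₀, v₁, hv₁, ev⟩ := exists_split hL.compl (g b)
      obtain ⟨h1, h2⟩ := hc a ha b b.2 (LinearMap.mem_ker.1 hb) x hx y hy v₀ hv₀ v₁ hv₁ e ev
      show g b ∈ _
      rw [ev]
      exact Submodule.add_mem _ (Submodule.span_mono (by simp) (h1 hx0)) (Submodule.span_mono (by simp) (h2 hy0))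
    have h1 := Submodule.finrank_mono hle
    rw [← (Submodule.equivMapOfInjective (g.toLinearMap.comp B.subtype) (g.injective.comp B.injective_subtype)
      (LinearMap.ker L)).finrank_eq] at h1
    have h2 := LinearMap.finrank_range_add_finrank_ker L
    have h3 := Submodule.finrank_le (LinearMap.range L)
    rw [Module.finrank_self] at h3
    have h4 : finrank F (Submodule.span F ({x, y} : Set V)) ≤ 2 := by
      classical
      have := finrank_span_le_card (R := F) ({x, y} : Set V)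
      rw [Set.toFinset_insert, Set.toFinset_singleton] at this
      exact this.trans Finset.card_le_two
    have := hL.dim
    have := hL.eqdim
    omega
  have h1 : ∃ a ∈ A, g a ∉ A := by
    by_contra! h
    exact hA (map_eq_of_le rfl h)
  have h2 : ∃ a ∈ A, g a ∉ B := by
    by_contra! h
    exact hB (map_eq_of_le hL.eqdim h)
  obtain ⟨a, ha, hga⟩ := h1
  obtain ⟨a', ha', hga'⟩ := h2
  have hb := (key a ha).resolve_left hga
  have hb' := (key a' ha').resolve_right hga'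
  rcases key _ (A.add_mem ha ha') with h | h <;> rw [map_add] at h
  · exact hga ((A.add_mem_iff_left hb').1 h)
  · exact hga' ((B.add_mem_iff_right hb).1 h)

/-- the commutator exchanging the members of paired hyperbolic planes -/
theorem Lag.exists_swap (hL : Lag Q A B) (hQ : (polarBilin Q).Nondegenerate) (heven : Even (finrank F A)) :
    ∃ s ∈ commutator (oG Q), (∀ a ∈ A, s.1 a ∈ B) ∧ ∀ b ∈ B, s.1 b ∈ A := by
  classical
  obtain ⟨h, hh⟩ := heven
  let e : Basis (Fin h × Bool) F A := (Module.finBasis F A).reindex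
    (Fintype.equivOfCardEq (by rw [Fintype.card_fin, Fintype.card_prod, Fintype.card_fin, Fintype.card_bool]; omega))
  let ψ₀ : B →ₗ[F] (Fin h × Bool → F) := LinearMap.pi fun i => (polarBilin Q (e i)).comp B.subtype
  have hψ : Function.Injective ψ₀ := (injective_iff_map_eq_zero _).2 fun b hb => Subtype.ext (by
    refine hQ.2 b fun y => ?_
    obtain ⟨y₀, hy₀, y₁, hy₁, rfl⟩ := exists_split hL.compl y
    show polar Q (y₀ + y₁) b = 0
    rw [polar_add_left, hL.polarB hy₁ b.2, add_zero]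
    have : polar Q ((∑ i, e.repr ⟨y₀, hy₀⟩ i • e i : A) : V) (b : V) = 0 := by
      rw [Submodule.coe_sum, show polar Q (∑ i, (((e.repr ⟨y₀, hy₀⟩ i • e i : A)) : V)) (b : V) =
        ∑ i, polarBilin Q ((e.repr ⟨y₀, hy₀⟩ i • e i : A) : V) (b : V) by
          rw [← polarBilin_apply_apply, map_sum, LinearMap.sum_apply]]
      refine Finset.sum_eq_zero fun i _ => ?_
      have hi : polar Q (e i : V) (b : V) = 0 := congrFun hb i
      rw [polarBilin_apply_apply, Submodule.coe_smul, polar_smul_left, hi, smul_zero]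
    rwa [e.sum_repr] at this)
  let ψ : B ≃ₗ[F] (Fin h × Bool → F) := LinearEquiv.ofBijective ψ₀
    ⟨hψ, (LinearMap.injective_iff_surjective_of_finrank_eq_finrank (by
      rw [Module.finrank_fintype_fun_eq_card, Fintype.card_prod, Fintype.card_fin, Fintype.card_bool, ← hL.eqdim]; omega)).1 hψ⟩
  let Φ : V ≃ₗ[F] (Fin h × Bool → F) × (Fin h × Bool → F) :=
    (Submodule.prodEquivOfIsCompl A B hL.compl).symm.trans (e.equivFun.prodCongr ψ)
  let N : (Fin h × Bool → F) × (Fin h × Bool → F) → F := fun p => ∑ i, p.1 i * p.2 i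
  have hN : ∀ x, Q x = N (Φ x) := fun x => by
    obtain ⟨⟨a, b⟩, rfl⟩ := (Submodule.prodEquivOfIsCompl A B hL.compl).surjective x
    have e1 : Φ (Submodule.prodEquivOfIsCompl A B hL.compl (a, b)) = (e.equivFun a, ψ b) := by simp [Φ]
    rw [e1, Submodule.coe_prodEquivOfIsCompl', map_add', hL.tsA _ a.2, hL.tsB _ b.2, zero_add, zero_add]
    conv_lhs => rw [← e.sum_equivFun a]
    rw [Submodule.coe_sum, ← polarBilin_apply_apply, map_sum, LinearMap.sum_apply]
    refine Finset.sum_congr rfl fun i _ => ?_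
    rw [Submodule.coe_smul, polarBilin_apply_apply, polar_smul_left, smul_eq_mul]
    rfl
  let mk : ∀ σ : ((Fin h × Bool → F) × (Fin h × Bool → F)) ≃ₗ[F] ((Fin h × Bool → F) × (Fin h × Bool → F)),
      (∀ p, N (σ p) = N p) → oG Q := fun σ hσ => ⟨(Φ.trans σ).trans Φ.symm, fun x => by
    rw [hN, hN]
    change N (Φ (Φ.symm (σ (Φ x)))) = N (Φ x)
    rw [LinearEquiv.apply_symm_apply, hσ]⟩
  let π : Fin h × Bool ≃ Fin h × Bool := ⟨fun i => (i.1, !i.2), fun i => (i.1, !i.2), fun i => by simp, fun i => by simp⟩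
  let σX : ((Fin h × Bool → F) × (Fin h × Bool → F)) ≃ₗ[F] ((Fin h × Bool → F) × (Fin h × Bool → F)) :=
    { toFun := fun p => (fun i => p.1 (π i), fun i => p.2 (π i))
      map_add' := fun p p' => rfl
      map_smul' := fun c p => rfl
      invFun := fun p => (fun i => p.1 (π i), fun i => p.2 (π i))
      left_inv := fun p => by ext i <;> simp [π]
      right_inv := fun p => by ext i <;> simp [π] }
  let σY : ((Fin h × Bool → F) × (Fin h × Bool → F)) ≃ₗ[F] ((Fin h × Bool → F) × (Fin h × Bool → F)) :=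
    { toFun := fun p => (fun i => if i.2 then p.2 i else p.1 i, fun i => if i.2 then p.1 i else p.2 i)
      map_add' := fun p p' => by ext i <;> by_cases hi : i.2 <;> simp [hi]
      map_smul' := fun c p => by ext i <;> by_cases hi : i.2 <;> simp [hi]
      invFun := fun p => (fun i => if i.2 then p.2 i else p.1 i, fun i => if i.2 then p.1 i else p.2 i)
      left_inv := fun p => by ext i <;> by_cases hi : i.2 <;> simp [hi]
      right_inv := fun p => by ext i <;> by_cases hi : i.2 <;> simp [hi] }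
  have hX : ∀ p, N (σX p) = N p := fun p => Equiv.sum_comp π fun i => p.1 i * p.2 i
  have hY : ∀ p, N (σY p) = N p := fun p => Finset.sum_congr rfl fun i _ => by
    by_cases hi : i.2 <;> simp [σY, hi, mul_comm]
  have hmk : ∀ σ hσ x, (mk σ hσ).1 x = Φ.symm (σ (Φ x)) := fun σ hσ x => rfl
  let X := mk σX hX
  let Y := mk σY hY
  have hs : ∀ x, ((⁅X, Y⁆ : oG Q)).1 x = Φ.symm ((Φ x).2, (Φ x).1) := fun x => by
    have eX : X⁻¹ = X := inv_eq_of_mul_eq_one_right (ext_oG fun y => by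
      show Φ.symm (σX (Φ (Φ.symm (σX (Φ y))))) = y
      rw [LinearEquiv.apply_symm_apply]
      exact (congrArg Φ.symm (σX.left_inv (Φ y))).trans (Φ.symm_apply_apply y))
    have eY : Y⁻¹ = Y := inv_eq_of_mul_eq_one_right (ext_oG fun y => by
      show Φ.symm (σY (Φ (Φ.symm (σY (Φ y))))) = y
      rw [LinearEquiv.apply_symm_apply]
      exact (congrArg Φ.symm (σY.left_inv (Φ y))).trans (Φ.symm_apply_apply y))
    rw [commutatorElement_def, eX, eY]
    rw [oG_mul_apply, oG_mul_apply, oG_mul_apply]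
    simp only [X, Y, hmk, LinearEquiv.apply_symm_apply]
    refine congrArg Φ.symm ?_
    ext ⟨i, b⟩ <;> cases b <;> simp [σX, σY, π]
  refine ⟨⁅X, Y⁆, by rw [commutator_def]; exact Subgroup.commutator_mem_commutator trivial trivial, fun a ha => ?_,
    fun b hb => ?_⟩ <;> rw [hs]
  · have e1 : Φ a = (e.equivFun ⟨a, ha⟩, 0) := by
      simp [Φ, Submodule.prodEquivOfIsCompl_symm_apply_left A B hL.compl ⟨a, ha⟩]
    rw [e1]
    simp [Φ, Submodule.coe_prodEquivOfIsCompl']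
  · have e1 : Φ b = (0, ψ ⟨b, hb⟩) := by
      simp [Φ, Submodule.prodEquivOfIsCompl_symm_apply_right A B hL.compl ⟨b, hb⟩]
    rw [e1]
    simp [Φ, Submodule.coe_prodEquivOfIsCompl']
    exact sum_mem fun i _ => A.smul_mem _ (e i).2

theorem Lag.over [Finite F] (hL : Lag Q A B) (hQ : (polarBilin Q).Nondegenerate) (heven : Even (finrank F A))
    (hmix : ∀ a ∈ A, ∀ b ∈ B, polar Q a b = 0 → Pl H a b)
    (hsw : ∀ s ∈ commutator (oG Q), (∀ a ∈ A, s.1 a ∈ B) → (∀ b ∈ B, s.1 b ∈ A) → s ∈ H) {g : oG Q} (hg : g ∈ H)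
    (hgS : ¬ ((A.map g.1.toLinearMap = A ∧ B.map g.1.toLinearMap = B) ∨
      (A.map g.1.toLinearMap = B ∧ B.map g.1.toLinearMap = A))) : eo Q ≤ H := by
  have hmix' : ∀ b ∈ B, ∀ a ∈ A, polar Q b a = 0 → Pl H b a := fun b hb a ha h =>
    (hmix a ha b hb (by rwa [polar_comm])).symm
  obtain ⟨s, hs, hsA, hsB⟩ := hL.exists_swap hQ heven
  have hsH := hsw s hs hsA hsB
  suffices ∃ C D, ((C = A ∧ D = B) ∨ (C = B ∧ D = A)) ∧
      ∃ w ∈ C, ∃ x ∈ C, x ≠ 0 ∧ w ∉ Submodule.span F ({x} : Set V) ∧ Pl H w x by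
    obtain ⟨C, D, hCD, w, hw, x, hx, hx0, hind, hwx⟩ := this
    have hp : Pl H (s.1 w) (s.1 x) := hwx.conj hsH
    have hind' : s.1 w ∉ Submodule.span F ({s.1 x} : Set V) := fun hm => hind (by
      obtain ⟨t, ht⟩ := Submodule.mem_span_singleton.1 hm
      exact Submodule.mem_span_singleton.2 ⟨t, s.1.injective (by rw [map_smul, ht])⟩)
    have hx0' : s.1 x ≠ 0 := fun h => hx0 (s.1.map_eq_zero_iff.1 h)
    have hAB : (∀ a ∈ A, ∀ y ∈ A, Pl H a y) ∧ ∀ a ∈ B, ∀ y ∈ B, Pl H a y := by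
      rcases hCD with ⟨rfl, rfl⟩ | ⟨rfl, rfl⟩
      · exact ⟨fun a ha y hy => hL.all hQ hmix hw hx hx0 hind hwx ha hy,
          fun a ha y hy => hL.symm.all hQ hmix' (hsA w hw) (hsA x hx) hx0' hind' hp ha hy⟩
      · exact ⟨fun a ha y hy => hL.all hQ hmix (hsB w hw) (hsB x hx) hx0' hind' hp ha hy,
          fun a ha y hy => hL.symm.all hQ hmix' hw hx hx0 hind hwx ha hy⟩
    obtain ⟨e, heA, hen, -, -⟩ := hL.perpA 0 0 0 0
    obtain ⟨f, hfB, -, -, hef⟩ := hL.sepB hQ A.zero_mem A.zero_mem heA hen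
    have hn : 3 ≤ finrank F V := by
      have := Submodule.finrank_le A
      have := hL.dim
      omega
    exact eo_le hQ hn (hL.full hAB.1 hmix heA) (hL.symm.full hAB.2 hmix' hfB) (by rw [hef]; exact one_ne_zero)
  have main : ∀ {C D : Submodule F V}, Lag Q C D → (∀ a ∈ C, ∀ b ∈ D, polar Q a b = 0 → Pl H a b) →
      C.map g.1.toLinearMap ≠ C → C.map g.1.toLinearMap ≠ D →
      ∃ E G, ((E = C ∧ G = D) ∨ (E = D ∧ G = C)) ∧
        ∃ w ∈ E, ∃ x ∈ E, x ≠ 0 ∧ w ∉ Submodule.span F ({x} : Set V) ∧ Pl H w x := by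
    intro C D hC hm h1 h2
    obtain ⟨a, ha, b, hb, hab, u₀, hu₀, u₁, hu₁, v₀, hv₀, v₁, hv₁, eu, ev, h | h⟩ := hC.exists_indep g.1 h1 h2
    · exact ⟨C, D, Or.inl ⟨rfl, rfl⟩, hC.plane_of hQ hm ((hm a ha b hb hab).conj hg) hu₀ hu₁ hv₀ hv₁ eu ev h.1 h.2⟩
    · exact ⟨D, C, Or.inr ⟨rfl, rfl⟩, hC.symm.plane_of hQ (fun y hy z hz h' => (hm z hz y hy (by rwa [polar_comm])).symm)
        ((hm a ha b hb hab).conj hg) hu₁ hu₀ hv₁ hv₀ (eu.trans (add_comm _ _)) (ev.trans (add_comm _ _)) h.1 h.2⟩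
  by_cases hA : A.map g.1.toLinearMap = A ∨ A.map g.1.toLinearMap = B
  · have hinj : A.map g.1.toLinearMap ≠ B.map g.1.toLinearMap := fun e => by
      have e' := Submodule.map_injective_of_injective g.1.injective e
      obtain ⟨e₀, he₀, hn0, -, -⟩ := hL.perpA 0 0 0 0
      exact ne_zero_of_notin hn0 (eq_zero_of_compl hL.compl he₀ (e' ▸ he₀))
    obtain ⟨E, G, hEG, hp⟩ := main hL.symm hmix' (fun h => hgS (by
      rcases hA with h' | h'
      · exact Or.inl ⟨h', h⟩
      · exact absurd (h'.trans h.symm) hinj)) (fun h => hgS (by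
      rcases hA with h' | h'
      · exact absurd (h'.trans h.symm) hinj
      · exact Or.inr ⟨h', h⟩))
    exact ⟨E, G, hEG.symm, hp⟩
  · push Not at hA
    exact main hL hmix hA.1 hA.2

end Cfsg.Agent.ClassicalMax.RootPlanes
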