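import Cfsg.Agent.ClassicalMax.RootPlanes

/-!
Overgroups in orthogonal groups of the normaliser of a quadratic extension field with a unitary structure: the long
root groups of the singular lines over the extension field suffice.
-/

set_option autoImplicit false
set_option linter.unusedSectionVars false
set_option linter.style.haveILetI false

namespace Cfsg.Agent.ClassicalMax.RootPlanes

open Module QuadraticMap Cfsg.Agent.Classical Cfsg.Agent.Classical.Quad

variable {F V : Type*} [Field F] [Finite F] [AddCommGroup V] [Module F V] [FiniteDimensional F V]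
  {Q : QuadraticForm F V} {J : V →ₗ[F] V} {t N : F} {H : Subgroup (oG Q)}

/-- `J` generates a quadratic field of similarities of `Q` on which the adjoint is the conjugation -/
structure UData (Q : QuadraticForm F V) (J : V →ₗ[F] V) (t N : F) : Prop where
  sq : ∀ v, J (J v) = t • J v - N • v
  irred : ∀ x : F, x * x - t * x + N ≠ 0
  adj : ∀ u v, polar Q (J u) v = polar Q u (t • v - J v)
  sim : ∀ u v, polar Q (J u) (J v) = N * polar Q u v
  sing : ∀ u, Q u = 0 → Q (J u) = 0 ∧ polar Q u (J u) = 0
  dim : 10 ≤ finrank F V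
  nd : (polarBilin Q).Nondegenerate

/-- the line over the quadratic field -/
def kl (J : V →ₗ[F] V) (u : V) : Submodule F V := Submodule.span F ({u, J u} : Set V)

namespace UData

theorem kl_closed (hU : UData Q J t N) {u w : V} (hw : w ∈ kl J u) : J w ∈ kl J u := by
  obtain ⟨a, b, rfl⟩ := Submodule.mem_span_pair.1 hw
  rw [map_add, map_smul, map_smul, hU.sq]
  exact Submodule.mem_span_pair.2 ⟨-(b * N), a + b * t, by module⟩

/-- division inside a closed subspace -/
theorem mem_of_comb (hU : UData Q J t N) (S : Submodule F V) (hS : ∀ w ∈ S, J w ∈ S) {v : V} {a b : F}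
    (h : a • v + b • J v ∈ S) (hne : a ≠ 0 ∨ b ≠ 0) : v ∈ S := by
  rcases eq_or_ne b 0 with rfl | hb
  · rw [zero_smul, add_zero] at h
    have := S.smul_mem a⁻¹ h
    rwa [inv_smul_smul₀ (hne.resolve_right (fun h => h rfl))] at this
  have h1 := S.sub_mem (S.smul_mem (a + b * t) h) (S.smul_mem b (hS _ h))
  rw [map_add, map_smul, map_smul, hU.sq,
    show (a + b * t) • (a • v + b • J v) - b • (a • J v + b • (t • J v - N • v)) = (a * (a + b * t) + b * b * N) • v by module] at h1
  have hc : a * (a + b * t) + b * b * N ≠ 0 := fun h0 => hU.irred (-a / b) (by field_simp; linear_combination h0)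
  have := S.smul_mem (a * (a + b * t) + b * b * N)⁻¹ h1
  rwa [inv_smul_smul₀ hc] at this

theorem kl_indep (hU : UData Q J t N) {v : V} (hv : v ≠ 0) {a b : F} (h : a • v + b • J v = 0) : a = 0 ∧ b = 0 := by
  by_contra hne
  exact hv ((Submodule.mem_bot F).1 (hU.mem_of_comb ⊥ (by simp) (by simpa using h) (by tauto)))

theorem adj' (hU : UData Q J t N) (u v : V) : polar Q u (J v) = t * polar Q u v - polar Q (J u) v := by
  rw [hU.adj, sub_eq_add_neg (t • v), polar_add_right, polar_smul_right, polar_neg_right, smul_eq_mul]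
  ring

theorem polar_J_self (hU : UData Q J t N) {u : V} (hu : Q u = 0) : polar Q (J u) u = 0 := by
  rw [polar_comm]; exact (hU.sing u hu).2

theorem finrank_span_le {n : ℕ} (p : Fin n → V) : finrank F (Submodule.span F (Set.range p)) ≤ n := by
  have := finrank_range_le_card (R := F) p
  rwa [Set.finrank, Fintype.card_fin] at this

theorem sep (hU : UData Q J t N) {n : ℕ} (p : Fin n → V) (hn : n ≤ 3) {x : V} (hx : x ∉ Submodule.span F (Set.range p)) :
    ∃ c, Q c = 0 ∧ (∀ i, polar Q (p i) c = 0) ∧ polar Q x c = 1 := by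
  have h1 := finrank_span_le (F := F) p
  obtain ⟨c, hc, hp, hxc⟩ := exists_sing_sep hU.nd _ (by have := hU.dim; omega) hx
  exact ⟨c, hc, fun i => hp _ (Submodule.subset_span ⟨i, rfl⟩), hxc⟩

theorem perp (hU : UData Q J t N) {n : ℕ} (p : Fin n → V) (hn : n ≤ 3) :
    ∃ c, Q c = 0 ∧ c ∉ Submodule.span F (Set.range p) ∧ ∀ i, polar Q (p i) c = 0 := by
  have h1 := finrank_span_le (F := F) p
  obtain ⟨c, hc, hcn, hp⟩ := exists_sing_perp (Q := Q) (Submodule.span F (Set.range p)) (by have := hU.dim; omega)
  exact ⟨c, hc, hcn, fun i => hp _ (Submodule.subset_span ⟨i, rfl⟩)⟩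

/-- the perpendicular of `U` not in `S` -/
theorem exists_perp_complement (U S : Submodule F V) :
    ∃ X : Submodule F V, (∀ x ∈ X, ∀ u ∈ U, polar Q u x = 0) ∧ Disjoint X S ∧
      finrank F V ≤ finrank F X + finrank F U + finrank F S := by
  set P := LinearMap.ker ((LinearMap.lcomp F F U.subtype).comp (polarBilin Q))
  obtain ⟨S', hS'⟩ := S.exists_isCompl
  refine ⟨S' ⊓ P, fun x hx u hu => ?_, (hS'.disjoint.symm.mono_left inf_le_left), ?_⟩
  · rw [polar_comm]
    exact LinearMap.congr_fun (LinearMap.mem_ker.1 hx.2) ⟨u, hu⟩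
  · have h1 := Submodule.finrank_sup_add_finrank_inf_eq S' P
    have h2 := Submodule.finrank_le (S' ⊔ P)
    have h3 := Submodule.finrank_add_eq_of_isCompl hS'
    have h4 : finrank F V ≤ finrank F P + finrank F U := finrank_perp_ge U
    omega

/-- a singular vector orthogonal to some vectors outside the span of others -/
theorem perp_avoid (hU : UData Q J t N) {n m : ℕ} (p : Fin n → V) (s : Fin m → V) (h : n + m ≤ 7) :
    ∃ c, Q c = 0 ∧ c ∉ Submodule.span F (Set.range s) ∧ ∀ i, polar Q (p i) c = 0 := by
  have h1 := finrank_span_le (F := F) p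
  have h2 := finrank_span_le (F := F) s
  obtain ⟨X, hX, hd, hdim⟩ := exists_perp_complement (Q := Q) (Submodule.span F (Set.range p)) (Submodule.span F (Set.range s))
  obtain ⟨c, hc0, hc⟩ := exists_singular (Q.comp X.subtype) (by have := hU.dim; omega)
  exact ⟨c, hc, fun hm => hc0 (Subtype.ext (Submodule.disjoint_def.1 hd _ c.2 hm)),
    fun i => hX _ c.2 _ (Submodule.subset_span ⟨i, rfl⟩)⟩

/-- the norm of a non-zero element of the field -/
theorem norm_ne (hU : UData Q J t N) {p r : F} (h : p ≠ 0 ∨ r ≠ 0) : N * (p * p) - t * (p * r) + r * r ≠ 0 := fun e => by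
  rcases eq_or_ne p 0 with hp | hp
  · rw [hp] at e h
    exact h.elim (fun h => h rfl) fun hr => hr (mul_self_eq_zero.1 (by linear_combination e))
  · exact hU.irred (r / p) (by field_simp; linear_combination e)

/-- two vectors of the line of `v` orthogonal to the line of `w` force independence -/
theorem line_nonperp (hU : UData Q J t N) {v w : V} (h : polar Q v w ≠ 0 ∨ polar Q v (J w) ≠ 0) {c₁ c₂ : F}
    (h1 : polar Q v (c₁ • w + c₂ • J w) = 0) (h2 : polar Q (J v) (c₁ • w + c₂ • J w) = 0) : c₁ = 0 ∧ c₂ = 0 := by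
  have e : polar Q (J v) w = t * polar Q v w - polar Q v (J w) := by
    have := hU.adj' v w
    linear_combination this
  simp only [polar_add_right, polar_smul_right, smul_eq_mul, hU.sim, e] at h1 h2
  have hn := hU.norm_ne h
  constructor
  · exact (mul_eq_zero.1 (show c₁ * (N * (polar Q v w * polar Q v w) - t * (polar Q v w * polar Q v (J w)) +
      polar Q v (J w) * polar Q v (J w)) = 0 by
      linear_combination (N * polar Q v w) * h1 - polar Q v (J w) * h2)).resolve_right hn
  · exact (mul_eq_zero.1 (show c₂ * (N * (polar Q v w * polar Q v w) - t * (polar Q v w * polar Q v (J w)) +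
      polar Q v (J w) * polar Q v (J w)) = 0 by
      linear_combination (polar Q v (J w) - t * polar Q v w) * h1 + polar Q v w * h2)).resolve_right hn

theorem closed_four (hU : UData Q J t N) (a d : V) : ∀ w ∈ Submodule.span F (Set.range ![a, J a, d, J d]),
    J w ∈ Submodule.span F (Set.range ![a, J a, d, J d]) := by
  intro w hw
  induction hw using Submodule.span_induction with
  | mem x hx =>
    obtain ⟨i, rfl⟩ := hx
    fin_cases i
    · exact Submodule.subset_span ⟨1, rfl⟩
    · show J (J a) ∈ _
      rw [hU.sq]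
      exact Submodule.sub_mem _ (Submodule.smul_mem _ _ (Submodule.subset_span ⟨1, rfl⟩))
        (Submodule.smul_mem _ _ (Submodule.subset_span ⟨0, rfl⟩))
    · exact Submodule.subset_span ⟨3, rfl⟩
    · show J (J d) ∈ _
      rw [hU.sq]
      exact Submodule.sub_mem _ (Submodule.smul_mem _ _ (Submodule.subset_span ⟨3, rfl⟩))
        (Submodule.smul_mem _ _ (Submodule.subset_span ⟨2, rfl⟩))
  | zero => rw [map_zero]; exact zero_mem _
  | add x y _ _ hx hy => rw [map_add]; exact add_mem hx hy
  | smul c x _ hx => rw [map_smul]; exact Submodule.smul_mem _ _ hx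

theorem kl_le_four (a d : V) : kl J a ≤ Submodule.span F (Set.range ![a, J a, d, J d]) :=
  Submodule.span_le.2 (by
    rintro x (rfl | rfl)
    · exact Submodule.subset_span ⟨0, rfl⟩
    · exact Submodule.subset_span ⟨1, rfl⟩)

theorem ne_zero_of_notin' {w : V} {S : Submodule F V} (hw : w ∉ S) : w ≠ 0 := fun h => hw (h ▸ zero_mem _)

/-- an element outside the normaliser moves some singular line -/
theorem exists_moved (hU : UData Q J t N) (g : oG Q)
    (hout : ¬ ∃ α β : F, ∀ v, g.1 (J v) = α • g.1 v + β • J (g.1 v)) :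
    ∃ u, Q u = 0 ∧ u ≠ 0 ∧ g.1 (J u) ∉ kl J (g.1 u) := by
  by_contra! hc
  refine hout ?_
  obtain ⟨u, hu, hun, -⟩ := hU.perp (![] : Fin 0 → V) (by omega)
  have hu0 := ne_zero_of_notin' hun
  obtain ⟨α, β, hαβ⟩ := Submodule.mem_span_pair.1 (hc u hu hu0)
  refine ⟨α, β, fun v => ?_⟩
  have key : ∀ {x y : V} {a b : F}, Q x = 0 → Q y = 0 → x ≠ 0 → polar Q x y = 0 →
      g.1 y ∉ kl J (g.1 x) → a • g.1 x + b • J (g.1 x) = g.1 (J x) → a • g.1 y + b • J (g.1 y) = g.1 (J y) := by
    intro x y a b hx hy hx0 hxy hn e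
    have hy0 : y ≠ 0 := fun h => hn (by rw [h, map_zero]; exact zero_mem _)
    obtain ⟨a', b', e'⟩ := Submodule.mem_span_pair.1 (hc y hy hy0)
    have hs : x + y ≠ 0 := fun h => hn (by
      rw [show y = -x from (neg_eq_of_add_eq_zero_right h).symm, map_neg]
      exact neg_mem (Submodule.subset_span (by simp)))
    obtain ⟨a'', b'', e''⟩ := Submodule.mem_span_pair.1 (hc _ (by rw [map_add', hx, hy, hxy]; ring) hs)
    simp only [map_add] at e''
    rw [← e, ← e'] at e''
    have h1 : (a'' - a') • g.1 y + (b'' - b') • J (g.1 y) ∈ kl J (g.1 x) :=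
      Submodule.mem_span_pair.2 ⟨a - a'', b - b'', by linear_combination (norm := module) -e''⟩
    have hab : a'' = a' ∧ b'' = b' := by
      by_contra hne
      refine hn (hU.mem_of_comb (kl J (g.1 x)) (fun w hw => hU.kl_closed hw) h1 ?_)
      by_contra! h2
      exact hne ⟨sub_eq_zero.1 h2.1, sub_eq_zero.1 h2.2⟩
    rw [hab.1, hab.2] at e''
    have h2 : (a' - a) • g.1 x + (b' - b) • J (g.1 x) = 0 := by linear_combination (norm := module) e''
    obtain ⟨h3, h4⟩ := hU.kl_indep (fun h => hx0 (g.1.map_eq_zero_iff.1 h)) h2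
    rw [← e', sub_eq_zero.1 h3, sub_eq_zero.1 h4]
  have hsing : ∀ y, Q y = 0 → α • g.1 y + β • J (g.1 y) = g.1 (J y) := by
    intro y hy
    rcases eq_or_ne y 0 with rfl | hy0
    · simp
    obtain ⟨z, hz, hzn, hzp⟩ := hU.perp_avoid ![u, y] ![u, g⁻¹.1 (J (g.1 u)), y, g⁻¹.1 (J (g.1 y))] (by omega)
    have hz0 := ne_zero_of_notin' hzn
    have h1 : g.1 z ∉ kl J (g.1 u) := fun hm => hzn (by
      obtain ⟨a, b, e⟩ := Submodule.mem_span_pair.1 hm
      have : z = a • u + b • g⁻¹.1 (J (g.1 u)) := g.1.injective (by rw [map_add, map_smul, map_smul, oG_apply_inv, e])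
      rw [this]
      exact Submodule.add_mem _ (Submodule.smul_mem _ _ (Submodule.subset_span ⟨0, rfl⟩))
        (Submodule.smul_mem _ _ (Submodule.subset_span ⟨1, rfl⟩)))
    have h2 : g.1 y ∉ kl J (g.1 z) := fun hm => by
      obtain ⟨a, b, e⟩ := Submodule.mem_span_pair.1 hm
      have hne : a ≠ 0 ∨ b ≠ 0 := by
        by_contra! h
        rw [h.1, h.2, zero_smul, zero_smul, add_zero] at e
        exact hy0 (g.1.map_eq_zero_iff.1 e.symm)
      have hy' : a • g.1 z + b • J (g.1 z) ∈ kl J (g.1 y) := by
        rw [e]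
        exact Submodule.subset_span (Or.inl rfl)
      have h3 := hU.mem_of_comb (kl J (g.1 y)) (fun w hw => hU.kl_closed hw) hy' hne
      obtain ⟨a', b', e'⟩ := Submodule.mem_span_pair.1 h3
      refine hzn ?_
      have : z = a' • y + b' • g⁻¹.1 (J (g.1 y)) := g.1.injective (by rw [map_add, map_smul, map_smul, oG_apply_inv, e'])
      rw [this]
      exact Submodule.add_mem _ (Submodule.smul_mem _ _ (Submodule.subset_span ⟨2, rfl⟩))
        (Submodule.smul_mem _ _ (Submodule.subset_span ⟨3, rfl⟩))
    exact key hz hy hz0 (by rw [polar_comm]; exact hzp 1) h2 (key hu hz hu0 (hzp 0) h1 hαβ)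
  rcases eq_or_ne v 0 with rfl | hv0
  · simp
  obtain ⟨c, hc', -, hvc⟩ := hU.sep (![] : Fin 0 → V) (by omega) (x := v) (by simp [hv0])
  have h1 := hsing (v + (-Q v) • c) (by rw [map_add_smul, hc', hvc]; ring)
  have h2 := hsing c hc'
  simp only [map_add, map_smul] at h1
  rw [← h2] at h1
  linear_combination (norm := module) -h1

/-- all singular vectors orthogonal to the line of `a` -/
theorem spread (hU : UData Q J t N) (hK : ∀ u, Q u = 0 → Pl H u (J u)) {a d : V} (hp : Pl H a d) (had : polar Q (J a) d = 0)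
    (hd : d ∉ kl J a) {y : V} (hy : Q y = 0) (hay : polar Q a y = 0) (hJay : polar Q (J a) y = 0) : Pl H a y := by
  have key : ∀ {d y : V}, Pl H a d → polar Q (J a) d = 0 → Q y = 0 → polar Q a y = 0 → polar Q (J a) y = 0 →
      (polar Q d y ≠ 0 ∨ polar Q d (J y) ≠ 0) → Pl H a y := by
    intro d y hp had hy hay hJay hne
    have hd' : Q d = 0 := hp.2.1
    obtain ⟨α, hα⟩ : ∃ α, α = polar Q d y := ⟨_, rfl⟩
    obtain ⟨β, hβ⟩ : ∃ β, β = polar Q d (J y) := ⟨_, rfl⟩
    obtain ⟨Δ, hΔ⟩ : ∃ Δ, Δ = N * (α * α) - t * (α * β) + β * β := ⟨_, rfl⟩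
    have hΔ0 : Δ ≠ 0 := hΔ ▸ hU.norm_ne (by rwa [hα, hβ])
    have hγ : polar Q (J d) y = t * α - β := by
      have := hU.adj' d y
      rw [← hα, ← hβ] at this
      linear_combination this
    have hdd : polar Q d d = 0 := by rw [polar_self', hd', mul_zero]
    have hyy : polar Q y y = 0 := by rw [polar_self', hy, mul_zero]
    have haa : polar Q a a = 0 := by rw [polar_self', hp.1, mul_zero]
    have hdJd : polar Q d (J d) = 0 := (hU.sing d hd').2
    have hyJy : polar Q y (J y) = 0 := (hU.sing y hy).2
    -- the part in the span of the two lines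
    obtain ⟨z', hz'⟩ : ∃ z', z' = Δ⁻¹ • ((-(t * α - β)) • d + α • J d + (-β) • y + α • J y) := ⟨_, rfl⟩
    -- a vector of any value orthogonal to the three lines
    have hval : ∀ c : F, ∃ x, Q x = c ∧ ∀ i, polar Q (![a, J a, d, J d, y, J y] i) x = 0 := by
      intro c
      set p := ![a, J a, d, J d, y, J y]
      obtain ⟨X, hX, hdis, hdim⟩ := exists_perp_complement (Q := Q) (Submodule.span F (Set.range p))
        (Submodule.span F (Set.range ![a, J a]))
      have h1 := finrank_span_le (F := F) p
      have h2 := finrank_span_le (F := F) ![a, J a]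
      obtain ⟨⟨v, s⟩, hne', hq⟩ := exists_singular
        ((Q.comp X.subtype).prod ((-c) • (QuadraticMap.sq : QuadraticForm F F)))
        (by rw [finrank_prod, finrank_self]; have := hU.dim; omega)
      simp only [QuadraticMap.prod_apply, QuadraticMap.comp_apply, Submodule.subtype_apply, QuadraticMap.smul_apply,
        QuadraticMap.sq_apply, smul_eq_mul] at hq
      rcases eq_or_ne s 0 with rfl | hs
      · have hv0 : (v : V) ≠ 0 := fun e => hne' (by rw [show v = 0 from Subtype.ext e]; rfl)
        have hvp : ∀ i, polar Q (p i) v = 0 := fun i => hX _ v.2 _ (Submodule.subset_span ⟨i, rfl⟩)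
        have hvU : (v : V) ∉ Submodule.span F (Set.range p) := fun hm => by
          obtain ⟨e, he⟩ := (Submodule.mem_span_range_iff_exists_fun _).1 hm
          simp only [p, Fin.sum_univ_six, Matrix.cons_val] at he
          have e1 : polar Q d v = 0 := hvp 2
          have e2 : polar Q (J d) v = 0 := hvp 3
          have e3 : polar Q y v = 0 := hvp 4
          have e4 : polar Q (J y) v = 0 := hvp 5
          have pda : polar Q d a = 0 := by rw [polar_comm]; exact hp.2.2.1
          have pdJa : polar Q d (J a) = 0 := by rw [polar_comm]; exact had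
          have pya : polar Q y a = 0 := by rw [polar_comm]; exact hay
          have pyJa : polar Q y (J a) = 0 := by rw [polar_comm]; exact hJay
          have g4 := hU.line_nonperp (v := d) (w := y) (c₁ := e 4) (c₂ := e 5) hne (by
            rw [← he] at e1
            simp only [polar_add_right, polar_smul_right, pda, pdJa, hdd, hdJd, smul_zero, add_zero, zero_add] at e1
            simpa [polar_add_right, polar_smul_right] using e1) (by
            rw [← he] at e2
            simp only [polar_add_right, polar_smul_right, hU.sim, show polar Q (J d) a = 0 by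
                rw [hU.adj, polar_sub_right, polar_smul_right, pda, pdJa]; simp,
              show polar Q (J d) d = 0 by rw [polar_comm]; exact hdJd, pda, hdd, mul_zero, smul_zero, add_zero,
              zero_add] at e2
            simpa [polar_add_right, polar_smul_right, hU.sim] using e2)
          have hne' : polar Q y d ≠ 0 ∨ polar Q y (J d) ≠ 0 := by
            rw [polar_comm Q y d, polar_comm Q y (J d), hγ, ← hα]
            by_contra! h
            refine hne.elim (fun h' => h' (hα ▸ h.1)) fun h' => h' ?_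
            rw [← hβ]
            linear_combination t * h.1 - h.2
          have g2 := hU.line_nonperp (v := y) (w := d) (c₁ := e 2) (c₂ := e 3) hne' (by
            rw [← he] at e3
            simp only [polar_add_right, polar_smul_right, pya, pyJa, hyy, hyJy, smul_zero, add_zero, zero_add] at e3
            simpa [polar_add_right, polar_smul_right] using e3) (by
            rw [← he] at e4
            simp only [polar_add_right, polar_smul_right, hU.sim, show polar Q (J y) a = 0 by
                rw [hU.adj, polar_sub_right, polar_smul_right, pya, pyJa]; simp,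
              show polar Q (J y) y = 0 by rw [polar_comm]; exact hyJy, pya, hyy, mul_zero, smul_zero, add_zero,
              zero_add] at e4
            simpa [polar_add_right, polar_smul_right, hU.sim] using e4)
          refine hv0 (Submodule.disjoint_def.1 hdis _ v.2 ((Submodule.mem_span_range_iff_exists_fun _).2
            ⟨![e 0, e 1], ?_⟩))
          rw [← he, g4.1, g4.2, g2.1, g2.2, Fin.sum_univ_two]
          simp
        obtain ⟨v', hv', hvv⟩ := exists_perp hU.nd hvU
        refine ⟨v' + (c - Q v') • (v : V), ?_, fun i => ?_⟩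
        · rw [map_add_smul, show Q (v : V) = 0 by simpa using hq, polar_comm Q v' (v : V), hvv]
          ring
        · rw [polar_add_right, polar_smul_right, hv' _ (Submodule.subset_span ⟨i, rfl⟩), hvp, smul_zero, add_zero]
      · refine ⟨s⁻¹ • (v : V), ?_, fun i => ?_⟩
        · rw [map_smul', show Q (v : V) = c * (s * s) by linear_combination hq]
          field_simp
        · rw [polar_smul_right, hX _ v.2 _ (Submodule.subset_span ⟨i, rfl⟩), smul_zero]
    obtain ⟨x, hx, hxp⟩ := hval (-Q z')
    have x0 : polar Q a x = 0 := hxp 0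
    have x1 : polar Q (J a) x = 0 := hxp 1
    have x2 : polar Q d x = 0 := hxp 2
    have x3 : polar Q (J d) x = 0 := hxp 3
    have x4 : polar Q y x = 0 := hxp 4
    have x5 : polar Q (J y) x = 0 := hxp 5
    have p1 : polar Q a d = 0 := hp.2.2.1
    have p2 : polar Q a (J d) = 0 := by rw [hU.adj', p1, had]; simp
    have p3 : polar Q a (J y) = 0 := by rw [hU.adj', hay, hJay]; simp
    have hz : Q (z' + x) = 0 := by
      have h0 : polar Q z' x = 0 := by
        simp only [hz', polar_smul_left, polar_add_left, x2, x3, x4, x5, smul_zero, add_zero]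
      rw [map_add', hx, h0]; ring
    have z0 : polar Q a (z' + x) = 0 := by
      simp only [hz', polar_add_right, polar_smul_right, p1, p2, hay, p3, x0, smul_zero, add_zero]
    have z1 : polar Q (J a) (z' + x) = 0 := by
      simp only [hz', polar_add_right, polar_smul_right, had, hU.sim, p1, hay, hJay, x1, mul_zero, smul_zero, add_zero]
    have z2 : polar Q d (z' + x) = 0 := by
      simp only [hz', polar_add_right, polar_smul_right, hdd, hdJd, ← hα, ← hβ, x2, smul_eq_mul]
      ring
    have z3 : polar Q (J d) (z' + x) = 1 := by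
      simp only [hz', polar_add_right, polar_smul_right, show polar Q (J d) d = 0 by rw [polar_comm]; exact hdJd,
        hU.sim, hdd, hγ, ← hα, x3, smul_eq_mul]
      field_simp
      rw [hΔ]; ring
    have z4 : polar Q y (z' + x) = 0 := by
      simp only [hz', polar_add_right, polar_smul_right, hyy, hyJy, polar_comm Q y d, polar_comm Q y (J d), hγ, ← hα,
        x4, smul_eq_mul]
      ring
    have z5 : polar Q (J y) (z' + x) = 1 := by
      simp only [hz', polar_add_right, polar_smul_right, show polar Q (J y) y = 0 by rw [polar_comm]; exact hyJy,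
        hU.sim, hyy, polar_comm Q (J y) d, polar_comm Q y d, ← hα, ← hβ, x5, smul_eq_mul]
      field_simp
      rw [hΔ]; ring
    have h1 : Pl H a (z' + x) := hp.rule (hK _ hz).symm (by rw [hU.adj', z0, z1]; simp) z0 z2
      (by rw [hU.adj', z2, z3]; simp)
    exact h1.rule (hK y hy).symm p3 hay (by rw [polar_comm, z4])
      (by rw [polar_comm Q (z' + x), z5]; exact one_ne_zero)
  by_cases hyk : y ∈ kl J a
  · exact (hK a hp.1).span (Submodule.subset_span (by simp)) hyk
  -- a line meeting both
  have hnon : ∀ {v : V}, v ∉ kl J a → ∃ w, Q w = 0 ∧ polar Q a w = 0 ∧ polar Q (J a) w = 0 ∧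
      (polar Q v w ≠ 0 ∨ polar Q v (J w) ≠ 0) := by
    intro v hv
    obtain ⟨w, hw, hwp, hvw⟩ := hU.sep ![a, J a] (by omega) (x := v) (fun hm => hv (Submodule.span_le.2 (by
      rintro z ⟨i, rfl⟩
      fin_cases i
      · exact Submodule.subset_span (Or.inl rfl)
      · exact Submodule.subset_span (Or.inr rfl)) hm))
    exact ⟨w, hw, hwp 0, hwp 1, Or.inl (by rw [hvw]; exact one_ne_zero)⟩
  by_cases hne : polar Q d y ≠ 0 ∨ polar Q d (J y) ≠ 0
  · exact key hp had hy hay hJay hne
  have flip : ∀ {v w : V}, polar Q v w ≠ 0 ∨ polar Q v (J w) ≠ 0 → polar Q w v ≠ 0 ∨ polar Q w (J v) ≠ 0 :=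
    fun {v w} h => by
    by_contra! hcon
    rw [polar_comm Q w v, hU.adj' w v, polar_comm Q w v, polar_comm Q (J w) v] at hcon
    refine h.elim (fun h' => h' hcon.1) fun h' => h' ?_
    linear_combination t * hcon.1 - hcon.2
  have via : ∀ {w : V}, Q w = 0 → polar Q a w = 0 → polar Q (J a) w = 0 →
      (polar Q d w ≠ 0 ∨ polar Q d (J w) ≠ 0) → (polar Q y w ≠ 0 ∨ polar Q y (J w) ≠ 0) → Pl H a y :=
    fun {w} hw w0 w1 hdw hyw => key (key hp had hw w0 w1 hdw) w1 hy hay hJay (flip hyw)
  obtain ⟨w, hw, w0, w1, hdw⟩ := hnon hd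
  obtain ⟨w', hw', w0', w1', hyw'⟩ := hnon hyk
  by_cases hyw : polar Q y w ≠ 0 ∨ polar Q y (J w) ≠ 0
  · exact via hw w0 w1 hdw hyw
  by_cases hdw' : polar Q d w' ≠ 0 ∨ polar Q d (J w') ≠ 0
  · exact via hw' w0' w1' hdw' hyw'
  push Not at hyw hdw'
  obtain ⟨c₁, c₂, hc, hcq⟩ : ∃ c₁ c₂ : F, ¬ (c₁ = 0 ∧ c₂ = 0) ∧ c₁ * polar Q w w' + c₂ * polar Q w (J w') = 0 := by
    by_cases h : polar Q w w' = 0
    · exact ⟨1, 0, by simp, by rw [h]; ring⟩
    · exact ⟨-polar Q w (J w'), polar Q w w', fun h' => h h'.2, by ring⟩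
  have e1 : Q (w + (c₁ • w' + c₂ • J w')) = 0 := by
    rw [map_add', hw, polar_add_right, polar_smul_right, polar_smul_right, map_add', map_smul', map_smul', hw',
      (hU.sing w' hw').1, polar_smul_left, polar_smul_right, (hU.sing w' hw').2, smul_eq_mul, smul_eq_mul]
    simp only [smul_eq_mul, mul_zero, add_zero, zero_add]
    linear_combination hcq
  have e2 : polar Q (J d) w' = 0 := by
    rw [hU.adj, polar_sub_right, polar_smul_right, hdw'.1, hdw'.2]; simp
  have e3 : polar Q a (J w') = 0 := by rw [hU.adj', w0', w1']; simp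
  have ey : polar Q (J y) w = 0 := by
    rw [hU.adj, polar_sub_right, polar_smul_right, hyw.1, hyw.2]; simp
  refine via e1 ?_ ?_ ?_ ?_
  · simp only [polar_add_right, polar_smul_right, w0, w0', e3, smul_zero, add_zero]
  · simp only [polar_add_right, polar_smul_right, w1, w1', hU.sim, w0', mul_zero, smul_zero, add_zero]
  · rcases hdw with h | h
    · left; simpa [polar_add_right, polar_smul_right, hdw'.1, hdw'.2] using h
    · right
      rw [hU.adj'] at h ⊢
      simpa [polar_add_right, polar_smul_right, hdw'.1, hdw'.2, hU.sim, e2] using h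
  · by_contra! hcon
    refine hc (hU.line_nonperp hyw' (c₁ := c₁) (c₂ := c₂) ?_ ?_)
    · have := hcon.1
      rwa [polar_add_right, hyw.1, zero_add] at this
    · have := hcon.2
      rw [hU.adj', hcon.1, mul_zero, zero_sub, neg_eq_zero, polar_add_right, ey, zero_add] at this
      exact this

theorem overgroup (hU : UData Q J t N) (hK : ∀ u, Q u = 0 → Pl H u (J u)) {g : oG Q} (hg : g ∈ H)
    (hout : ¬ ∃ α β : F, ∀ v, g.1 (J v) = α • g.1 v + β • J (g.1 v)) : eo Q ≤ H := by
  obtain ⟨u, hu, hu0, hun⟩ := hU.exists_moved g hout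
  have hab := (hK u hu).conj hg
  set a := g.1 u with ha
  set b := g.1 (J u) with hb
  have hab0 : polar Q a b = 0 := hab.2.2.1
  have ha0 : a ≠ 0 := fun h => hu0 (g.1.map_eq_zero_iff.1 h)
  -- a plane meeting two orthogonal lines
  obtain ⟨d', hd', hd'n, h2, hpd⟩ : ∃ d', Q d' = 0 ∧ d' ∉ kl J a ∧ polar Q (J a) d' = 0 ∧ Pl H a d' := by
    by_cases h0 : polar Q (J a) b = 0
    · exact ⟨b, hab.2.1, hun, h0, hab⟩
    obtain ⟨z, hz, hzn, hzp⟩ := hU.perp_avoid ![a, J a, b, J b] ![a, J a] (by omega)
    have z0 : polar Q a z = 0 := hzp 0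
    have z1 : polar Q (J a) z = 0 := hzp 1
    have z2 : polar Q b z = 0 := hzp 2
    have z3 : polar Q (J b) z = 0 := hzp 3
    have hba : polar Q (J b) a ≠ 0 := by
      rw [hU.adj, polar_sub_right, polar_smul_right, polar_comm Q b a, hab0, polar_comm Q b (J a)]
      simpa using h0
    obtain ⟨d, hde⟩ : ∃ d, d = z + a := ⟨_, rfl⟩
    have hd : Q d = 0 := by rw [hde, map_add', hz, hab.1, polar_comm, z0]; ring
    have haa : polar Q a a = 0 := by rw [polar_self', hab.1, mul_zero]
    have d0 : polar Q a d = 0 := by rw [hde, polar_add_right, z0, haa, add_zero]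
    have d1 : polar Q (J a) d = 0 := by rw [hde, polar_add_right, z1, hU.polar_J_self hab.1, add_zero]
    have d2 : polar Q b d = 0 := by rw [hde, polar_add_right, z2, polar_comm Q b a, hab0, add_zero]
    refine ⟨d, hd, fun hm => hzn ?_, d1, hab.rule (hK d hd).symm (by rw [hU.adj', d0, d1]; simp) d0 d2 ?_⟩
    · have h4 := (kl J a).sub_mem hm (Submodule.subset_span (Set.mem_insert a {J a}))
      rw [hde, add_sub_cancel_right] at h4
      exact Submodule.span_mono (by rintro x (rfl | rfl); exacts [⟨0, rfl⟩, ⟨1, rfl⟩]) h4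
    · rw [hU.adj', d2, hde, polar_add_right, z3, zero_add, mul_zero, zero_sub]
      exact neg_ne_zero.2 hba
  -- orthogonal lines everywhere
  have hall : ∀ {x y : V}, Q x = 0 → Q y = 0 → polar Q x y = 0 → polar Q (J x) y = 0 → Pl H x y := by
    intro x y hxq hyq hxy hJxy
    rcases eq_or_ne x 0 with rfl | hx0
    · have := (Pl.refl (H := H) hyq).smul_left 0
      rwa [zero_smul] at this
    by_cases hax : polar Q a x = 0 ∧ polar Q (J a) x = 0
    · by_cases hxa : x ∉ kl J a
      · refine hU.spread hK (hU.spread hK hpd h2 hd'n hxq hax.1 hax.2).symm ?_ (fun hm => hxa ?_) hyq hxy hJxy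
        · rw [hU.adj, polar_sub_right, polar_smul_right, polar_comm Q x a, hax.1, polar_comm Q x (J a), hax.2]; simp
        · obtain ⟨s, r, e⟩ := Submodule.mem_span_pair.1 hm
          refine hU.mem_of_comb (kl J a) (fun w hw => hU.kl_closed hw) (v := x) (a := s) (b := r)
            (e.symm ▸ Submodule.subset_span (Or.inl rfl)) ?_
          by_contra! h
          rw [h.1, h.2, zero_smul, zero_smul, add_zero] at e
          exact ha0 e.symm
      push Not at hxa
      obtain ⟨s, r, e⟩ := Submodule.mem_span_pair.1 hxa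
      have hy2 : ∀ {v}, v ∈ kl J x → polar Q v y = 0 := fun {v} hv => by
        obtain ⟨s', r', e'⟩ := Submodule.mem_span_pair.1 hv
        simp [← e', polar_add_left, polar_smul_left, hxy, hJxy]
      have hak : a ∈ kl J x := by
        refine hU.mem_of_comb (kl J x) (fun w hw => hU.kl_closed hw) (v := a) (a := s) (b := r)
          (e.symm ▸ Submodule.subset_span (Or.inl rfl)) ?_
        by_contra! h
        rw [h.1, h.2, zero_smul, zero_smul, add_zero] at e
        exact hx0 e.symm
      have p1 : Pl H a y := hU.spread hK hpd h2 hd'n hyq (hy2 hak) (hy2 (hU.kl_closed hak))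
      by_cases hr : r = 0
      · rw [← e, hr, zero_smul, add_zero]
        exact p1.smul_left s
      by_cases hya : y ∈ kl J a
      · exact (hK a hab.1).span hxa hya
      have hJ : Pl H (J a) y := by
        obtain ⟨c, hc, hcp, hyc⟩ := hU.sep ![a, J a] (by omega) (x := y) (fun hm => hya (Submodule.span_le.2 (by
          rintro z ⟨i, rfl⟩
          fin_cases i
          · exact Submodule.subset_span (Or.inl rfl)
          · exact Submodule.subset_span (Or.inr rfl)) hm))
        have c0 : polar Q a c = 0 := hcp 0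
        have c1 : polar Q (J a) c = 0 := hcp 1
        have hca : a ∉ kl J c := fun hm => by
          obtain ⟨s', r', e'⟩ := Submodule.mem_span_pair.1 hm
          have hne' : s' ≠ 0 ∨ r' ≠ 0 := by
            by_contra! h
            rw [h.1, h.2, zero_smul, zero_smul, add_zero] at e'
            exact ha0 e'.symm
          have := hU.mem_of_comb (kl J a) (fun w hw => hU.kl_closed hw) (v := c) (e'.symm ▸ Submodule.subset_span (Or.inl rfl)) hne'
          obtain ⟨s2, r2, e2⟩ := Submodule.mem_span_pair.1 this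
          rw [← e2, polar_add_right, polar_smul_right, polar_smul_right, polar_comm Q y a, hy2 hak,
            polar_comm Q y (J a), hy2 (hU.kl_closed hak)] at hyc
          simp at hyc
        have hJa : Q (J a) = 0 := (hU.sing a hab.1).1
        have q1 : Pl H c (J a) := hU.spread hK (hU.spread hK hpd h2 hd'n hc c0 c1).symm
          (by rw [hU.adj, polar_sub_right, polar_smul_right, polar_comm Q c a, c0, polar_comm Q c (J a), c1]; simp)
          hca hJa (by rw [polar_comm, c1]) (by rw [hU.sim, polar_comm Q c a, c0, mul_zero])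
        refine hU.spread hK q1.symm ?_ ?_ hyq (hy2 (hU.kl_closed hak)) (hy2 (hU.kl_closed (hU.kl_closed hak)))
        · rw [hU.sq, polar_sub_left, polar_smul_left, polar_smul_left, c1, c0]; simp
        · intro hm
          obtain ⟨s', r', e'⟩ := Submodule.mem_span_pair.1 hm
          have : c ∈ kl J a := e' ▸ (kl J a).add_mem ((kl J a).smul_mem _ (Submodule.subset_span (Or.inr rfl)))
            ((kl J a).smul_mem _ (hU.kl_closed (Submodule.subset_span (Or.inr rfl))))
          obtain ⟨s2, r2, e2⟩ := Submodule.mem_span_pair.1 this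
          rw [← e2, polar_add_right, polar_smul_right, polar_smul_right, polar_comm Q y a, hy2 hak,
            polar_comm Q y (J a), hy2 (hU.kl_closed hak)] at hyc
          simp at hyc
      rw [← e]
      exact ((p1.symm.smul_right s).add_right (hJ.symm.smul_right r) (by
        rw [polar_smul_left, polar_smul_right, show polar Q a (J a) = 0 from (hU.sing a hab.1).2, smul_zero,
          smul_zero])).symm
    obtain ⟨w, hw, hwn, hwp⟩ := hU.perp_avoid ![a, J a, x, J x] ![a, J a] (by omega)
    have hw0 : w ≠ 0 := fun h => hwn (h ▸ zero_mem _)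
    have w0 : polar Q a w = 0 := hwp 0
    have w1 : polar Q (J a) w = 0 := hwp 1
    have w2 : polar Q x w = 0 := hwp 2
    have w3 : polar Q (J x) w = 0 := hwp 3
    have hwx' : w ∉ kl J x := fun hm => by
      obtain ⟨c₁, c₂, e⟩ := Submodule.mem_span_pair.1 hm
      have hh : polar Q a x ≠ 0 ∨ polar Q a (J x) ≠ 0 := by
        by_contra! h
        exact hax ⟨h.1, by rw [hU.adj, polar_sub_right, polar_smul_right, h.1, h.2]; simp⟩
      obtain ⟨g1, g2⟩ := hU.line_nonperp hh (e.symm ▸ w0) (e.symm ▸ w1)
      exact hw0 (by rw [← e, g1, g2]; simp)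
    have hwa : Pl H w a := (hU.spread hK hpd h2 hd'n hw w0 w1).symm
    have hna : a ∉ kl J w := fun hm => by
      obtain ⟨s, r, e⟩ := Submodule.mem_span_pair.1 hm
      refine hwn (Submodule.span_mono (by rintro z (rfl | rfl); exacts [⟨0, rfl⟩, ⟨1, rfl⟩])
        (hU.mem_of_comb (kl J a) (fun w hw => hU.kl_closed hw) (v := w) (a := s) (b := r)
          (e.symm ▸ Submodule.subset_span (Or.inl rfl)) ?_))
      by_contra! h
      rw [h.1, h.2, zero_smul, zero_smul, add_zero] at e
      exact ha0 e.symm
    have hwx : Pl H w x := hU.spread hK hwa (by rw [polar_comm, hU.adj', w0, w1]; simp) hna hxq (by rw [polar_comm, w2])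
      (by rw [polar_comm, hU.adj', w2, w3]; simp)
    exact hU.spread hK hwx.symm (by rw [w3]) hwx' hyq hxy hJxy
  have hfull : ∀ e, Q e = 0 → Full H e := by
    intro e he
    rcases eq_or_ne e 0 with rfl | he0
    · refine full_of_tS he fun w _ => ⟨by simp [polar], fun r h => ?_⟩
      have e1 : sO he h = 1 := ext_oG fun v => by rw [sO_apply, oG_one_apply]; simp [polar]
      rw [e1]; exact one_mem H
    have hxe : J e ∉ Submodule.span F (Set.range ![e]) := fun hm => by
      obtain ⟨c, e'⟩ := (Submodule.mem_span_range_iff_exists_fun _).1 hm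
      simp only [Fin.sum_univ_one, Matrix.cons_val_fin_one] at e'
      exact one_ne_zero (hU.kl_indep he0 (a := -c 0) (b := 1) (by linear_combination (norm := module) -e')).2
    obtain ⟨w₀, hw₀, hw₀p, hJw₀⟩ := hU.sep ![e] (by omega) hxe
    have hew₀ : polar Q e w₀ = 0 := hw₀p 0
    obtain ⟨c, hc, hcn', hcp⟩ := hU.perp_avoid ![e, J e, w₀, J w₀] ![e, J e, w₀] (by omega)
    obtain ⟨y, hy, hyp, hcy⟩ := hU.sep ![e, J e, w₀] (by omega) hcn'
    have c0 : polar Q e c = 0 := hcp 0
    have c2 : polar Q w₀ c = 0 := hcp 2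
    have c3 : polar Q (J w₀) c = 0 := hcp 3
    have y2 : polar Q w₀ y = 0 := hyp 2
    have hpw : Pl H e w₀ := (hall he hy (hyp 0) (hyp 1)).rule
      (hall hc hw₀ (by rw [polar_comm, c2]) (by rw [polar_comm, hU.adj', c2, c3]; simp)) c0 hew₀
      (by rw [polar_comm, y2]) (by rw [polar_comm, hcy]; exact one_ne_zero)
    refine full_of_tS he fun w hw => ?_
    have hX : ∀ v, polar Q e v = 0 → polar Q (J e) v = 0 → v ∈ tS H he := by
      intro v hv hJv
      by_cases hm : v ∈ Submodule.span F (Set.range ![e, J e])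
      · refine (Submodule.span_le.2 ?_) hm
        rintro z ⟨i, rfl⟩
        fin_cases i
        · exact mem_tS (Pl.refl he)
        · exact mem_tS (hK e he)
      · obtain ⟨z, hz, hzp, hvz⟩ := hU.sep ![e, J e] (by omega) hm
        have z0 : polar Q e z = 0 := hzp 0
        have z1 : polar Q (J e) z = 0 := hzp 1
        have h5 := Submodule.add_mem _ (mem_tS (hall he (y := v + (-Q v) • z) (by rw [map_add_smul, hz, hvz]; ring)
            (by rw [polar_add_right, hv, polar_smul_right, z0, smul_zero, add_zero])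
            (by rw [polar_add_right, hJv, polar_smul_right, z1, smul_zero, add_zero])) : _ ∈ tS H he)
          (Submodule.smul_mem _ (Q v) (mem_tS (hall he hz z0 z1)))
        rwa [show v + (-Q v) • z + Q v • z = v by module] at h5
    have h6 := Submodule.add_mem _ (hX (w + (-polar Q (J e) w) • w₀)
        (by rw [polar_add_right, hw, polar_smul_right, hew₀, smul_zero, add_zero])
        (by rw [polar_add_right, polar_smul_right, hJw₀, smul_eq_mul, mul_one, add_neg_cancel]))
      (Submodule.smul_mem _ (polar Q (J e) w) (mem_tS hpw))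
    rwa [show w + (-polar Q (J e) w) • w₀ + polar Q (J e) w • w₀ = w by module] at h6
  obtain ⟨f, hf, hef⟩ := exists_hyp_pair hU.nd ha0 hab.1
  exact eo_le hU.nd (by have := hU.dim; omega) (hfull a hab.1) (hfull f hf) (by rw [hef]; exact one_ne_zero)

/-- an element of `Ω` outside the normaliser -/
theorem exists_out (hU : UData Q J t N) :
    ∃ g ∈ commutator (oG Q), ¬ ∃ α β : F, ∀ v, g.1 (J v) = α • g.1 v + β • J (g.1 v) := by
  obtain ⟨a, ha, han, -⟩ := hU.perp (![] : Fin 0 → V) (by omega)
  obtain ⟨y, hy, hyn, hyp⟩ := hU.perp ![a, J a] (by omega)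
  have ha0 : a ≠ 0 := fun h => han (h ▸ zero_mem _)
  have hay : polar Q a y = 0 := hyp 0
  have hJay : polar Q (J a) y = 0 := hyp 1
  have hy' : y ∉ kl J a := fun hm => hyn (Submodule.span_le.2 (by
    rintro z (rfl | rfl)
    · exact Submodule.subset_span ⟨0, rfl⟩
    · exact Submodule.subset_span ⟨1, rfl⟩) hm)
  have hnm : a ∉ Submodule.span F ({y} : Set V) := fun hm => by
    obtain ⟨s, hs⟩ := Submodule.mem_span_singleton.1 hm
    have hs0 : s ≠ 0 := fun h => ha0 (by rw [← hs, h, zero_smul])
    exact hy' (Submodule.mem_span_pair.2 ⟨s⁻¹, 0, by rw [← hs, inv_smul_smul₀ hs0]; simp⟩)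
  obtain ⟨x, hx, hax⟩ := exists_perp hU.nd hnm
  have hyx : polar Q y x = 0 := hx y (Submodule.mem_span_singleton_self y)
  refine ⟨sO ha hay, sO_mem_commutator hU.nd (Or.inr (by have := hU.dim; omega)) _ _, ?_⟩
  rintro ⟨α, β, h⟩
  have e1 : (sO ha hay).1 a = a := by
    rw [sO_apply, polar_self', ha, hay]
    simp
  have e2 : (sO ha hay).1 (J a) = J a := by
    rw [sO_apply, hJay, hU.polar_J_self ha]
    simp
  have h1 := h a
  rw [e1, e2] at h1
  obtain ⟨hα, hβ⟩ := hU.kl_indep ha0 (a := α) (b := β - 1) (by linear_combination (norm := module) -h1)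
  have h2 := h x
  rw [hα, sub_eq_zero.1 hβ, sO_apply, sO_apply, polar_comm Q x y, hyx, polar_comm Q x a, hax] at h2
  simp only [map_add, map_smul, hy, mul_one, zero_mul, neg_zero, zero_smul, add_zero, zero_add, one_smul, map_zero] at h2
  refine hy' (hU.mem_of_comb (kl J a) (fun w hw => hU.kl_closed hw) (v := y) (a := polar Q (J x) a) (b := -1) ?_
    (Or.inr (neg_ne_zero.2 one_ne_zero)))
  exact Submodule.mem_span_pair.2 ⟨polar Q (J x) y, 0, by linear_combination (norm := module) h2⟩

end UData

end Cfsg.Agent.ClassicalMax.RootPlanes
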