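import Cfsg.Agent.ClassicalMax.RootPlanes
import Cfsg.Agent.ClassicalMax.Symplectic

/-!
Overgroups in a symplectic group of odd characteristic of a unitary group over the quadratic extension.

If `x` is the conjugate of a unitary transvection on a moved line and `y` is a unitary transvection whose line meets that
of `x` in rank one under the form, then `x` and `y` generate a `SL₂` on a hyperbolic plane; this yields `T_a T_d`, and
varying `d` one gets a symplectic transvection.
-/

set_option autoImplicit false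
set_option linter.unusedSectionVars false
set_option linter.style.haveILetI false

namespace Cfsg.Agent.ClassicalMax.UnitSp

open Module Cfsg.Agent.Classical

variable {F V : Type*} [Field F] [Finite F] [AddCommGroup V] [Module F V] [FiniteDimensional F V]
  {B : LinearMap.BilinForm F V} {J : V →ₗ[F] V} {ε : F}

/-- `J` is a skew-adjoint operator squaring to a non-square -/
structure USp (B : LinearMap.BilinForm F V) (J : V →ₗ[F] V) (ε : F) : Prop where
  alt : B.IsAlt
  nd : B.Nondegenerate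
  two : (2 : F) ≠ 0
  sq : ∀ v, J (J v) = ε • v
  nsq : ∀ x : F, x * x ≠ ε
  adj : ∀ u v, B (J u) v = -B u (J v)
  dim : 6 ≤ finrank F V

/-- the line over the quadratic field -/
abbrev kl (J : V →ₗ[F] V) (u : V) : Submodule F V := Submodule.span F ({u, J u} : Set V)

namespace USp

variable (hU : USp B J ε)

include hU

theorem eps_ne : ε ≠ 0 := fun h => hU.nsq 0 (by rw [h, mul_zero])

theorem neg' (u v : V) : B v u = -B u v := Alt.neg' hU.alt u v

theorem sim (u v : V) : B (J u) (J v) = -ε * B u v := by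
  rw [hU.adj, hU.sq, map_smul, smul_eq_mul]
  ring

theorem adj' (u v : V) : B u (J v) = -B (J u) v := by rw [hU.adj, neg_neg]

theorem self_comm (u v : V) : B v (J u) = B u (J v) := by rw [hU.neg' (J u) v, hU.adj, neg_neg]

theorem iso_J {u : V} (h : B u (J u) = 0) : B (J u) (J (J u)) = 0 := by rw [hU.sim, h, mul_zero]

theorem kl_closed {u w : V} (hw : w ∈ kl J u) : J w ∈ kl J u := by
  obtain ⟨a, b, rfl⟩ := Submodule.mem_span_pair.1 hw
  rw [map_add, map_smul, map_smul, hU.sq]
  exact Submodule.mem_span_pair.2 ⟨b * ε, a, by module⟩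

theorem mem_of_comb (S : Submodule F V) (hS : ∀ w ∈ S, J w ∈ S) {v : V} {a b : F}
    (h : a • v + b • J v ∈ S) (hne : a ≠ 0 ∨ b ≠ 0) : v ∈ S := by
  have h1 := S.sub_mem (S.smul_mem a h) (S.smul_mem b (hS _ h))
  rw [map_add, map_smul, map_smul, hU.sq,
    show a • (a • v + b • J v) - b • (a • J v + b • ε • v) = (a * a - b * b * ε) • v by module] at h1
  have hc : a * a - b * b * ε ≠ 0 := fun h0 => by
    rcases eq_or_ne b 0 with rfl | hb
    · exact hne.elim (fun ha => ha (mul_self_eq_zero.1 (by linear_combination h0))) (fun h => h rfl)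
    · exact hU.nsq (a / b) (by field_simp; linear_combination h0)
  have := S.smul_mem (a * a - b * b * ε)⁻¹ h1
  rwa [inv_smul_smul₀ hc] at this

theorem kl_indep {v : V} (hv : v ≠ 0) {a b : F} (h : a • v + b • J v = 0) : a = 0 ∧ b = 0 := by
  by_contra hne
  exact hv ((Submodule.mem_bot F).1 (hU.mem_of_comb ⊥ (by simp) (by simpa using h) (by tauto)))

/-- the hermitian norm as a quadratic form -/
theorem exists_norm : ∃ Q : QuadraticForm F V, (∀ v, Q v = B v (J v)) ∧
    (∀ u v, QuadraticMap.polar Q u v = 2 * B u (J v)) ∧ (QuadraticMap.polarBilin Q).Nondegenerate := by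
  let b : LinearMap.BilinForm F V := B.compl₂ J
  let Q : QuadraticForm F V := b.toQuadraticMap
  have hp : ∀ u v, QuadraticMap.polar Q u v = 2 * B u (J v) := fun u v => by
    rw [show QuadraticMap.polar Q u v = b u v + b v u from LinearMap.BilinMap.polar_toQuadraticMap u v]
    show B u (J v) + B v (J u) = _
    rw [hU.self_comm u v]
    ring
  have key : ∀ x, (∀ y, QuadraticMap.polar Q x y = 0) → x = 0 := fun x hx => hU.nd.1 x fun y => by
    have h1 := hx (ε⁻¹ • J y)
    rw [hp, map_smul, hU.sq, smul_smul, inv_mul_cancel₀ hU.eps_ne, one_smul] at h1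
    exact (mul_eq_zero.1 h1).resolve_left hU.two
  exact ⟨Q, fun v => rfl, hp, fun x hx => key x hx, fun x hx => key x fun y => (QuadraticMap.polar_comm _ x y).trans (hx y)⟩

/-- an isotropic vector with prescribed products -/
theorem isep {n : ℕ} (p : Fin n → V) (hn : 2 * n + 3 ≤ finrank F V) {x : V} (hx : x ∉ Submodule.span F (Set.range p)) :
    ∃ c, B c (J c) = 0 ∧ (∀ i, B (p i) c = 0) ∧ B x c = 1 := by
  obtain ⟨Q, hQ, hp, hnd⟩ := hU.exists_norm
  have hle := finrank_range_le_card (R := F) p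
  rw [Set.finrank, Fintype.card_fin] at hle
  have hinj : Function.Injective J := (injective_iff_map_eq_zero J).2 fun v hv => by
    have := hU.sq v
    rw [hv, map_zero] at this
    exact (smul_eq_zero.1 this.symm).resolve_left hU.eps_ne
  obtain ⟨c, hc, hcp, hxc⟩ := RootPlanes.exists_sing_sep hnd ((Submodule.span F (Set.range p)).map J)
    (by
      rw [← (Submodule.equivMapOfInjective J hinj _).finrank_eq]
      have := hU.dim
      omega)
    (x := J x) (fun hm => by
      obtain ⟨y, hy, e⟩ := hm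
      exact hx (hinj e ▸ hy))
  have key : ∀ y, QuadraticMap.polar Q (J y) c = (-(2 * ε)) * B y c := fun y => by
    rw [hp, hU.sim]
    ring
  refine ⟨(-(2 * ε)) • c, by rw [map_smul, map_smul, map_smul, LinearMap.smul_apply, ← hQ, hc]; simp, fun i => ?_, ?_⟩
  · rw [map_smul, smul_eq_mul, ← key, hcp _ ⟨p i, Submodule.subset_span ⟨i, rfl⟩, rfl⟩]
  · rw [map_smul, smul_eq_mul, ← key, hxc]

/-- a non-zero isotropic vector orthogonal to a few vectors -/
theorem iperp {n : ℕ} (p : Fin n → V) (hn : n + 3 ≤ finrank F V) : ∃ c, c ≠ 0 ∧ B c (J c) = 0 ∧ ∀ i, B (p i) c = 0 := by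
  obtain ⟨Q, hQ, -, -⟩ := hU.exists_norm
  let L : V →ₗ[F] (Fin n → F) := LinearMap.pi fun i => B (p i)
  have hker : 3 ≤ finrank F (LinearMap.ker L) := by
    have h1 := LinearMap.finrank_range_add_finrank_ker L
    have h2 := Submodule.finrank_le (LinearMap.range L)
    rw [Module.finrank_fin_fun] at h2
    have := hU.dim
    omega
  obtain ⟨c, hc0, hc⟩ := Quad.exists_singular (Q.comp (LinearMap.ker L).subtype) hker
  exact ⟨c, fun h => hc0 (Subtype.ext h), (hQ _).symm.trans hc, fun i => congrFun (LinearMap.mem_ker.1 c.2) i⟩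

variable {H : Subgroup (V ≃ₗ[F] V)}

/-- an element outside the normaliser moves some isotropic line -/
theorem exists_moved (hd : 10 ≤ finrank F V) (g : V ≃ₗ[F] V) (hout : ¬ ∃ α β : F, ∀ v, g (J v) = α • g v + β • J (g v)) :
    ∃ u, B u (J u) = 0 ∧ g (J u) ∉ kl J (g u) := by
  by_contra! hc
  refine hout ?_
  obtain ⟨u, hu0, hu, -⟩ := hU.iperp (![] : Fin 0 → V) (by have := hU.dim; omega)
  obtain ⟨α, β, hαβ⟩ := Submodule.mem_span_pair.1 (hc u hu)
  refine ⟨α, β, fun v => ?_⟩
  have key : ∀ {x y : V} {a b : F}, B x (J x) = 0 → B y (J y) = 0 → x ≠ 0 → B x (J y) = 0 →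
      g y ∉ kl J (g x) → a • g x + b • J (g x) = g (J x) → a • g y + b • J (g y) = g (J y) := by
    intro x y a b hx hy hx0 hxy hn e
    obtain ⟨a', b', e'⟩ := Submodule.mem_span_pair.1 (hc y hy)
    obtain ⟨a'', b'', e''⟩ := Submodule.mem_span_pair.1 (hc (x + y) (by
      simp only [map_add, LinearMap.add_apply, hx, hy, hxy, hU.self_comm x y, add_zero]))
    simp only [map_add] at e''
    rw [← e, ← e'] at e''
    have h1 : (a'' - a') • g y + (b'' - b') • J (g y) ∈ kl J (g x) :=
      Submodule.mem_span_pair.2 ⟨a - a'', b - b'', by linear_combination (norm := module) -e''⟩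
    have hab : a'' = a' ∧ b'' = b' := by
      by_contra hne
      refine hn (hU.mem_of_comb (kl J (g x)) (fun w hw => hU.kl_closed hw) h1 ?_)
      by_contra! h2
      exact hne ⟨sub_eq_zero.1 h2.1, sub_eq_zero.1 h2.2⟩
    rw [hab.1, hab.2] at e''
    have h2 : (a' - a) • g x + (b' - b) • J (g x) = 0 := by linear_combination (norm := module) e''
    obtain ⟨h3, h4⟩ := hU.kl_indep (fun h => hx0 (g.map_eq_zero_iff.1 h)) h2
    rw [← e', sub_eq_zero.1 h3, sub_eq_zero.1 h4]
  have hsing : ∀ y, B y (J y) = 0 → α • g y + β • J (g y) = g (J y) := by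
    intro y hy
    rcases eq_or_ne y 0 with rfl | hy0
    · simp
    -- an isotropic vector orthogonal to both, outside both lines
    obtain ⟨c₁, hc₁⟩ : ∃ c₁, B u c₁ ≠ 0 := by
      by_contra! h
      exact hu0 (hU.nd.1 u h)
    obtain ⟨c₂, hc₂⟩ : ∃ c₂, B y c₂ ≠ 0 := by
      by_contra! h
      exact hy0 (hU.nd.1 y h)
    let p₁ := g.symm (J (g u))
    let p₂ := g.symm (J (g y))
    let S := Submodule.span F (Set.range ![u, p₁, y, p₂])
    obtain ⟨Q, hQ, hp, hnd⟩ := hU.exists_norm
    obtain ⟨z, hzq, hzn, hzu, hzy⟩ : ∃ z, Q z = 0 ∧ z ∉ S ∧ QuadraticMap.polar Q u z = 0 ∧ QuadraticMap.polar Q y z = 0 := by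
      obtain ⟨U', hU'⟩ := S.exists_isCompl
      set X := LinearMap.ker ((QuadraticMap.polarBilin Q) u) ⊓ LinearMap.ker ((QuadraticMap.polarBilin Q) y) with hX
      have hle := finrank_range_le_card (R := F) ![u, p₁, y, p₂]
      rw [Set.finrank, Fintype.card_fin] at hle
      have step : ∀ (Z : Submodule F V) (f : V →ₗ[F] F), finrank F Z ≤ finrank F ↥(Z ⊓ LinearMap.ker f) + 1 := fun Z f => by
        have h1 := (f.comp Z.subtype).finrank_range_add_finrank_ker
        have h2 : finrank F (LinearMap.range (f.comp Z.subtype)) ≤ 1 :=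
          (Submodule.finrank_le _).trans (le_of_eq (Module.finrank_self F))
        have h3 : finrank F (LinearMap.ker (f.comp Z.subtype)) = finrank F ↥(Z ⊓ LinearMap.ker f) := by
          rw [LinearMap.ker_comp, ← Submodule.finrank_map_subtype_eq Z, Submodule.map_comap_subtype]
        omega
      have h1 := step U' ((QuadraticMap.polarBilin Q) u)
      have h2 := step (U' ⊓ LinearMap.ker ((QuadraticMap.polarBilin Q) u)) ((QuadraticMap.polarBilin Q) y)
      rw [inf_assoc, ← hX] at h2
      have hd := Submodule.finrank_add_eq_of_isCompl hU'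
      have hdim := hU.dim
      change finrank F (Submodule.span F _) + _ = _ at hd
      obtain ⟨z, hz0, hz⟩ := Quad.exists_singular (Q.comp (U' ⊓ X).subtype) (by have := hU.dim; omega)
      exact ⟨z, hz, fun h => hz0 (Subtype.ext ((Submodule.disjoint_def.1 hU'.disjoint) _ h z.2.1)), z.2.2.1, z.2.2.2⟩
    have hzi : B z (J z) = 0 := (hQ z).symm.trans hzq
    have hz0 : z ≠ 0 := fun h => hzn (h ▸ zero_mem _)
    rw [hp, mul_eq_zero] at hzu hzy
    have hu' := hzu.resolve_left hU.two
    have hy' := hzy.resolve_left hU.two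
    have m : ∀ i, ![u, p₁, y, p₂] i ∈ S := fun i => Submodule.subset_span ⟨i, rfl⟩
    have h1 : g z ∉ kl J (g u) := fun hm => hzn (by
      obtain ⟨a, b, e⟩ := Submodule.mem_span_pair.1 hm
      have : z = a • u + b • p₁ := g.injective (by rw [map_add, map_smul, map_smul, LinearEquiv.apply_symm_apply, e])
      rw [this]
      exact S.add_mem (S.smul_mem _ (m 0)) (S.smul_mem _ (m 1)))
    have h2 : g y ∉ kl J (g z) := fun hm => by
      obtain ⟨a, b, e⟩ := Submodule.mem_span_pair.1 hm
      have hne : a ≠ 0 ∨ b ≠ 0 := by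
        by_contra! h
        rw [h.1, h.2, zero_smul, zero_smul, add_zero] at e
        exact hy0 (g.map_eq_zero_iff.1 e.symm)
      have hy' : a • g z + b • J (g z) ∈ kl J (g y) := by
        rw [e]
        exact Submodule.subset_span (Or.inl rfl)
      obtain ⟨a', b', e'⟩ := Submodule.mem_span_pair.1 (hU.mem_of_comb (kl J (g y)) (fun w hw => hU.kl_closed hw) hy' hne)
      refine hzn ?_
      have : z = a' • y + b' • p₂ := g.injective (by rw [map_add, map_smul, map_smul, LinearEquiv.apply_symm_apply, e'])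
      rw [this]
      exact S.add_mem (S.smul_mem _ (m 2)) (S.smul_mem _ (m 3))
    exact key hzi hy hz0 ((hU.self_comm y z).trans hy') h2 (key hu hzi hu0 hu' h1 hαβ)
  rcases eq_or_ne v 0 with rfl | hv0
  · simp
  obtain ⟨c, hc', -, hvc⟩ := hU.isep (![] : Fin 0 → V) (by have := hU.dim; omega) (x := J v) (by
    rw [Set.range_eq_empty, Submodule.span_empty, Submodule.mem_bot]
    exact fun h => hv0 (hU.kl_indep (v := v) hv0 (a := 0) (b := 1) (by rw [h]; simp) |>.2 |> fun h' => absurd h' one_ne_zero))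
  have h1 := hsing (v + (B v (J v) / 2) • c) (by
    have h2 : B v (J c) = -1 := by rw [hU.adj', hvc]
    have := hU.two
    simp only [map_add, map_smul, LinearMap.add_apply, LinearMap.smul_apply, hc', h2, hU.self_comm v c, smul_eq_mul]
    field_simp
    ring)
  have h2 := hsing c hc'
  simp only [map_add, map_smul] at h1
  rw [← h2] at h1
  linear_combination (norm := module) -h1

set_option maxHeartbeats 1000000 in
/-- from a moved line, a transvection with isotropic centre -/
theorem exists_centre (hd10 : 10 ≤ finrank F V) (hbase : ∀ u, B u (J u) = 0 → ∀ s : F, Alt.tv hU.alt u s * Alt.tv hU.alt (J u) (-s / ε) ∈ H)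
    {g : V ≃ₗ[F] V} (hg : g ∈ H) (hgi : g ∈ Alt.isoGroup B) (hout : ¬ ∃ α β : F, ∀ v, g (J v) = α • g v + β • J (g v)) :
    ∃ e, e ≠ 0 ∧ B e (J e) = 0 ∧ e ∈ centres hU.alt H := by
  obtain ⟨u, hu, hun⟩ := hU.exists_moved hd10 g hout
  set a := g u with ha
  set b := g (J u) with hb
  have hε := hU.eps_ne
  have hab : B a b = 0 := by rw [ha, hb, hgi u (J u), hu]
  have hba : B b a = 0 := by rw [hU.neg', hab, neg_zero]
  have hx : ∀ s, Alt.tv hU.alt a s * Alt.tv hU.alt b (-s / ε) ∈ H := fun s => by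
    have := mul_mem (mul_mem hg (hbase u hu s)) (inv_mem hg)
    rw [show g * (Alt.tv hU.alt u s * Alt.tv hU.alt (J u) (-s / ε)) * g⁻¹ =
      (g * Alt.tv hU.alt u s * g⁻¹) * (g * Alt.tv hU.alt (J u) (-s / ε) * g⁻¹) by group,
      Alt.conj_tv hU.alt hgi, Alt.conj_tv hU.alt hgi] at this
    exact this
  -- the element attached to `d`
  have hz : ∀ d, B d (J d) = 0 → B a d = 0 → B (J a) d = 0 → B b d = 0 → B b (J d) = 1 → ∀ s : F, s ≠ 0 →
      Alt.tv hU.alt a s * Alt.tv hU.alt d (-(ε * ε / s)) ∈ H := by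
    intro d hd had hJad hbd hbc s hs
    set c := J d with hc
    have hac : B a c = 0 := by rw [hc, hU.adj', hJad, neg_zero]
    have hca : B c a = 0 := by rw [hU.neg', hac, neg_zero]
    have hda : B d a = 0 := by rw [hU.neg', had, neg_zero]
    have hdb : B d b = 0 := by rw [hU.neg', hbd, neg_zero]
    have hcb : B c b = -1 := by rw [hU.neg', hbc]
    have hcd : B c d = 0 := by rw [hU.neg', hd, neg_zero]
    set μ := -s / ε with hμd
    have hμ : μ ≠ 0 := div_ne_zero (neg_ne_zero.2 hs) hε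
    set x := Alt.tv hU.alt a s * Alt.tv hU.alt b μ with hxd
    set y := Alt.tv hU.alt d (ε * ε / s) * Alt.tv hU.alt c μ⁻¹ with hyd
    have hxH : x ∈ H := hx s
    have hyH : y ∈ H := by
      have := hbase d hd (ε * ε / s)
      rwa [show -(ε * ε / s) / ε = μ⁻¹ by rw [hμd]; field_simp] at this
    have hxi : x ∈ Alt.isoGroup B := mul_mem (Alt.tv_mem_isoGroup _ _ _) (Alt.tv_mem_isoGroup _ _ _)
    have hyi : y ∈ Alt.isoGroup B := mul_mem (Alt.tv_mem_isoGroup _ _ _) (Alt.tv_mem_isoGroup _ _ _)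
    have hw : x * y * x ∈ Alt.isoGroup B := mul_mem (mul_mem hxi hyi) hxi
    have e1 : (x * y * x) a = a := by
      simp [hxd, hyd, Alt.tv_apply, hU.alt a, hab, had, hac]
    have e2 : (x * y * x) b = μ⁻¹ • c := by
      simp [hxd, hyd, Alt.tv_apply, hU.alt b, hba, hbd, hbc, hca, hcb, hcd, hdb, hda]
      field_simp
      simp
    have h1 := mul_mem (mul_mem (mul_mem (mul_mem hxH hyH) hxH) hxH) (inv_mem (mul_mem (mul_mem hxH hyH) hxH))
    rw [show (x * y * x) * x * (x * y * x)⁻¹ =
      ((x * y * x) * Alt.tv hU.alt a s * (x * y * x)⁻¹) * ((x * y * x) * Alt.tv hU.alt b μ * (x * y * x)⁻¹) by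
        rw [hxd]; group, Alt.conj_tv hU.alt hw, Alt.conj_tv hU.alt hw, e1, e2, Alt.tv_smul] at h1
    have h2 := mul_mem h1 (inv_mem hyH)
    convert h2 using 1
    rw [eq_mul_inv_iff_mul_eq, hyd, show μ⁻¹ ^ 2 * μ = μ⁻¹ by field_simp]
    refine LinearEquiv.ext fun z => ?_
    simp only [LinearEquiv.mul_apply, Alt.tv_apply, map_add, map_smul, LinearMap.add_apply, LinearMap.smul_apply, smul_eq_mul,
      hU.alt d, hcd, hda, hca]
    match_scalars <;> field_simp <;> ring
  -- two admissible vectors differing by `e`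
  have hx' : J b ∉ Submodule.span F (Set.range ![a, J a, b]) := fun hm => by
    obtain ⟨c, e⟩ := (Submodule.mem_span_range_iff_exists_fun _).1 hm
    simp only [Fin.sum_univ_three, Matrix.cons_val] at e
    exact hun (hU.mem_of_comb (kl J a) (fun w hw => hU.kl_closed hw) (a := -c 2) (b := 1)
      (Submodule.mem_span_pair.2 ⟨c 0, c 1, by linear_combination (norm := module) e⟩) (Or.inr one_ne_zero))
  obtain ⟨d₀, hd₀, hd₀p, hbd₀⟩ := hU.isep ![a, J a, b] (by have := hU.dim; omega) hx'
  set d := (-1 : F) • d₀ with hdd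
  have hd : B d (J d) = 0 := by simp [hdd, hd₀]
  have had : B a d = 0 := by simpa [hdd] using hd₀p 0
  have hJad : B (J a) d = 0 := by simpa [hdd] using hd₀p 1
  have hbd : B b d = 0 := by simpa [hdd] using hd₀p 2
  have hbJd : B b (J d) = 1 := by rw [hU.adj', hdd, map_smul, hbd₀]; simp
  obtain ⟨e, he0, he, hep⟩ := hU.iperp ![a, J a, b, J b, d, J d] (by have := hU.dim; omega)
  have e0 : B a e = 0 := hep 0
  have e1 : B (J a) e = 0 := hep 1
  have e2 : B b e = 0 := hep 2
  have e3 : B (J b) e = 0 := hep 3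
  have e4 : B d e = 0 := hep 4
  have e5 : B (J d) e = 0 := hep 5
  have hpm : ∀ t : F, ∀ s : F, s ≠ 0 →
      Alt.tv hU.alt a s * Alt.tv hU.alt (d + t • e) (-(ε * ε / s)) ∈ H := fun t s hs => by
    refine hz _ ?_ (by simp [had, e0]) (by simp [hJad, e1]) (by simp [hbd, e2]) ?_ s hs
    · have h6 : B d (J e) = 0 := by rw [hU.adj', e5, neg_zero]
      have h7 : B e (J d) = 0 := (hU.self_comm d e).trans h6
      simp [hd, he, h6, h7]
    · have h6 : B b (J e) = 0 := by rw [hU.adj', e3, neg_zero]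
      simp [hbJd, h6]
  refine ⟨e, he0, he, fun k => ?_⟩
  rcases eq_or_ne k 0 with rfl | hk
  · rw [Alt.tv_zero]; exact one_mem H
  set k' := -k / 2 with hk'd
  have hk' : k' ≠ 0 := div_ne_zero (neg_ne_zero.2 hk) hU.two
  have hs : ε * ε / k' ≠ 0 := div_ne_zero (mul_ne_zero hε hε) hk'
  have h1 := hpm 1 _ hs
  have h2 := hpm (-1) _ hs
  have h0 := hpm 0 _ hs
  rw [show ε * ε / (ε * ε / k') = k' by field_simp] at h1 h2 h0
  rw [one_smul] at h1
  rw [zero_smul, add_zero] at h0
  rw [neg_smul, one_smul] at h2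
  have h3 := mul_mem (mul_mem h1 (inv_mem h0)) (mul_mem h2 (inv_mem h0))
  have hea : B e a = 0 := by rw [hU.neg', e0, neg_zero]
  have hed : B e d = 0 := by rw [hU.neg', e4, neg_zero]
  have hda : B d a = 0 := by rw [hU.neg', had, neg_zero]
  convert h3 using 1
  rw [mul_inv_rev, Alt.tv_inv, Alt.tv_inv, neg_neg]
  refine LinearEquiv.ext fun z => ?_
  simp only [LinearEquiv.mul_apply, Alt.tv_apply, map_add, map_smul, map_neg, LinearMap.add_apply, LinearMap.smul_apply,
    LinearMap.neg_apply, smul_eq_mul, hU.alt a, hU.alt d, hU.alt e, had, hda, e0, e4, hea, hed, hk'd]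
  match_scalars <;> field_simp [hU.two] <;> ring

/-- one centre gives all of them -/
theorem all_centres (hd : 10 ≤ finrank F V) (hbase : ∀ u, B u (J u) = 0 → ∀ s : F, Alt.tv hU.alt u s * Alt.tv hU.alt (J u) (-s / ε) ∈ H)
    {e : V} (he0 : e ≠ 0) (he : B e (J e) = 0) (hc : e ∈ centres hU.alt H) : ∀ v, v ∈ centres hU.alt H := by
  have hε := hU.eps_ne
  have step : ∀ {e z : V}, e ∈ centres hU.alt H → B e (J e) = 0 → B z (J z) = 0 → B e (J z) = 0 → B e z ≠ 0 →
      z ∈ centres hU.alt H := by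
    intro e z hec he hz hJ hez
    have h1 := map_mem_centres hec (hbase z hz (B e z)⁻¹) (mul_mem (Alt.tv_mem_isoGroup _ _ _) (Alt.tv_mem_isoGroup _ _ _))
    have e1 : (Alt.tv hU.alt z (B e z)⁻¹ * Alt.tv hU.alt (J z) (-(B e z)⁻¹ / ε)) e = e + z := by
      simp [Alt.tv_apply, hJ, hez]
    rw [e1] at h1
    have h2 := add_smul_mem_centres h1 hec (by
      simp only [map_add, LinearMap.add_apply, hU.alt e, zero_add]
      rw [hU.neg']
      exact neg_ne_zero.2 hez) (-1)
    rwa [neg_one_smul, add_neg_cancel_comm] at h2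
  have orth : ∀ {e y : V}, e ≠ 0 → e ∈ centres hU.alt H → B e (J e) = 0 → y ≠ 0 → B y (J y) = 0 → B e y = 0 → B (J e) y = 0 →
      y ∈ centres hU.alt H := by
    intro e y he0 hec he hy0 hy hey hJey
    have hn1 : e ∉ Submodule.span F (Set.range ![J e]) := fun hm => by
      obtain ⟨c, e'⟩ := (Submodule.mem_span_range_iff_exists_fun _).1 hm
      simp only [Fin.sum_univ_one, Matrix.cons_val_fin_one] at e'
      exact one_ne_zero (hU.kl_indep he0 (a := 1) (b := -c 0) (by linear_combination (norm := module) -e')).1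
    obtain ⟨w₁, hw₁, hw₁p, hew₁⟩ := hU.isep ![J e] (by have := hU.dim; omega) hn1
    have h0 : B (J e) w₁ = 0 := hw₁p 0
    have hw₁S := step hec he hw₁ (by rw [hU.adj', h0, neg_zero]) (by rw [hew₁]; exact one_ne_zero)
    have hwy : w₁ ∉ kl J y := fun hm => by
      obtain ⟨s, t, rfl⟩ := Submodule.mem_span_pair.1 hm
      simp [hey, hU.adj' e y, hJey] at hew₁
    have hn2 : w₁ ∉ Submodule.span F (Set.range ![J y, J w₁, y - w₁]) := fun hm => by
      obtain ⟨c, e'⟩ := (Submodule.mem_span_range_iff_exists_fun _).1 hm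
      simp only [Fin.sum_univ_three, Matrix.cons_val] at e'
      by_cases h : 1 + c 2 = 0 ∧ c 1 = 0
      · have h2 : c 2 = -1 := by linear_combination h.1
        rw [h.2, h2] at e'
        exact hy0 ((hU.mem_of_comb ⊥ (by simp) (v := y) (a := -1) (b := c 0) (by
          rw [Submodule.mem_bot]; linear_combination (norm := module) e') (Or.inl (neg_ne_zero.2 one_ne_zero))) |>
            (Submodule.mem_bot F).1)
      · refine hwy (hU.mem_of_comb (kl J y) (fun w hw => hU.kl_closed hw) (a := 1 + c 2) (b := -c 1)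
          (Submodule.mem_span_pair.2 ⟨c 2, c 0, by linear_combination (norm := module) e'⟩) ?_)
        by_contra! h'
        exact h ⟨h'.1, neg_eq_zero.1 h'.2⟩
    obtain ⟨w₂, hw₂, hw₂p, h12⟩ := hU.isep ![J y, J w₁, y - w₁] (by have := hU.dim; omega) hn2
    have k0 : B (J y) w₂ = 0 := hw₂p 0
    have k1 : B (J w₁) w₂ = 0 := hw₂p 1
    have k2 : B (y - w₁) w₂ = 0 := hw₂p 2
    have hy2 : B y w₂ = 1 := by
      rw [map_sub, LinearMap.sub_apply, h12, sub_eq_zero] at k2
      exact k2
    have hw₂S := step hw₁S hw₁ hw₂ (by rw [hU.adj', k1, neg_zero]) (by rw [h12]; exact one_ne_zero)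
    exact step hw₂S hw₂ hy (by rw [hU.self_comm, hU.adj', k0, neg_zero]) (by rw [hU.neg', hy2]; simp)
  have hiso : ∀ y, B y (J y) = 0 → y ∈ centres hU.alt H := by
    intro y hy
    rcases eq_or_ne y 0 with rfl | hy0
    · exact zero_mem_centres
    obtain ⟨z, hz0, hz, hzp⟩ := hU.iperp ![e, J e, y, J y] (by have := hU.dim; omega)
    have z0 : B e z = 0 := hzp 0
    have z1 : B (J e) z = 0 := hzp 1
    have z2 : B y z = 0 := hzp 2
    have z3 : B (J y) z = 0 := hzp 3
    exact orth hz0 (orth he0 hc he hz0 hz z0 z1) hz hy0 hy (by rw [hU.neg', z2, neg_zero])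
      (by rw [hU.neg', hU.adj' y z, z3]; simp)
  intro v
  rcases eq_or_ne v 0 with rfl | hv0
  · exact zero_mem_centres
  obtain ⟨c, hc', hcp, hvc⟩ := hU.isep ![J v + v] (by have := hU.dim; omega) (x := v) (fun hm => by
    obtain ⟨c, e'⟩ := (Submodule.mem_span_range_iff_exists_fun _).1 hm
    simp only [Fin.sum_univ_one, Matrix.cons_val_fin_one] at e'
    obtain ⟨h1, h2⟩ := hU.kl_indep hv0 (a := c 0 - 1) (b := c 0) (by linear_combination (norm := module) e')
    rw [h2, zero_sub, neg_eq_zero] at h1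
    exact one_ne_zero h1)
  have hvJ : B v (J c) = 1 := by
    have h1 : B (J v + v) c = 0 := hcp 0
    rw [map_add, LinearMap.add_apply, hvc] at h1
    rw [hU.adj']
    linear_combination -h1
  set t := -(B v (J v)) / 2 with ht
  have hv' : v + t • c ∈ centres hU.alt H := hiso _ (by
    simp only [map_add, map_smul, LinearMap.add_apply, LinearMap.smul_apply, hc', hvJ, hU.self_comm v c, smul_eq_mul, ht]
    field_simp [hU.two]
    ring)
  have h1 := add_smul_mem_centres hv' (hiso c hc') (by
    simp only [map_add, map_smul, LinearMap.add_apply, LinearMap.smul_apply, hU.alt c, smul_zero, add_zero, hvc]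
    exact one_ne_zero) (-t)
  rwa [neg_smul, add_neg_cancel_right] at h1

/-- a transvection outside the normaliser -/
theorem exists_out : ∃ v, ¬ ∃ α β : F, ∀ x, Alt.tv hU.alt v 1 (J x) =
    α • Alt.tv hU.alt v 1 x + β • J (Alt.tv hU.alt v 1 x) := by
  obtain ⟨v, hv0, hv, -⟩ := hU.iperp (![] : Fin 0 → V) (by have := hU.dim; omega)
  refine ⟨v, ?_⟩
  rintro ⟨α, β, h⟩
  have hJv : B (J v) v = 0 := by rw [hU.neg', hv, neg_zero]
  have h1 := h v
  rw [Alt.tv_apply, Alt.tv_apply, hJv, hU.alt v] at h1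
  simp only [mul_zero, zero_smul, add_zero] at h1
  obtain ⟨hα, hβ⟩ := hU.kl_indep hv0 (a := α) (b := β - 1) (by linear_combination (norm := module) -h1)
  obtain ⟨x, hx⟩ : ∃ x, B x v ≠ 0 := by
    by_contra! h
    exact hv0 (hU.nd.2 v h)
  have h2 := h x
  rw [hα, sub_eq_zero.1 hβ, Alt.tv_apply, Alt.tv_apply, map_add, map_smul] at h2
  simp only [one_mul, zero_smul, zero_add, one_smul] at h2
  exact hx (hU.kl_indep hv0 (a := B (J x) v) (b := -B x v) (by linear_combination (norm := module) h2) |>.2 |> neg_eq_zero.1)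

end USp

end Cfsg.Agent.ClassicalMax.UnitSp
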