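import Cfsg.Agent.ClassicalMax.UnitSpSix

/-!
Overgroups of the unitary group over the quadratic extension in a symplectic group of dimension at least six and odd
characteristic: some isotropic vector has an anisotropic image, which gives a transvection, and isotropic centres
propagate along non-orthogonal lines.
-/

set_option autoImplicit false
set_option linter.unusedSectionVars false
set_option linter.style.haveILetI false

namespace Cfsg.Agent.ClassicalMax.UnitSp

open Module QuadraticMap Cfsg.Agent.Classical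

variable {F V : Type*} [Field F] [Finite F] [AddCommGroup V] [Module F V] [FiniteDimensional F V]

/-- a quadratic form vanishing on the singular vectors of a non-degenerate one is a multiple of it -/
theorem proportional_of_zero {Q Q' : QuadraticForm F V} (hQ : (polarBilin Q).Nondegenerate) (hd : 6 ≤ finrank F V)
    (h : ∀ v, Q v = 0 → Q' v = 0) : ∃ c : F, ∀ v, Q' v = c * Q v := by
  have perp : ∀ {e v : V}, Q e = 0 → Q v = 0 → polar Q e v = 0 → polar Q' e v = 0 := fun {e v} he hv hev => by
    have h1 := h (e + v) (by rw [Quad.map_add', he, hv, hev]; ring)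
    rwa [Quad.map_add', h e he, h v hv, zero_add, zero_add] at h1
  obtain ⟨e, he0, he⟩ := Quad.exists_singular Q (by omega)
  have pair : ∀ {s : V} (U : Submodule F V), Q s = 0 → s ∉ U → 2 * finrank F U + 3 ≤ finrank F V →
      ∃ t, Q t = 0 ∧ (∀ u ∈ U, polar Q u t = 0) ∧ polar Q s t = 1 := fun {s} U _ hs hU =>
    RootPlanes.exists_sing_sep hQ U hU hs
  obtain ⟨f, hf, -, hef⟩ := pair ⊥ he (by simpa using he0) (by rw [finrank_bot]; omega)
  refine ⟨polar Q' e f, fun w => ?_⟩
  -- split off the pair
  set v := w - polar Q f w • e - polar Q e w • f with hv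
  have hfe : polar Q f e = 1 := by rw [polar_comm, hef]
  have hve : polar Q e v = 0 := by
    rw [hv, sub_eq_add_neg, sub_eq_add_neg, polar_add_right, polar_add_right, ← neg_smul, ← neg_smul, polar_smul_right,
      polar_smul_right, Quad.polar_self', he, hef]
    simp
  have hvf : polar Q f v = 0 := by
    rw [hv, sub_eq_add_neg, sub_eq_add_neg, polar_add_right, polar_add_right, ← neg_smul, ← neg_smul, polar_smul_right,
      polar_smul_right, Quad.polar_self', hf, hfe]
    simp
  -- a second pair orthogonal to the first one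
  obtain ⟨g, hg, hge, hgf, k, hk, hke, hkf, hgk⟩ : ∃ g, Q g = 0 ∧ polar Q e g = 0 ∧ polar Q f g = 0 ∧
      ∃ k, Q k = 0 ∧ polar Q e k = 0 ∧ polar Q f k = 0 ∧ polar Q g k = 1 := by
    let L : V →ₗ[F] (Fin 2 → F) := LinearMap.pi fun i => (polarBilin Q) (![e, f] i)
    have hker : 4 ≤ finrank F (LinearMap.ker L) := by
      have h1 := LinearMap.finrank_range_add_finrank_ker L
      have h2 := Submodule.finrank_le (LinearMap.range L)
      rw [Module.finrank_fin_fun] at h2
      omega
    obtain ⟨g, hg0, hg⟩ := Quad.exists_singular (Q.comp (LinearMap.ker L).subtype) (by omega)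
    have g1 : polar Q e g = 0 := congrFun (LinearMap.mem_ker.1 g.2) 0
    have g2 : polar Q f g = 0 := congrFun (LinearMap.mem_ker.1 g.2) 1
    obtain ⟨w, hw, hgw⟩ := Quad.exists_perp hQ (S := Submodule.span F ({e, f} : Set V)) (x := (g : V)) (fun hm => by
      obtain ⟨a, b, hab⟩ := Submodule.mem_span_pair.1 hm
      have e1 := congrArg (polar Q f) hab
      have e2 := congrArg (polar Q e) hab
      rw [polar_add_right, polar_smul_right, polar_smul_right, Quad.polar_self', hf, hfe, g2] at e1
      rw [polar_add_right, polar_smul_right, polar_smul_right, Quad.polar_self', he, hef, g1] at e2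
      simp at e1 e2
      exact hg0 (Subtype.ext (by rw [← hab, e1, e2]; simp)))
    have we : polar Q e w = 0 := hw e (Submodule.subset_span (by simp))
    have wf : polar Q f w = 0 := hw f (Submodule.subset_span (by simp))
    have gw : polar Q (g : V) w = 1 := hgw
    refine ⟨g, hg, g1, g2, w + (-Q w) • (g : V), ?_, ?_, ?_, ?_⟩
    · rw [Quad.map_add', Quad.map_smul', show Q (g : V) = 0 from hg, polar_smul_right, polar_comm, gw, smul_eq_mul]; ring
    · rw [polar_add_right, polar_smul_right, we, g1]; simp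
    · rw [polar_add_right, polar_smul_right, wf, g2]; simp
    · rw [polar_add_right, polar_smul_right, gw, Quad.polar_self', show Q (g : V) = 0 from hg]; simp
  have hkg : polar Q k g = 1 := by rw [polar_comm, hgk]
  -- what is orthogonal to the first pair pairs to zero with both
  have cross : ∀ {x : V}, Q x = 0 → polar Q x g = 0 → polar Q x k = 0 → polar Q x v = 0 → polar Q' x v = 0 := by
    intro x hx xg xk xv
    set u := v - polar Q k v • g - polar Q g v • k with hu
    have ug : polar Q g u = 0 := by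
      rw [hu, sub_eq_add_neg, sub_eq_add_neg, polar_add_right, polar_add_right, ← neg_smul, ← neg_smul, polar_smul_right,
        polar_smul_right, Quad.polar_self', hg, hgk]
      simp
    have uk : polar Q k u = 0 := by
      rw [hu, sub_eq_add_neg, sub_eq_add_neg, polar_add_right, polar_add_right, ← neg_smul, ← neg_smul, polar_smul_right,
        polar_smul_right, Quad.polar_self', hk, hkg]
      simp
    have xu : polar Q x u = 0 := by
      rw [hu, sub_eq_add_neg, sub_eq_add_neg, polar_add_right, polar_add_right, ← neg_smul, ← neg_smul, polar_smul_right,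
        polar_smul_right, xg, xk, xv]
      simp
    have p1 := perp hx hg xg
    have p2 := perp hx hk xk
    have p3 := perp hx (v := g + u + (-Q u) • k) (by
      rw [Quad.map_add', Quad.map_add', Quad.map_smul', hg, hk, ug, polar_add_left, polar_smul_right, polar_smul_right,
        polar_comm Q u k, uk, hgk, smul_eq_mul, smul_eq_mul]
      ring) (by rw [polar_add_right, polar_add_right, polar_smul_right, xg, xk, xu]; simp)
    rw [polar_add_right, polar_add_right, polar_smul_right, p1, p2, zero_add, smul_zero, add_zero] at p3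
    rw [show v = u + polar Q k v • g + polar Q g v • k by rw [hu]; module, polar_add_right, polar_add_right,
      polar_smul_right, polar_smul_right, p1, p2, p3]
    simp
  have c1 := cross he hge hke hve
  have c2 := cross hf hgf hkf hvf
  have hQv : Q' v = polar Q' e f * Q v := by
    have h1 := h (e + v + (-Q v) • f) (by
      rw [Quad.map_add', Quad.map_add', Quad.map_smul', he, hf, hve, polar_add_left, polar_smul_right, polar_smul_right,
        polar_comm Q v f, hvf, hef, smul_eq_mul, smul_eq_mul]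
      ring)
    rw [Quad.map_add', Quad.map_add', Quad.map_smul', h e he, h f hf, c1, polar_add_left, polar_smul_right,
      polar_smul_right, polar_comm Q' v f, c2, smul_eq_mul, smul_eq_mul] at h1
    linear_combination h1
  have hw : w = polar Q f w • e + polar Q e w • f + v := by rw [hv]; module
  rw [hw]
  simp only [Quad.map_add', Quad.map_smul', he, hf, h e he, h f hf, polar_add_left, polar_smul_left, polar_smul_right,
    smul_eq_mul, hef, hve, hvf, c1, c2, hQv]
  ring

variable {B : LinearMap.BilinForm F V} {J : V →ₗ[F] V} {ε : F} {H : Subgroup (V ≃ₗ[F] V)}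

namespace USp

variable (hU : USp B J ε)

include hU

/-- some isotropic vector has an anisotropic image -/
theorem exists_aniso_image {g : V ≃ₗ[F] V} (hgi : g ∈ Alt.isoGroup B)
    (hout : ¬ ∃ α β : F, ∀ v, g (J v) = α • g v + β • J (g v)) :
    ∃ u, B u (J u) = 0 ∧ g (J u) ∉ kl J (g u) ∧ B (g u) (J (g u)) ≠ 0 := by
  obtain ⟨Q, hQ, hp, hnd⟩ := hU.exists_norm
  obtain ⟨u, hu, hgu⟩ : ∃ u, B u (J u) = 0 ∧ B (g u) (J (g u)) ≠ 0 := by
    by_contra! hc
    obtain ⟨c, hcQ⟩ := proportional_of_zero (Q' := Q.comp g.toLinearMap) hnd hU.dim fun v hv => by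
      rw [QuadraticMap.comp_apply, LinearEquiv.coe_coe, hQ]
      exact hc v ((hQ v).symm.trans hv)
    have hJ : ∀ x y, B (g x) (J (g y)) = c * B x (J y) := fun x y => by
      refine mul_left_cancel₀ hU.two ?_
      have e1 := hp (g x) (g y)
      have e2 := hp x y
      have e3 : polar Q (g x) (g y) = c * polar Q x y := by
        have q1 := hcQ (x + y)
        have q2 := hcQ x
        have q3 := hcQ y
        simp only [QuadraticMap.comp_apply, LinearEquiv.coe_coe, map_add g] at q1 q2 q3
        simp only [polar]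
        linear_combination q1 - q2 - q3
      linear_combination -e1 + e3 + c * e2
    have hgJ : ∀ y, J (g y) = c • g (J y) := fun y => sub_eq_zero.1 (hU.nd.2 _ fun z => by
      obtain ⟨x, rfl⟩ := g.surjective z
      rw [map_sub, map_smul, hgi x (J y), hJ, smul_eq_mul, sub_self])
    have hc0 : c ≠ 0 := fun h0 => by
      obtain ⟨y, hy⟩ : ∃ y : V, y ≠ 0 := by
        by_contra! h
        have : Subsingleton V := ⟨fun a b => (h a).trans (h b).symm⟩
        have := hU.dim
        rw [Module.finrank_zero_of_subsingleton] at this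
        omega
      have h1 := congrArg J (hgJ y)
      rw [h0, zero_smul, map_zero, hU.sq, smul_eq_zero] at h1
      exact hy (g.map_eq_zero_iff.1 (h1.resolve_left hU.eps_ne))
    exact hout ⟨0, c⁻¹, fun v => by rw [zero_smul, zero_add, hgJ, smul_smul, inv_mul_cancel₀ hc0, one_smul]⟩
  refine ⟨u, hu, fun hm => ?_, hgu⟩
  obtain ⟨a, b, e⟩ := Submodule.mem_span_pair.1 hm
  have h1 : B (g u) (g (J u)) = 0 := by rw [hgi u (J u), hu]
  rw [← e, map_add, map_smul, map_smul, hU.alt (g u), smul_zero, zero_add, smul_eq_mul] at h1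
  rw [(mul_eq_zero.1 h1).resolve_right hgu, zero_smul, add_zero, ← map_smul] at e
  exact one_ne_zero (hU.kl_indep (v := u) (fun h => hgu (by rw [h]; simp)) (a := -a) (b := 1)
    (by rw [← g.injective e]; module)).2

/-- the multiple of an isotropic vector in the phase of another one -/
theorem phase_gen {x y : V} (hy : B y (J y) = 0) (hxy : B x y ≠ 0 ∨ B x (J y) ≠ 0) :
    ∃ a b : F, B (a • y + b • J y) (J (a • y + b • J y)) = 0 ∧ B x (J (a • y + b • J y)) = 0 ∧
      B x (a • y + b • J y) ≠ 0 := by
  set m := B x y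
  set n := B x (J y)
  have hval : B x ((ε * m) • y + (-n) • J y) = ε * (m * m) - n * n := by
    rw [map_add, map_smul, map_smul, smul_eq_mul, smul_eq_mul]; ring
  have hne : ε * (m * m) - n * n ≠ 0 := fun h0 => by
    rcases eq_or_ne m 0 with hm | hm
    · have hn0 : n = 0 := mul_self_eq_zero.1 (by rw [hm] at h0; linear_combination -h0)
      exact hxy.elim (fun h => h hm) fun h => h hn0
    · exact hU.nsq (n / m) (by field_simp; linear_combination -h0)
  refine ⟨ε * m, -n, by rw [hU.scal_norm, hy, mul_zero], ?_, hval ▸ hne⟩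
  rw [map_add, map_smul, map_smul, hU.sq, map_add, map_smul, map_smul, map_smul, smul_eq_mul, smul_eq_mul, smul_eq_mul]
  ring

/-- a vector of given norm orthogonal to two non-orthogonal isotropic lines -/
theorem fill_gen {x y : V} (hx : B x (J x) = 0) (hxy : B x y ≠ 0 ∨ B x (J y) ≠ 0) (t : F) :
    ∃ n, B n (J n) = t ∧ B x n = 0 ∧ B (J x) n = 0 ∧ B y n = 0 ∧ B (J y) n = 0 := by
  let p : Fin 4 → V := ![x, J x, y, J y]
  let K : Submodule F V := LinearMap.ker (LinearMap.pi fun i => B (p i))
  have hmem : ∀ w, w ∈ K ↔ B x w = 0 ∧ B (J x) w = 0 ∧ B y w = 0 ∧ B (J y) w = 0 := fun w => by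
    simp only [K, p, LinearMap.mem_ker, funext_iff, LinearMap.pi_apply, Fin.forall_fin_succ]
    simp
  obtain ⟨n₀, hn₀, hN⟩ : ∃ n₀ ∈ K, B n₀ (J n₀) ≠ 0 := by
    by_contra! hc
    have hJK : ∀ w ∈ K, J w ∈ K := fun w hw => by
      obtain ⟨e0, e1, e2, e3⟩ := (hmem w).1 hw
      exact (hmem _).2 ⟨by rw [hU.adj', e1, neg_zero], by rw [hU.sim, e0, mul_zero], by rw [hU.adj', e3, neg_zero],
        by rw [hU.sim, e2, mul_zero]⟩
    have hJ2 : ∀ u ∈ K, ∀ w ∈ K, B u (J w) = 0 := fun u hu w hw => by
      have h1 := hc (u + w) (K.add_mem hu hw)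
      simp only [map_add, LinearMap.add_apply, hc u hu, hc w hw, hU.self_comm u w, zero_add, add_zero, ← two_mul] at h1
      exact (mul_eq_zero.1 h1).resolve_left hU.two
    have hB2 : ∀ u ∈ K, ∀ w ∈ K, B u w = 0 := fun u hu w hw => by
      have h1 := hJ2 u hu (J w) (hJK w hw)
      rw [hU.sq, map_smul, smul_eq_mul] at h1
      exact (mul_eq_zero.1 h1).resolve_left hU.eps_ne
    -- so the orthogonal lies in the two lines, and one of them pairs with it
    have hrank : finrank F V ≤ finrank F K + 4 := by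
      have h1 := LinearMap.finrank_range_add_finrank_ker (LinearMap.pi fun i => B (p i))
      have h2 := Submodule.finrank_le (LinearMap.range (LinearMap.pi fun i => B (p i)))
      rw [Module.finrank_fin_fun] at h2
      show finrank F V ≤ finrank F (LinearMap.ker (LinearMap.pi fun i => B (p i))) + 4
      omega
    have hle : K ≤ Submodule.span F (Set.range p) := by
      intro w hw
      by_contra hns
      obtain ⟨φ, hφ0, hφ⟩ := Submodule.exists_dual_map_eq_bot_of_notMem hns inferInstance
      obtain ⟨v, rfl⟩ := (LinearMap.BilinForm.toDual B hU.nd).surjective φ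
      have hv : v ∈ K := (hmem v).2 (by
        have e : ∀ i, B (p i) v = 0 := fun i => by
          have h3 : LinearMap.BilinForm.toDual B hU.nd v (p i) = 0 := by
            have : LinearMap.BilinForm.toDual B hU.nd v (p i) ∈ (Submodule.span F (Set.range p)).map
                (LinearMap.BilinForm.toDual B hU.nd v) := ⟨p i, Submodule.subset_span ⟨i, rfl⟩, rfl⟩
            rwa [hφ, Submodule.mem_bot] at this
          rw [LinearMap.BilinForm.toDual_def] at h3
          rw [hU.neg', h3, neg_zero]
        exact ⟨e 0, e 1, e 2, e 3⟩)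
      rw [LinearMap.BilinForm.toDual_def] at hφ0
      exact hφ0 (hB2 v hv w hw)
    obtain ⟨w, hw, hw0⟩ := K.exists_mem_ne_zero_of_ne_bot fun h => by
      rw [h, finrank_bot] at hrank
      have := hU.dim
      omega
    obtain ⟨c, hcw⟩ := (Submodule.mem_span_range_iff_exists_fun F).1 (hle hw)
    simp only [p, Fin.sum_univ_four, Matrix.cons_val] at hcw
    obtain ⟨e0, e1, e2, e3⟩ := (hmem w).1 hw
    have hJxx : B (J x) x = 0 := by rw [hU.neg', hx, neg_zero]
    rw [← hcw] at e0 e1
    simp only [map_add, map_smul, hU.alt x, hU.alt (J x), hx, hJxx, hU.sim, smul_eq_mul, mul_zero, zero_add, hU.adj x y] at e0 e1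
    have hc23 : c 2 = 0 ∧ c 3 = 0 := by
      set m := B x y
      set n := B x (J y)
      have k1 : c 2 * (ε * (m * m) - n * n) = 0 := by linear_combination (ε * m) * e0 + n * e1
      have k2 : c 3 * (ε * (m * m) - n * n) = 0 := by linear_combination -n * e0 - m * e1
      have hne : ε * (m * m) - n * n ≠ 0 := fun h0 => by
        rcases eq_or_ne m 0 with hm | hm
        · have hn0 : n = 0 := mul_self_eq_zero.1 (by rw [hm] at h0; linear_combination -h0)
          exact hxy.elim (fun h => h hm) fun h => h hn0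
        · exact hU.nsq (n / m) (by field_simp; linear_combination -h0)
      exact ⟨(mul_eq_zero.1 k1).resolve_right hne, (mul_eq_zero.1 k2).resolve_right hne⟩
    rw [hc23.1, hc23.2, zero_smul, zero_smul, add_zero, add_zero] at hcw
    -- now `y` must be orthogonal to the combination
    have hyx : B y x = -B x y := hU.neg' _ _
    have hyJx : B y (J x) = B x (J y) := hU.self_comm x y
    rw [← hcw] at e2 e3
    simp only [map_add, map_smul, smul_eq_mul, hyx, hyJx, hU.sim, hU.adj y x] at e2 e3
    set m := B x y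
    set n := B x (J y)
    have k1 : c 0 * (ε * (m * m) - n * n) = 0 := by linear_combination (-ε * m) * e2 + n * e3
    have k2 : c 1 * (ε * (m * m) - n * n) = 0 := by linear_combination -n * e2 + m * e3
    have hne : ε * (m * m) - n * n ≠ 0 := fun h0 => by
      rcases eq_or_ne m 0 with hm | hm
      · have hn0 : n = 0 := mul_self_eq_zero.1 (by rw [hm] at h0; linear_combination -h0)
        exact hxy.elim (fun h => h hm) fun h => h hn0
      · exact hU.nsq (n / m) (by field_simp; linear_combination -h0)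
    exact hw0 (by rw [← hcw, (mul_eq_zero.1 k1).resolve_right hne, (mul_eq_zero.1 k2).resolve_right hne, zero_smul,
      zero_smul, add_zero])
  obtain ⟨e0, e1, e2, e3⟩ := (hmem n₀).1 hn₀
  obtain ⟨a, b, hab⟩ := hU.exists_norm_eq (t / B n₀ (J n₀))
  refine ⟨a • n₀ + b • J n₀, by rw [hU.scal_norm, hab, div_mul_cancel₀ _ hN], ?_⟩
  have f1 : B x (J n₀) = 0 := by rw [hU.adj', e1, neg_zero]
  have f3 : B y (J n₀) = 0 := by rw [hU.adj', e3, neg_zero]
  simp [e0, e1, e2, e3, f1, f3, hU.sim]

/-- an isotropic vector pairing with two given ones -/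
theorem common_partner {e y : V} (he0 : e ≠ 0) (he : B e (J e) = 0) (hy0 : y ≠ 0) (hy : B y (J y) = 0) :
    ∃ z, B z (J z) = 0 ∧ (B e z ≠ 0 ∨ B e (J z) ≠ 0) ∧ (B y z ≠ 0 ∨ B y (J z) ≠ 0) := by
  have part : ∀ x : V, x ≠ 0 → ∃ f, B f (J f) = 0 ∧ B x f = 1 := fun x hx0 => by
    obtain ⟨c, hc, -, hxc⟩ := hU.isep (![] : Fin 0 → V) (by have := hU.dim; omega) (x := x) (by
      rwa [Set.range_eq_empty, Submodule.span_empty, Submodule.mem_bot])
    exact ⟨c, hc, hxc⟩
  obtain ⟨f, hf, hef⟩ := part e he0
  obtain ⟨f', hf', hyf⟩ := part y hy0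
  have n1 : B e f ≠ 0 := by rw [hef]; exact one_ne_zero
  have n2 : B y f' ≠ 0 := by rw [hyf]; exact one_ne_zero
  by_cases h1 : B y f ≠ 0 ∨ B y (J f) ≠ 0
  · exact ⟨f, hf, Or.inl n1, h1⟩
  by_cases h2 : B e f' ≠ 0 ∨ B e (J f') ≠ 0
  · exact ⟨f', hf', h2, Or.inl n2⟩
  push Not at h1 h2
  obtain ⟨a, b, hw, hfw, hyw⟩ : ∃ a b : F, B (a • f' + b • J f') (J (a • f' + b • J f')) = 0 ∧
      B f (J (a • f' + b • J f')) = 0 ∧ (B y (a • f' + b • J f') ≠ 0 ∨ B y (J (a • f' + b • J f')) ≠ 0) := by
    by_cases h3 : B f f' ≠ 0 ∨ B f (J f') ≠ 0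
    · obtain ⟨a, b, w1, w2, w3⟩ := hU.phase_gen hf' h3
      refine ⟨a, b, w1, w2, ?_⟩
      by_contra! h4
      obtain ⟨k1, k2⟩ := h4
      simp only [map_add, map_smul, hU.sq, smul_eq_mul, hyf] at k1 k2
      have hab : a ≠ 0 ∨ b ≠ 0 := by
        by_contra! h5
        exact w3 (by rw [h5.1, h5.2, zero_smul, zero_smul, add_zero, map_zero])
      set n := B y (J f')
      have k3 : a * a = b * b * ε := by linear_combination a * k1 - b * k2
      rcases eq_or_ne b 0 with hb | hb
      · exact hab.elim (fun h => h (mul_self_eq_zero.1 (by rw [k3, hb]; ring))) fun h => h hb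
      · exact hU.nsq (a / b) (by field_simp; linear_combination k3)
    · push Not at h3
      refine ⟨1, 0, ?_, ?_, Or.inl ?_⟩ <;> simp [hf', h3.2, hyf]
  refine ⟨f + (a • f' + b • J f'), ?_, Or.inl ?_, ?_⟩
  · generalize a • f' + b • J f' = w at hw hfw ⊢
    simp only [map_add, LinearMap.add_apply, hf, hw, hfw, (hU.self_comm f w).trans hfw, add_zero]
  · simp [h2.1, h2.2, hef]
  · rcases hyw with h | h
    · exact Or.inl (by simpa [h1.1] using h)
    · exact Or.inr (by simpa [h1.2, map_add] using h)

set_option maxHeartbeats 1000000 in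
/-- a moved line gives a transvection with isotropic centre -/
theorem exists_centre_gen (hnorm : ∀ f ∈ Alt.isoGroup B, (∀ v, f (J v) = J (f v)) → f ∈ H)
    {g : V ≃ₗ[F] V} (hg : g ∈ H) (hgi : g ∈ Alt.isoGroup B) (hout : ¬ ∃ α β : F, ∀ v, g (J v) = α • g v + β • J (g v)) :
    ∃ e, e ≠ 0 ∧ B e (J e) = 0 ∧ e ∈ centres hU.alt H := by
  have hε := hU.eps_ne
  have hbase : ∀ u, B u (J u) = 0 → ∀ s : F, Alt.tv hU.alt u s * Alt.tv hU.alt (J u) (-s / ε) ∈ H := by
    intro u hu s
    refine hnorm _ (mul_mem (Alt.tv_mem_isoGroup _ _ _) (Alt.tv_mem_isoGroup _ _ _)) fun v => ?_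
    have h3 : B (J u) u = 0 := by rw [hU.adj, hu, neg_zero]
    simp only [LinearEquiv.mul_apply, Alt.tv_apply, map_add, map_smul, LinearMap.add_apply, LinearMap.smul_apply, smul_eq_mul,
      h3, hU.alt u, hU.sq, hU.sim, hU.adj v u]
    match_scalars <;> field_simp <;> ring
  obtain ⟨u, hu, hun, haN⟩ := hU.exists_aniso_image hgi hout
  set a := g u with ha
  set b := g (J u) with hb
  set N := B a (J a) with hNd
  have hab : B a b = 0 := by rw [ha, hb, hgi u (J u), hu]
  have hba : B b a = 0 := by rw [hU.neg', hab, neg_zero]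
  have hx : ∀ s, Alt.tv hU.alt a s * Alt.tv hU.alt b (-s / ε) ∈ H := fun s => by
    have := mul_mem (mul_mem hg (hbase u hu s)) (inv_mem hg)
    rw [show g * (Alt.tv hU.alt u s * Alt.tv hU.alt (J u) (-s / ε)) * g⁻¹ =
      (g * Alt.tv hU.alt u s * g⁻¹) * (g * Alt.tv hU.alt (J u) (-s / ε) * g⁻¹) by group,
      Alt.conj_tv hU.alt hgi, Alt.conj_tv hU.alt hgi] at this
    exact this
  -- the projection to the line of `a`
  let P : V →ₗ[F] V := ((B.flip (J a)).smulRight (N⁻¹ • a)) - (B.flip a).smulRight (N⁻¹ • J a)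
  have hP : ∀ x, P x = (B x (J a) / N) • a - (B x a / N) • J a := fun x => by
    simp [P, smul_smul, div_eq_mul_inv]
  have hPJ : ∀ x, P (J x) = J (P x) := fun x => by
    simp only [hP, map_sub, map_smul, hU.sq, hU.sim, hU.adj x a]
    match_scalars <;> field_simp
  have hPperp : ∀ x, B a (x - P x) = 0 ∧ B (J a) (x - P x) = 0 := fun x => by
    constructor
    · simp only [hP, map_sub, map_smul, hU.alt a, smul_eq_mul, ← hNd, hU.neg' a x]
      field_simp
      ring
    · simp only [hP, map_sub, map_smul, hU.alt (J a), smul_eq_mul, hU.neg' a (J a), ← hNd, hU.neg' (J a) x]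
      field_simp
      ring
  obtain ⟨Q, hQ, hQp, -⟩ := hU.exists_norm
  -- an isotropic vector of the orthogonal of the line, not orthogonal to `b`
  obtain ⟨d₁, hd₁, hd₁a, hd₁a', hd₁b⟩ : ∃ d, B d (J d) = 0 ∧ B a d = 0 ∧ B (J a) d = 0 ∧ ¬(B b d = 0 ∧ B b (J d) = 0) := by
    set b' := b - P b with hb'
    obtain ⟨q1, q2⟩ := hPperp b
    replace q1 : B a b' = 0 := q1
    replace q2 : B (J a) b' = 0 := q2
    have hb'0 : b' ≠ 0 := fun h => hun (Submodule.mem_span_pair.2 ⟨B b (J a) / N, -(B b a / N), by
      rw [neg_smul, ← sub_eq_add_neg, ← hP]; exact (sub_eq_zero.1 h).symm⟩)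
    have hbb : ∀ w, B a w = 0 → B (J a) w = 0 → B b (J w) = B b' (J w) := fun w w1 w2 => by
      have w3 : B a (J w) = 0 := by rw [hU.adj', w2, neg_zero]
      have w4 : B (J a) (J w) = 0 := by rw [hU.sim, w1, mul_zero]
      simp [hb', hP, w3, w4]
    have other : ∀ e, e ≠ 0 → B e (J e) = 0 → B a e = 0 → B (J a) e = 0 →
        ∃ f, B f (J f) = 0 ∧ B a f = 0 ∧ B (J a) f = 0 ∧ B e (J f) ≠ 0 := by
      intro e he0 he ea ea'
      obtain ⟨y₀, hy₀⟩ : ∃ y₀, B (J e) y₀ ≠ 0 := by
        by_contra! h
        have h1 : J e = 0 := hU.nd.1 _ h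
        have h2 := hU.sq e
        rw [h1, map_zero] at h2
        exact he0 ((smul_eq_zero.1 h2.symm).resolve_left hε)
      obtain ⟨r1, r2⟩ := hPperp y₀
      set y := y₀ - P y₀ with hy
      have hey : B e (J y) ≠ 0 := by
        have w3 : B (J e) a = 0 := by rw [hU.adj, neg_eq_zero, hU.neg', ea', neg_zero]
        have w4 : B (J e) (J a) = 0 := by rw [hU.sim, hU.neg', ea, neg_zero, mul_zero]
        rw [hU.adj', neg_ne_zero, hy, map_sub, hP, map_sub, map_smul, map_smul, w3, w4, smul_zero, smul_zero, sub_zero, sub_zero]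
        exact hy₀
      refine ⟨y + (-(B y (J y)) / (2 * B e (J y))) • e, ?_, by simp [r1, ea], by simp [r2, ea'], ?_⟩
      · simp only [map_add, map_smul, LinearMap.add_apply, LinearMap.smul_apply, smul_eq_mul, hU.self_comm e y, he]
        have := hU.two
        field_simp
        ring
      · simp only [map_add, map_smul, he, smul_zero, add_zero]
        exact hey
    by_cases hbN : B b' (J b') = 0
    · obtain ⟨f, hf, fa, fa', hne⟩ := other b' hb'0 hbN q1 q2
      exact ⟨f, hf, fa, fa', fun h => hne ((hbb f fa fa').symm.trans h.2)⟩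
    let L : V →ₗ[F] (Fin 2 → F) := LinearMap.pi fun i => B (![a, J a] i)
    have hker : 3 ≤ finrank F (LinearMap.ker L) := by
      have h1 := LinearMap.finrank_range_add_finrank_ker L
      have h2 := Submodule.finrank_le (LinearMap.range L)
      rw [Module.finrank_fin_fun] at h2
      have := hU.dim
      omega
    obtain ⟨e, he0, hesing⟩ := Quad.exists_singular (Q.comp (LinearMap.ker L).subtype) hker
    have he : B (e : V) (J e) = 0 := (hQ _).symm.trans hesing
    have ea : B a e = 0 := congrFun (LinearMap.mem_ker.1 e.2) 0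
    have ea' : B (J a) e = 0 := congrFun (LinearMap.mem_ker.1 e.2) 1
    by_cases heb : B b (J (e : V)) = 0
    swap
    · exact ⟨e, he, ea, ea', fun h => heb h.2⟩
    obtain ⟨f, hf, fa, fa', hef⟩ := other e (fun h => he0 (Subtype.ext h)) he ea ea'
    by_cases hfb : B b (J f) = 0
    swap
    · exact ⟨f, hf, fa, fa', fun h => hfb h.2⟩
    rw [hbb _ ea ea'] at heb
    rw [hbb _ fa fa'] at hfb
    set r := -(B b' (J b')) / (2 * B (e : V) (J f)) with hr
    have he' : B (e : V) (J b') = 0 := (hU.self_comm b' e).trans heb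
    have hf' : B f (J b') = 0 := (hU.self_comm b' f).trans hfb
    have hB1 : B a ((e : V) + b' + r • f) = 0 := by simp [ea, q1, fa]
    have hB2 : B (J a) ((e : V) + b' + r • f) = 0 := by simp [ea', q2, fa']
    refine ⟨(e : V) + b' + r • f, ?_, hB1, hB2, fun h => hbN ?_⟩
    · simp only [map_add, map_smul, LinearMap.add_apply, LinearMap.smul_apply, smul_eq_mul, he, hf, heb, hfb, he', hf',
        hU.self_comm (e : V) f, hr]
      have := hU.two
      field_simp
      ring
    · have h2 := h.2
      rw [hbb _ hB1 hB2] at h2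
      simpa [heb, hfb] using h2
  -- normalise
  set m := B b d₁
  set n := B b (J d₁)
  have hden : n * n - ε * (m * m) ≠ 0 := fun h0 => by
    rcases eq_or_ne m 0 with hm | hm
    · exact hd₁b ⟨hm, mul_self_eq_zero.1 (by rw [hm] at h0; linear_combination h0)⟩
    · exact hU.nsq (n / m) (by field_simp; linear_combination h0)
  set d := (n / (n * n - ε * (m * m))) • d₁ + (-m / (n * n - ε * (m * m))) • J d₁ with hdd
  have hdN : B d (J d) = 0 := by rw [hdd, hU.scal_norm, hd₁, mul_zero]
  have had : B a d = 0 := by simp [hdd, hd₁a, hU.adj' a d₁, hd₁a']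
  have hJad : B (J a) d = 0 := by simp [hdd, hd₁a', hU.sim, hd₁a]
  have hbd : B b d = 0 := by
    simp only [hdd, map_add, map_smul, smul_eq_mul]
    field_simp
    ring
  have hbc : B b (J d) = 1 := by
    simp only [hdd, map_add, map_smul, hU.sq, smul_eq_mul]
    rw [div_mul_eq_mul_div, div_mul_eq_mul_div, ← add_div, div_eq_one_iff_eq hden]
    ring
  have hd0 : d ≠ 0 := fun h => by simp [h] at hbc
  set c := J d with hc
  have hda : B d a = 0 := by rw [hU.neg', had, neg_zero]
  have hdb : B d b = 0 := by rw [hU.neg', hbd, neg_zero]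
  have hac : B a c = 0 := by rw [hc, hU.adj', hJad, neg_zero]
  have hca : B c a = 0 := by rw [hU.neg', hac, neg_zero]
  have hcb : B c b = -1 := by rw [hU.neg', hbc]
  have hcd : B c d = 0 := by rw [hU.neg', hdN, neg_zero]
  -- the product of two commuting transvections
  have hz : ∀ s : F, s ≠ 0 → Alt.tv hU.alt a s * Alt.tv hU.alt d (-(ε * ε / s)) ∈ H := by
    intro s hs
    set μ := -s / ε with hμd
    have hμ : μ ≠ 0 := div_ne_zero (neg_ne_zero.2 hs) hε
    set x := Alt.tv hU.alt a s * Alt.tv hU.alt b μ with hxd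
    set y := Alt.tv hU.alt d (ε * ε / s) * Alt.tv hU.alt c μ⁻¹ with hyd
    have hxH : x ∈ H := hx s
    have hyH : y ∈ H := by
      have := hbase d hdN (ε * ε / s)
      rwa [show -(ε * ε / s) / ε = μ⁻¹ by rw [hμd]; field_simp] at this
    have hxi : x ∈ Alt.isoGroup B := mul_mem (Alt.tv_mem_isoGroup _ _ _) (Alt.tv_mem_isoGroup _ _ _)
    have hyi : y ∈ Alt.isoGroup B := mul_mem (Alt.tv_mem_isoGroup _ _ _) (Alt.tv_mem_isoGroup _ _ _)
    have hw : x * y * x ∈ Alt.isoGroup B := mul_mem (mul_mem hxi hyi) hxi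
    have e1 : (x * y * x) a = a := by
      simp [hxd, hyd, Alt.tv_apply, hU.alt a, hab, had, hac]
    have e2 : (x * y * x) b = μ⁻¹ • c := by
      simp [hxd, hyd, Alt.tv_apply, hU.alt b, hba, hbd, hbc, hca, hcb, hcd, hdb, hda]
      field_simp
      simp
    have h1 := mul_mem (mul_mem (mul_mem (mul_mem hxH hyH) hxH) hxH) (inv_mem (mul_mem (mul_mem hxH hyH) hxH))
    rw [show (x * y * x) * x * (x * y * x)⁻¹ =
      ((x * y * x) * Alt.tv hU.alt a s * (x * y * x)⁻¹) * ((x * y * x) * Alt.tv hU.alt b μ * (x * y * x)⁻¹) by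
        rw [hxd]; group, Alt.conj_tv hU.alt hw, Alt.conj_tv hU.alt hw, e1, e2, Alt.tv_smul] at h1
    have h2 := mul_mem h1 (inv_mem hyH)
    convert h2 using 1
    rw [eq_mul_inv_iff_mul_eq, hyd, show μ⁻¹ ^ 2 * μ = μ⁻¹ by field_simp]
    refine LinearEquiv.ext fun z => ?_
    simp only [LinearEquiv.mul_apply, Alt.tv_apply, map_add, map_smul, LinearMap.add_apply, LinearMap.smul_apply, smul_eq_mul,
      hU.alt d, hcd, hda, hca]
    match_scalars <;> field_simp <;> ring
  -- conjugate by unitary maps fixing `a` and scaling the orthogonal of its line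
  have hscal : ∀ p q : F, p * p - ε * (q * q) = 1 → ∀ t : F, t ≠ 0 →
      Alt.tv hU.alt (p • d + q • c) t * Alt.tv hU.alt d (-t) ∈ H := by
    intro p q hpq t ht
    let φ : V →ₗ[F] V := p • (LinearMap.id - P) + q • (J ∘ₗ (LinearMap.id - P)) + P
    have hφ : ∀ x, φ x = p • (x - P x) + q • J (x - P x) + P x := fun x => rfl
    have hφiso : ∀ x y, B (φ x) (φ y) = B x y := fun x y => by
      have k : ∀ w z, B a z = 0 → B (J a) z = 0 → B (P w) z = 0 ∧ B z (P w) = 0 := fun w z k1 k2 => by
        have k' : B (P w) z = 0 := by simp [hP, k1, k2]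
        exact ⟨k', by rw [hU.neg', k', neg_zero]⟩
      obtain ⟨x1, x2⟩ := hPperp x
      obtain ⟨y1, y2⟩ := hPperp y
      have x3 : B a (J (x - P x)) = 0 := by rw [hU.adj', x2, neg_zero]
      have x4 : B (J a) (J (x - P x)) = 0 := by rw [hU.sim, x1, mul_zero]
      have y3 : B a (J (y - P y)) = 0 := by rw [hU.adj', y2, neg_zero]
      have y4 : B (J a) (J (y - P y)) = 0 := by rw [hU.sim, y1, mul_zero]
      have hx1 := k y _ x1 x2
      have hx2 := k y _ x3 x4
      have hy1 := k x _ y1 y2
      have hy2 := k x _ y3 y4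
      have e := hU.scal_iso p q (x - P x) (y - P y)
      rw [hpq, one_mul] at e
      rw [hφ, hφ]
      conv_rhs => rw [show x = (x - P x) + P x by abel, show y = (y - P y) + P y by abel]
      set x' := x - P x
      set y' := y - P y
      rw [map_add B, LinearMap.add_apply, map_add (B (p • x' + q • J x')), map_add (B (P x)) _ (P y), e,
        map_add B x', LinearMap.add_apply, map_add (B x'), map_add (B (P x)) y']
      simp [hx1.2, hx2.2, hy1.1, hy2.1]
    have hinj : Function.Injective φ := LinearMap.ker_eq_bot.1 (LinearMap.ker_eq_bot'.2 fun x hx => hU.nd.1 x fun y => by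
      rw [← hφiso, hx, map_zero, LinearMap.zero_apply])
    set f := LinearEquiv.ofInjectiveEndo φ hinj
    have hfi : f ∈ Alt.isoGroup B := fun x y => hφiso x y
    have hfH : f ∈ H := hnorm f hfi fun v => by
      show φ (J v) = J (φ v)
      rw [hφ, hφ, hPJ, ← map_sub]
      simp only [map_add, map_smul]
    have fa : f a = a := by
      show φ a = a
      have : P a = a := by rw [hP, hU.alt a, ← hNd, div_self haN, zero_div, one_smul, zero_smul, sub_zero]
      rw [hφ, this, sub_self, map_zero, smul_zero, smul_zero, zero_add, zero_add]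
    have fd : f d = p • d + q • c := by
      show φ d = _
      have : P d = 0 := by
        rw [hP, hda, hU.neg' (J a) d, hJad, neg_zero, zero_div, zero_smul, zero_smul, sub_zero]
      rw [hφ, this, sub_zero, add_zero]
    have hs : -(ε * ε / t) ≠ 0 := neg_ne_zero.2 (div_ne_zero (mul_ne_zero hε hε) ht)
    have h1 := hz _ hs
    rw [show -(ε * ε / -(ε * ε / t)) = t by field_simp] at h1
    have h2 := mul_mem (mul_mem hfH h1) (inv_mem hfH)
    rw [show f * (Alt.tv hU.alt a (-(ε * ε / t)) * Alt.tv hU.alt d t) * f⁻¹ =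
      (f * Alt.tv hU.alt a (-(ε * ε / t)) * f⁻¹) * (f * Alt.tv hU.alt d t * f⁻¹) by group,
      Alt.conj_tv hU.alt hfi, Alt.conj_tv hU.alt hfi, fa, fd] at h2
    have h3 := mul_mem (inv_mem h1) h2
    rw [mul_inv_rev, mul_assoc, inv_mul_cancel_left, Alt.tv_inv] at h3
    convert h3 using 1
    refine LinearEquiv.ext fun z => ?_
    have k1 : B (p • d + q • c) d = 0 := by simp [hU.alt d, hcd]
    have k2 : B d (p • d + q • c) = 0 := by rw [hU.neg', k1, neg_zero]
    simp only [LinearEquiv.mul_apply, Alt.tv_apply, map_add, map_smul, LinearMap.add_apply, LinearMap.smul_apply,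
      smul_eq_mul, hU.alt d, hcd, hdN, mul_zero, zero_smul, add_zero]
    module
  refine ⟨d, hd0, hdN, fun k => ?_⟩
  rcases eq_or_ne k 0 with rfl | hk
  · rw [Alt.tv_zero]; exact one_mem H
  have h1ε : (1 : F) - ε ≠ 0 := fun h => hU.nsq 1 (by linear_combination h)
  set p := (1 + ε) / (1 - ε) with hp
  set q := 2 / (1 - ε) with hq
  have hq0 : q ≠ 0 := div_ne_zero hU.two h1ε
  have hpq : p * p - ε * (q * q) = 1 := by rw [hp, hq]; field_simp; ring
  have hpq' : p * p - ε * (-q * -q) = 1 := by rw [neg_mul_neg]; exact hpq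
  set t := k / (4 * ε * (q * q)) with ht_def
  have h4 : (4 : F) ≠ 0 := by rw [show (4 : F) = 2 * 2 by norm_num]; exact mul_ne_zero hU.two hU.two
  have hden' : 4 * ε * (q * q) ≠ 0 := mul_ne_zero (mul_ne_zero h4 hε) (mul_ne_zero hq0 hq0)
  have ht : t ≠ 0 := div_ne_zero hk hden'
  have hk' : k = 4 * ε * (q * q) * t := by rw [ht_def]; field_simp
  have m1 := hscal p q hpq t ht
  have m2 := hscal p (-q) hpq' t ht
  have m3 := hbase d hdN (2 * ε * (q * q) * t)
  rw [← hc, show -(2 * ε * (q * q) * t) / ε = -(2 * (q * q) * t) by field_simp] at m3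
  have hdc : B d c = 0 := hdN
  have h3 := mul_mem (mul_mem m1 m2) m3
  clear_value c d t p q
  convert h3 using 1
  rw [hk']
  refine LinearEquiv.ext fun z => ?_
  simp only [LinearEquiv.mul_apply, Alt.tv_apply, map_add, map_smul, map_neg, LinearMap.add_apply, LinearMap.smul_apply,
    LinearMap.neg_apply, smul_eq_mul, hU.alt d, hU.alt c, hdc, hcd, mul_zero, zero_mul, add_zero, zero_add, zero_smul]
  match_scalars
  · ring
  · linear_combination -(2 * t * B z d) * hpq
  · ring

/-- one centre gives all of them -/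
theorem all_centres_gen (hbase : ∀ u, B u (J u) = 0 → ∀ s : F, Alt.tv hU.alt u s * Alt.tv hU.alt (J u) (-s / ε) ∈ H)
    {e : V} (he0 : e ≠ 0) (he : B e (J e) = 0) (hc : e ∈ centres hU.alt H) : ∀ v, v ∈ centres hU.alt H := by
  have hε := hU.eps_ne
  have step : ∀ {e z : V}, e ∈ centres hU.alt H → B e (J e) = 0 → B z (J z) = 0 → B e (J z) = 0 → B e z ≠ 0 →
      z ∈ centres hU.alt H := by
    intro e z hec he hz hJ hez
    have h1 := map_mem_centres hec (hbase z hz (B e z)⁻¹) (mul_mem (Alt.tv_mem_isoGroup _ _ _) (Alt.tv_mem_isoGroup _ _ _))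
    have e1 : (Alt.tv hU.alt z (B e z)⁻¹ * Alt.tv hU.alt (J z) (-(B e z)⁻¹ / ε)) e = e + z := by
      simp [Alt.tv_apply, hJ, hez]
    rw [e1] at h1
    have h2 := add_smul_mem_centres h1 hec (by
      simp only [map_add, LinearMap.add_apply, hU.alt e, zero_add]
      rw [hU.neg']
      exact neg_ne_zero.2 hez) (-1)
    rwa [neg_one_smul, add_neg_cancel_comm] at h2
  -- two steps to a non-orthogonal isotropic line
  have hop : ∀ {w y : V}, w ∈ centres hU.alt H → B w (J w) = 0 → B y (J y) = 0 →
      (B w y ≠ 0 ∨ B w (J y) ≠ 0) → y ∈ centres hU.alt H := by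
    intro w y hwS hw hy hwy
    have hy0 : y ≠ 0 := by rintro rfl; simp at hwy
    obtain ⟨a, b, hy', hwy', hwy''⟩ := hU.phase_gen hy hwy
    have hyw : B y w ≠ 0 ∨ B y (J w) ≠ 0 := by
      rcases hwy with h | h
      · exact Or.inl (by rwa [hU.neg', neg_ne_zero])
      · exact Or.inr (by rwa [hU.self_comm])
    obtain ⟨a', b', hw', hyw', hyw''⟩ := hU.phase_gen hw hyw
    set y₁ := a • y + b • J y with hy₁
    set w₁ := a' • w + b' • J w with hw₁
    obtain ⟨n, hn, n1, n2, n3, n4⟩ := hU.fill_gen hw hwy (-(B (w₁ + y₁) (J (w₁ + y₁))))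
    have f1 : B w (J n) = 0 := by rw [hU.adj', n2, neg_zero]
    have f2 : B y (J n) = 0 := by rw [hU.adj', n4, neg_zero]
    have f3 : B (J w) (J n) = 0 := by rw [hU.sim, n1, mul_zero]
    have f4 : B (J y) (J n) = 0 := by rw [hU.sim, n3, mul_zero]
    set x := w₁ + y₁
    have hxn : B x (J n) = 0 := by simp [x, hy₁, hw₁, f1, f2, f3, f4]
    set z := x + n
    have hz : B z (J z) = 0 := by
      simp only [z, map_add, LinearMap.add_apply, hn, hxn, (hU.self_comm x n).trans hxn, add_zero, zero_add]
      ring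
    have i1 : B w (J w₁) = 0 := by simp [hw₁, hw, hU.sq, hU.alt w]
    have i2 : B w w₁ = 0 := by simp [hw₁, hw, hU.alt w]
    have i3 : B y (J y₁) = 0 := by simp [hy₁, hy, hU.sq, hU.alt y]
    have i4 : B y y₁ = 0 := by simp [hy₁, hy, hU.alt y]
    have hzS : z ∈ centres hU.alt H := step hwS hw hz (by simp [z, x, i1, hwy', f1]) (by simpa [z, x, i2, n1] using hwy'')
    refine step hzS hz hy ?_ ?_
    · rw [hU.self_comm]
      simp [z, x, i3, hyw', f2]
    · rw [hU.neg', neg_ne_zero]
      simpa [z, x, i4, n3] using hyw''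
  have hiso : ∀ y, B y (J y) = 0 → y ∈ centres hU.alt H := by
    intro y hy
    rcases eq_or_ne y 0 with rfl | hy0
    · exact zero_mem_centres
    obtain ⟨z, hz, h1, h2⟩ := hU.common_partner he0 he hy0 hy
    refine hop (hop hc he hz h1) hz hy ?_
    rcases h2 with h | h
    · exact Or.inl (by rwa [hU.neg', neg_ne_zero])
    · exact Or.inr (by rwa [hU.self_comm])
  intro v
  rcases eq_or_ne v 0 with rfl | hv0
  · exact zero_mem_centres
  obtain ⟨c, hc', hcp, hvc⟩ := hU.isep ![J v + v] (by have := hU.dim; omega) (x := v) (fun hm => by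
    obtain ⟨c, e'⟩ := (Submodule.mem_span_range_iff_exists_fun _).1 hm
    simp only [Fin.sum_univ_one, Matrix.cons_val_fin_one] at e'
    obtain ⟨h1, h2⟩ := hU.kl_indep hv0 (a := c 0 - 1) (b := c 0) (by linear_combination (norm := module) e')
    rw [h2, zero_sub, neg_eq_zero] at h1
    exact one_ne_zero h1)
  have hvJ : B v (J c) = 1 := by
    have h1 : B (J v + v) c = 0 := hcp 0
    rw [map_add, LinearMap.add_apply, hvc] at h1
    rw [hU.adj']
    linear_combination -h1
  set t := -(B v (J v)) / 2 with ht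
  have hv' : v + t • c ∈ centres hU.alt H := hiso _ (by
    simp only [map_add, map_smul, LinearMap.add_apply, LinearMap.smul_apply, hc', hvJ, hU.self_comm v c, smul_eq_mul, ht]
    field_simp [hU.two]
    ring)
  have h1 := add_smul_mem_centres hv' (hiso c hc') (by
    simp only [map_add, map_smul, LinearMap.add_apply, LinearMap.smul_apply, hU.alt c, smul_zero, add_zero, hvc]
    exact one_ne_zero) (-t)
  rwa [neg_smul, add_neg_cancel_right] at h1

end USp

end Cfsg.Agent.ClassicalMax.UnitSp
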