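import Cfsg.Agent.ClassicalMax.UnitSp

/-!
Overgroups of the unitary group over the quadratic extension in the symplectic group of dimension six (and odd
characteristic): here isotropic lines over the extension are pairwise non-orthogonal, and a transvection is obtained by
conjugating the product of the two commuting transvections by a unitary map scaling one line.
-/

set_option autoImplicit false
set_option linter.unusedSectionVars false
set_option linter.style.haveILetI false

namespace Cfsg.Agent.ClassicalMax.UnitSp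

open Module Cfsg.Agent.Classical

variable {F V : Type*} [Field F] [Finite F] [AddCommGroup V] [Module F V] [FiniteDimensional F V]
  {B : LinearMap.BilinForm F V} {J : V →ₗ[F] V} {ε : F}

namespace USp

variable (hU : USp B J ε)

include hU

/-- the norm of the quadratic extension is onto -/
theorem exists_norm_eq (t : F) : ∃ a b : F, a * a - ε * (b * b) = t := by
  haveI : Fintype F := Fintype.ofFinite F
  have hodd : Fintype.card F % 2 = 1 := FiniteField.odd_card_of_char_ne_two fun h => hU.two (by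
    have := CharP.cast_eq_zero F (ringChar F)
    rwa [h, Nat.cast_ofNat] at this)
  obtain ⟨a, b, h⟩ := FiniteField.exists_root_sum_quadratic (f := (Polynomial.X ^ 2 : Polynomial F))
    (g := Polynomial.C (-ε) * Polynomial.X ^ 2 + Polynomial.C 0 * Polynomial.X + Polynomial.C (-t)) (Polynomial.degree_X_pow 2)
    (Polynomial.degree_quadratic (neg_ne_zero.2 hU.eps_ne)) hodd
  simp only [Polynomial.eval_pow, Polynomial.eval_X, Polynomial.eval_add, Polynomial.eval_mul, Polynomial.eval_C] at h
  exact ⟨a, b, by linear_combination h⟩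

theorem scal_iso (a b : F) (x y : V) : B (a • x + b • J x) (a • y + b • J y) =
    (a * a - ε * (b * b)) * B x y := by
  simp only [map_add, map_smul, LinearMap.add_apply, LinearMap.smul_apply, smul_eq_mul, hU.sim, hU.adj x y]
  ring

theorem scal_norm (a b : F) (x : V) : B (a • x + b • J x) (J (a • x + b • J x)) = (a * a - ε * (b * b)) * B x (J x) := by
  simp only [map_add, map_smul, hU.sq, LinearMap.add_apply, LinearMap.smul_apply, smul_eq_mul, hU.alt x,
    hU.alt (J x), hU.neg' x (J x)]
  ring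

theorem mem_kl_of_mem {x y : V} (hx0 : x ≠ 0) (h : x ∈ kl J y) : y ∈ kl J x := by
  obtain ⟨a, b, e⟩ := Submodule.mem_span_pair.1 h
  refine hU.mem_of_comb (kl J x) (fun w hw => hU.kl_closed hw) (a := a) (b := b) ?_ ?_
  · rw [e]; exact Submodule.subset_span (Or.inl rfl)
  · by_contra! h'
    exact hx0 (by rw [← e, h'.1, h'.2, zero_smul, zero_smul, add_zero])

variable (hd : finrank F V < 8)

include hd

/-- orthogonal isotropic vectors lie on one line -/
theorem no_plane {x n : V} (hx0 : x ≠ 0) (hx : B x (J x) = 0) (hn : B n (J n) = 0) (h1 : B x n = 0) (h2 : B (J x) n = 0) :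
    n ∈ kl J x := by
  by_contra hnot
  set p : Fin 4 → V := ![x, J x, n, J n] with hp
  have hli : LinearIndependent F p := by
    rw [Fintype.linearIndependent_iff]
    intro c hc
    rw [Fin.sum_univ_four] at hc
    have hc' : c 0 • x + c 1 • J x + c 2 • n + c 3 • J n = 0 := hc
    by_cases h : c 2 = 0 ∧ c 3 = 0
    · rw [h.1, h.2, zero_smul, zero_smul, add_zero, add_zero] at hc'
      obtain ⟨a, b⟩ := hU.kl_indep hx0 hc'
      intro i
      fin_cases i <;> simp [a, b, h.1, h.2]
    · exact absurd (hU.mem_of_comb (kl J x) (fun w hw => hU.kl_closed hw) (a := c 2) (b := c 3)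
        (Submodule.mem_span_pair.2 ⟨-c 0, -c 1, by linear_combination (norm := module) -hc'⟩) (by tauto)) hnot
  have hpair : ∀ i j, B (p i) (p j) = 0 := by
    have a1 : B (J x) x = 0 := by rw [hU.neg', hx, neg_zero]
    have a2 : B (J n) n = 0 := by rw [hU.neg', hn, neg_zero]
    have a3 : B n x = 0 := by rw [hU.neg', h1, neg_zero]
    have a4 : B n (J x) = 0 := by rw [hU.neg', h2, neg_zero]
    have a5 : B x (J n) = 0 := by rw [hU.adj', h2, neg_zero]
    have a6 : B (J n) x = 0 := by rw [hU.neg', a5, neg_zero]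
    intro i j
    fin_cases i <;> fin_cases j <;> simp [hp, hU.alt x, hU.alt n, hx, hn, h1, h2, a1, a2, a3, a4, a5, a6, hU.sim]
  have hle : Submodule.span F (Set.range p) ≤ B.orthogonal (Submodule.span F (Set.range p)) := by
    rw [Submodule.span_le]
    rintro _ ⟨j, rfl⟩ w hw
    induction hw using Submodule.span_induction with
    | mem w hw => obtain ⟨i, rfl⟩ := hw; exact hpair i j
    | zero => simp
    | add a b _ _ iha ihb =>
      show B (a + b) (p j) = 0
      rw [map_add, LinearMap.add_apply, show B a (p j) = 0 from iha, show B b (p j) = 0 from ihb, add_zero]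
    | smul c a _ iha =>
      show B (c • a) (p j) = 0
      rw [map_smul, LinearMap.smul_apply, show B a (p j) = 0 from iha, smul_zero]
  have h3 := Submodule.finrank_mono hle
  rw [LinearMap.BilinForm.finrank_orthogonal hU.nd, finrank_span_eq_card hli, Fintype.card_fin] at h3
  omega

/-- the multiple of an isotropic vector in the phase of another one -/
theorem phase {x y : V} (hx0 : x ≠ 0) (hx : B x (J x) = 0) (hy : B y (J y) = 0) (hyx : y ∉ kl J x) :
    ∃ a b : F, B (a • y + b • J y) (J (a • y + b • J y)) = 0 ∧ B x (J (a • y + b • J y)) = 0 ∧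
      B x (a • y + b • J y) ≠ 0 ∧ a • y + b • J y ∉ kl J x := by
  set m := B x y
  set n := B x (J y)
  have hval : B x ((ε * m) • y + (-n) • J y) = ε * (m * m) - n * n := by
    rw [map_add, map_smul, map_smul, smul_eq_mul, smul_eq_mul]; ring
  have hne : ε * (m * m) - n * n ≠ 0 := fun h0 => by
    rcases eq_or_ne m 0 with hm | hm
    · have hn0 : n = 0 := mul_self_eq_zero.1 (by rw [hm] at h0; linear_combination -h0)
      exact hyx (hU.no_plane hd hx0 hx hy hm (by rw [hU.adj, neg_eq_zero]; exact hn0))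
    · exact hU.nsq (n / m) (by field_simp; linear_combination -h0)
  refine ⟨ε * m, -n, by rw [hU.scal_norm, hy, mul_zero], ?_, hval ▸ hne, fun h => hne ?_⟩
  · rw [map_add, map_smul, map_smul, hU.sq, map_add, map_smul, map_smul, map_smul, smul_eq_mul, smul_eq_mul, smul_eq_mul]
    ring
  · obtain ⟨s, t, e⟩ := Submodule.mem_span_pair.1 h
    rw [← hval, ← e, map_add, map_smul, map_smul, hU.alt x, hx]
    simp

/-- a vector of given norm orthogonal to two isotropic lines -/
theorem fill {x y : V} (hx0 : x ≠ 0) (hx : B x (J x) = 0) (hy0 : y ≠ 0) (hy : B y (J y) = 0) (hyx : y ∉ kl J x) (t : F) :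
    ∃ n, B n (J n) = t ∧ B x n = 0 ∧ B (J x) n = 0 ∧ B y n = 0 ∧ B (J y) n = 0 := by
  let L : V →ₗ[F] (Fin 4 → F) := LinearMap.pi fun i => B (![x, J x, y, J y] i)
  obtain ⟨n₀, hn, hn0⟩ := (LinearMap.ker L).exists_mem_ne_zero_of_ne_bot fun h => by
    have h1 := LinearMap.finrank_range_add_finrank_ker L
    have h2 := Submodule.finrank_le (LinearMap.range L)
    rw [Module.finrank_fin_fun] at h2
    rw [h, finrank_bot] at h1
    have := hU.dim
    omega
  have e := fun i => congrFun (LinearMap.mem_ker.1 hn) i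
  have e0 : B x n₀ = 0 := e 0
  have e1 : B (J x) n₀ = 0 := e 1
  have e2 : B y n₀ = 0 := e 2
  have e3 : B (J y) n₀ = 0 := e 3
  have hN : B n₀ (J n₀) ≠ 0 := fun h => by
    have hx' := hU.no_plane hd hx0 hx h e0 e1
    have hy' := hU.no_plane hd hy0 hy h e2 e3
    obtain ⟨a, b, hab⟩ := Submodule.mem_span_pair.1 hy'
    refine hyx (hU.mem_of_comb (kl J x) (fun w hw => hU.kl_closed hw) (a := a) (b := b) (hab ▸ hx') ?_)
    by_contra! h'
    exact hn0 (by rw [← hab, h'.1, h'.2, zero_smul, zero_smul, add_zero])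
  obtain ⟨a, b, hab⟩ := hU.exists_norm_eq (t / B n₀ (J n₀))
  refine ⟨a • n₀ + b • J n₀, by rw [hU.scal_norm, hab, div_mul_cancel₀ _ hN], ?_⟩
  have f1 : B x (J n₀) = 0 := by rw [hU.adj', e1, neg_zero]
  have f3 : B y (J n₀) = 0 := by rw [hU.adj', e3, neg_zero]
  simp [e0, e1, e2, e3, f1, f3, hU.sim]

/-- in dimension six an element outside the normaliser moves some isotropic line -/
theorem exists_moved_six (g : V ≃ₗ[F] V) (hout : ¬ ∃ α β : F, ∀ v, g (J v) = α • g v + β • J (g v)) :
    ∃ u, B u (J u) = 0 ∧ g (J u) ∉ kl J (g u) := by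
  by_contra! hc
  refine hout ?_
  have hg0 : ∀ {x : V}, x ≠ 0 → g x ≠ 0 := fun hx h => hx (g.map_eq_zero_iff.1 h)
  have himg : ∀ x : V, x ≠ 0 → B x (J x) = 0 → ∀ y, y ∉ kl J x → g y ∉ kl J (g x) := by
    intro x hx0 hx y hy hm
    obtain ⟨a, b, e⟩ := Submodule.mem_span_pair.1 (hc x hx)
    obtain ⟨c, d, e'⟩ := Submodule.mem_span_pair.1 hm
    have hb : b ≠ 0 := fun h0 => by
      rw [h0, zero_smul, add_zero, ← map_smul] at e
      exact one_ne_zero (hU.kl_indep hx0 (a := -a) (b := 1) (by rw [← g.injective e]; module)).2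
    refine hy (Submodule.mem_span_pair.2 ⟨c - d * (a / b), d / b, g.injective ?_⟩)
    rw [map_add, map_smul, map_smul, ← e, ← e']
    match_scalars <;> field_simp <;> ring
  obtain ⟨u, hu0, hu, -⟩ := hU.iperp (![] : Fin 0 → V) (by have := hU.dim; omega)
  obtain ⟨α, β, hαβ⟩ := Submodule.mem_span_pair.1 (hc u hu)
  refine ⟨α, β, ?_⟩
  let L : V →ₗ[F] V := g.toLinearMap ∘ₗ J - α • g.toLinearMap - β • (J ∘ₗ g.toLinearMap)
  have hLv : ∀ v, L v = g (J v) - α • g v - β • J (g v) := fun v => rfl
  have key : ∀ {x y : V}, L x = 0 → x ≠ 0 → B x (J x) = 0 → B y (J y) = 0 → B x (J y) = 0 → y ∉ kl J x → L y = 0 := by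
    intro x y hLx hx0 hx hy hxy hyx
    rw [hLv, sub_sub, sub_eq_zero] at hLx
    obtain ⟨a', b', e'⟩ := Submodule.mem_span_pair.1 (hc y hy)
    obtain ⟨a'', b'', e''⟩ := Submodule.mem_span_pair.1 (hc (x + y) (by
      simp only [map_add, LinearMap.add_apply, hx, hy, hxy, hU.self_comm x y, add_zero]))
    simp only [map_add] at e''
    rw [hLx, ← e'] at e''
    have h1 : (a'' - a') • g y + (b'' - b') • J (g y) ∈ kl J (g x) :=
      Submodule.mem_span_pair.2 ⟨α - a'', β - b'', by linear_combination (norm := module) -e''⟩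
    have hab : a'' = a' ∧ b'' = b' := by
      by_contra hne
      refine himg x hx0 hx y hyx (hU.mem_of_comb (kl J (g x)) (fun w hw => hU.kl_closed hw) h1 ?_)
      by_contra! h2
      exact hne ⟨sub_eq_zero.1 h2.1, sub_eq_zero.1 h2.2⟩
    rw [hab.1, hab.2] at e''
    have h2 : (a' - α) • g x + (b' - β) • J (g x) = 0 := by linear_combination (norm := module) e''
    obtain ⟨h3, h4⟩ := hU.kl_indep (hg0 hx0) h2
    rw [hLv, ← e', sub_eq_zero.1 h3, sub_eq_zero.1 h4]
    module
  have hne0 : ∀ {x y : V}, y ∉ kl J x → y ≠ 0 := fun hy h => hy (h ▸ zero_mem _)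
  have hLu : L u = 0 := by rw [hLv, ← hαβ]; module
  -- two further killed vectors
  have hJu : J u ∉ Submodule.span F (Set.range ![u]) := fun hm => by
    obtain ⟨c, e⟩ := (Submodule.mem_span_range_iff_exists_fun _).1 hm
    simp only [Fin.sum_univ_one, Matrix.cons_val_fin_one] at e
    exact one_ne_zero (hU.kl_indep hu0 (a := -c 0) (b := 1) (by rw [← e]; module)).2
  obtain ⟨c₀, hc₀, hup, hJc⟩ := hU.isep ![u] (by have := hU.dim; omega) hJu
  have hc₀u : c₀ ∉ kl J u := fun h => by
    obtain ⟨a, b, e⟩ := Submodule.mem_span_pair.1 h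
    have hJu' : B (J u) u = 0 := by rw [hU.neg', hu, neg_zero]
    rw [← e] at hJc
    simp [hU.alt u, hU.alt (J u), hJu'] at hJc
  obtain ⟨a₁, b₁, hy, hyJ, hyB, hyu⟩ := hU.phase hd hu0 hu hc₀ hc₀u
  set y := a₁ • c₀ + b₁ • J c₀
  have hLy : L y = 0 := key hLu hu0 hu hy hyJ hyu
  have hy0 := hne0 hyu
  obtain ⟨n, hn, n1, n2, n3, n4⟩ := hU.fill hd hu0 hu hy0 hy hyu (2 * ε * B u y)
  set z := J u + y + n with hz_def
  have f1 : B u (J n) = 0 := by rw [hU.adj', n2, neg_zero]
  have f2 : B y (J n) = 0 := by rw [hU.adj', n4, neg_zero]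
  have f3 : B y u = -B u y := hU.neg' _ _
  have f4 : B y (J u) = 0 := (hU.self_comm u y).trans hyJ
  have hzz : B z (J z) = 0 := by
    have g1 : B n y = 0 := by rw [hU.neg', n3, neg_zero]
    have g2 : B n u = 0 := by rw [hU.neg', n1, neg_zero]
    have g3 : B n (J y) = 0 := by rw [hU.neg', n4, neg_zero]
    simp [hz_def, hU.sq, hu, hy, hn, f1, f2, f3, f4, g1, g2, g3, hU.sim, n1, hU.alt u, hU.neg' u (J u)]
    ring
  have hzu : B u z = B u y := by simp [hz_def, hu, n1]
  have hzuJ : B u (J z) = 0 := by simp [hz_def, hU.sq, hU.alt u, hyJ, f1]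
  have hzy : B y z = 0 := by simp [hz_def, f4, hU.alt y, n3]
  have hzyJ : B y (J z) = -(ε * B u y) := by simp [hz_def, hU.sq, hy, f2, f3]
  have hzk : z ∉ kl J u := fun h => hyB (by
    obtain ⟨a, b, e⟩ := Submodule.mem_span_pair.1 h
    rw [← hzu, ← e]
    simp [hU.alt u, hu])
  have hz0 := hne0 hzk
  have hzy' : z ∉ kl J y := fun h => hyB (by
    obtain ⟨a, b, e⟩ := Submodule.mem_span_pair.1 h
    have := hzyJ
    rw [← e] at this
    simp [hU.sq, hy, hU.alt y] at this
    exact this.resolve_left hU.eps_ne)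
  have hLz : L z = 0 := key hLu hu0 hu hzz hzuJ hzk
  have hLJz : L (J z) = 0 := by
    refine key hLy hy0 hy (hU.iso_J hzz) ?_ fun h => hzy' ?_
    · rw [hU.sq, map_smul, hzy, smul_zero]
    · exact hU.mem_of_comb (kl J y) (fun w hw => hU.kl_closed hw) (a := 0) (b := 1) (by simpa using h)
        (Or.inr one_ne_zero)
  have hJz0 : J z ≠ 0 := fun h => hz0 (by
    have := hU.sq z
    rw [h, map_zero] at this
    exact (smul_eq_zero.1 this.symm).resolve_left hU.eps_ne)
  have hsing : ∀ w, B w (J w) = 0 → L w = 0 := by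
    intro w hw
    by_cases hwz : w ∈ kl J z
    · obtain ⟨a, b, rfl⟩ := Submodule.mem_span_pair.1 hwz
      rw [map_add, map_smul, map_smul, hLz, hLJz, smul_zero, smul_zero, add_zero]
    obtain ⟨a, b, hw', hwJ, hwB, hwn⟩ := hU.phase hd hz0 hzz hw hwz
    set w' := a • w + b • J w with hw'_def
    have h1 : L w' = 0 := key hLz hz0 hzz hw' hwJ hwn
    have h2 : L (J w') = 0 := by
      refine key hLJz hJz0 (hU.iso_J hzz) (hU.iso_J hw') ?_ fun h => hwn ?_
      · rw [hU.sim, hwJ, mul_zero]
      · refine hU.mem_of_comb (kl J z) (fun v hv => hU.kl_closed hv) (a := 0) (b := 1) ?_ (Or.inr one_ne_zero)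
        rw [zero_smul, one_smul, zero_add]
        obtain ⟨s, t, e⟩ := Submodule.mem_span_pair.1 h
        rw [← e, hU.sq]
        exact Submodule.mem_span_pair.2 ⟨t * ε, s, by module⟩
    have hwm : w ∈ LinearMap.ker L ⊓ (LinearMap.ker L).comap J := by
      refine hU.mem_of_comb _ (fun v hv => Submodule.mem_inf.2 ⟨hv.2, ?_⟩) (a := a) (b := b) (hw'_def ▸ Submodule.mem_inf.2 ⟨h1, h2⟩) ?_
      · show L (J (J v)) = 0
        rw [hU.sq, map_smul, show L v = 0 from hv.1, smul_zero]
      · by_contra! h'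
        exact hwB (by rw [hw'_def, h'.1, h'.2, zero_smul, zero_smul, add_zero, map_zero])
    exact hwm.1
  intro v
  rcases eq_or_ne v 0 with rfl | hv0
  · simp
  obtain ⟨c, hc', -, hvc⟩ := hU.isep (![] : Fin 0 → V) (by have := hU.dim; omega) (x := J v) (by
    rw [Set.range_eq_empty, Submodule.span_empty, Submodule.mem_bot]
    exact fun h => one_ne_zero (hU.kl_indep (v := v) hv0 (a := 0) (b := 1) (by rw [h]; simp)).2)
  have h1 := hsing (v + (B v (J v) / 2) • c) (by
    have h2 : B v (J c) = -1 := by rw [hU.adj', hvc]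
    have := hU.two
    simp only [map_add, map_smul, LinearMap.add_apply, LinearMap.smul_apply, hc', h2, hU.self_comm v c, smul_eq_mul]
    field_simp
    ring)
  rw [map_add, map_smul, hsing c hc', smul_zero, add_zero, hLv, sub_sub, sub_eq_zero] at h1
  exact h1

variable {H : Subgroup (V ≃ₗ[F] V)}

set_option maxHeartbeats 1000000 in
/-- in dimension six a moved line gives a transvection with isotropic centre -/
theorem exists_centre_six (hnorm : ∀ f ∈ Alt.isoGroup B, (∀ v, f (J v) = J (f v)) → f ∈ H)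
    {g : V ≃ₗ[F] V} (hg : g ∈ H) (hgi : g ∈ Alt.isoGroup B) (hout : ¬ ∃ α β : F, ∀ v, g (J v) = α • g v + β • J (g v)) :
    ∃ e, e ≠ 0 ∧ B e (J e) = 0 ∧ e ∈ centres hU.alt H := by
  have hε := hU.eps_ne
  have hbase : ∀ u, B u (J u) = 0 → ∀ s : F, Alt.tv hU.alt u s * Alt.tv hU.alt (J u) (-s / ε) ∈ H := by
    intro u hu s
    refine hnorm _ (mul_mem (Alt.tv_mem_isoGroup _ _ _) (Alt.tv_mem_isoGroup _ _ _)) fun v => ?_
    have h3 : B (J u) u = 0 := by rw [hU.adj, hu, neg_zero]
    simp only [LinearEquiv.mul_apply, Alt.tv_apply, map_add, map_smul, LinearMap.add_apply, LinearMap.smul_apply, smul_eq_mul,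
      h3, hU.alt u, hU.sq, hU.sim, hU.adj v u]
    match_scalars <;> field_simp <;> ring
  obtain ⟨u₀, hu₀, hun₀⟩ := hU.exists_moved_six hd g hout
  -- arrange that the image is anisotropic
  obtain ⟨u, hu, hun, haN⟩ : ∃ u, B u (J u) = 0 ∧ g (J u) ∉ kl J (g u) ∧ B (g u) (J (g u)) ≠ 0 := by
    set a := g u₀ with ha
    set b := g (J u₀) with hb
    have hu₀0 : u₀ ≠ 0 := fun h => hun₀ (by rw [hb, h]; simp)
    have ha0 : a ≠ 0 := fun h => hu₀0 (g.map_eq_zero_iff.1 h)
    have hb0 : b ≠ 0 := fun h => hun₀ (h ▸ zero_mem _)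
    by_cases haN : B a (J a) = 0
    swap
    · exact ⟨u₀, hu₀, hun₀, haN⟩
    by_cases hbN : B b (J b) = 0
    swap
    · refine ⟨J u₀, hU.iso_J hu₀, fun h => hun₀ ?_, hbN⟩
      rw [hU.sq, map_smul, ← ha, ← hb] at h
      have := (kl J b).smul_mem ε⁻¹ h
      rw [inv_smul_smul₀ hε] at this
      exact hU.mem_kl_of_mem ha0 this
    have hab : B a b = 0 := by rw [ha, hb, hgi u₀ (J u₀), hu₀]
    have hne : B a (J b) ≠ 0 := fun h0 =>
      hun₀ (hU.no_plane hd ha0 haN hbN hab (by rw [hU.adj, h0, neg_zero]))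
    refine ⟨u₀ + J u₀, ?_, fun h => ?_, ?_⟩
    · rw [show u₀ + J u₀ = (1 : F) • u₀ + (1 : F) • J u₀ by module, hU.scal_norm, hu₀, mul_zero]
    · simp only [map_add, map_smul, hU.sq, ← ha, ← hb] at h
      obtain ⟨s, t, e⟩ := Submodule.mem_span_pair.1 h
      rw [map_add] at e
      refine hun₀ (hU.mem_of_comb (kl J a) (fun w hw => hU.kl_closed hw) (a := 1 - s) (b := -t)
        (Submodule.mem_span_pair.2 ⟨s - ε, t, by linear_combination (norm := module) e⟩) ?_)
      by_contra! h'
      have hs : s = 1 := by linear_combination -h'.1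
      rw [hs, neg_eq_zero.1 h'.2] at e
      have h2 : (ε - 1) • a = 0 := by linear_combination (norm := module) -e
      exact hU.nsq 1 (by linear_combination -((smul_eq_zero.1 h2).resolve_right ha0))
    · rw [map_add, ← ha, ← hb]
      simp only [map_add, LinearMap.add_apply, haN, hbN, hU.self_comm a b, zero_add, add_zero, ← two_mul]
      exact mul_ne_zero hU.two hne
  set a := g u with ha
  set b := g (J u) with hb
  set N := B a (J a) with hNd
  have hab : B a b = 0 := by rw [ha, hb, hgi u (J u), hu]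
  have hba : B b a = 0 := by rw [hU.neg', hab, neg_zero]
  have hx : ∀ s, Alt.tv hU.alt a s * Alt.tv hU.alt b (-s / ε) ∈ H := fun s => by
    have := mul_mem (mul_mem hg (hbase u hu s)) (inv_mem hg)
    rw [show g * (Alt.tv hU.alt u s * Alt.tv hU.alt (J u) (-s / ε)) * g⁻¹ =
      (g * Alt.tv hU.alt u s * g⁻¹) * (g * Alt.tv hU.alt (J u) (-s / ε) * g⁻¹) by group,
      Alt.conj_tv hU.alt hgi, Alt.conj_tv hU.alt hgi] at this
    exact this
  -- the projection to the line of `a`
  let P : V →ₗ[F] V := ((B.flip (J a)).smulRight (N⁻¹ • a)) - (B.flip a).smulRight (N⁻¹ • J a)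
  have hP : ∀ x, P x = (B x (J a) / N) • a - (B x a / N) • J a := fun x => by
    simp [P, smul_smul, div_eq_mul_inv]
  have hPJ : ∀ x, P (J x) = J (P x) := fun x => by
    simp only [hP, map_sub, map_smul, hU.sq, hU.sim, hU.adj x a]
    match_scalars <;> field_simp
  have hPperp : ∀ x, B a (x - P x) = 0 ∧ B (J a) (x - P x) = 0 := fun x => by
    constructor
    · simp only [hP, map_sub, map_smul, hU.alt a, smul_eq_mul, ← hNd, hU.neg' a x]
      field_simp
      ring
    · simp only [hP, map_sub, map_smul, hU.alt (J a), smul_eq_mul, hU.neg' a (J a), ← hNd, hU.neg' (J a) x]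
      field_simp
      ring
  obtain ⟨Q, hQ, hQp, -⟩ := hU.exists_norm
  -- an isotropic vector of the orthogonal of the line, not orthogonal to `b`
  obtain ⟨d₁, hd₁, hd₁a, hd₁a', hd₁b⟩ : ∃ d, B d (J d) = 0 ∧ B a d = 0 ∧ B (J a) d = 0 ∧ ¬(B b d = 0 ∧ B b (J d) = 0) := by
    set b' := b - P b with hb'
    obtain ⟨q1, q2⟩ := hPperp b
    replace q1 : B a b' = 0 := q1
    replace q2 : B (J a) b' = 0 := q2
    have hb'0 : b' ≠ 0 := fun h => hun (Submodule.mem_span_pair.2 ⟨B b (J a) / N, -(B b a / N), by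
      rw [neg_smul, ← sub_eq_add_neg, ← hP]; exact (sub_eq_zero.1 h).symm⟩)
    have hbb : ∀ w, B a w = 0 → B (J a) w = 0 → B b (J w) = B b' (J w) := fun w w1 w2 => by
      have w3 : B a (J w) = 0 := by rw [hU.adj', w2, neg_zero]
      have w4 : B (J a) (J w) = 0 := by rw [hU.sim, w1, mul_zero]
      simp [hb', hP, w3, w4]
    have other : ∀ e, e ≠ 0 → B e (J e) = 0 → B a e = 0 → B (J a) e = 0 →
        ∃ f, B f (J f) = 0 ∧ B a f = 0 ∧ B (J a) f = 0 ∧ B e (J f) ≠ 0 := by
      intro e he0 he ea ea'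
      obtain ⟨y₀, hy₀⟩ : ∃ y₀, B (J e) y₀ ≠ 0 := by
        by_contra! h
        have h1 : J e = 0 := hU.nd.1 _ h
        have h2 := hU.sq e
        rw [h1, map_zero] at h2
        exact he0 ((smul_eq_zero.1 h2.symm).resolve_left hε)
      obtain ⟨r1, r2⟩ := hPperp y₀
      set y := y₀ - P y₀ with hy
      have hey : B e (J y) ≠ 0 := by
        have w3 : B (J e) a = 0 := by rw [hU.adj, neg_eq_zero, hU.neg', ea', neg_zero]
        have w4 : B (J e) (J a) = 0 := by rw [hU.sim, hU.neg', ea, neg_zero, mul_zero]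
        rw [hU.adj', neg_ne_zero, hy, map_sub, hP, map_sub, map_smul, map_smul, w3, w4, smul_zero, smul_zero, sub_zero, sub_zero]
        exact hy₀
      refine ⟨y + (-(B y (J y)) / (2 * B e (J y))) • e, ?_, by simp [r1, ea], by simp [r2, ea'], ?_⟩
      · simp only [map_add, map_smul, LinearMap.add_apply, LinearMap.smul_apply, smul_eq_mul, hU.self_comm e y, he]
        have := hU.two
        field_simp
        ring
      · simp only [map_add, map_smul, he, smul_zero, add_zero]
        exact hey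
    by_cases hbN : B b' (J b') = 0
    · obtain ⟨f, hf, fa, fa', hne⟩ := other b' hb'0 hbN q1 q2
      exact ⟨f, hf, fa, fa', fun h => hne ((hbb f fa fa').symm.trans h.2)⟩
    let L : V →ₗ[F] (Fin 2 → F) := LinearMap.pi fun i => B (![a, J a] i)
    have hker : 3 ≤ finrank F (LinearMap.ker L) := by
      have h1 := LinearMap.finrank_range_add_finrank_ker L
      have h2 := Submodule.finrank_le (LinearMap.range L)
      rw [Module.finrank_fin_fun] at h2
      have := hU.dim
      omega
    obtain ⟨e, he0, hesing⟩ := Quad.exists_singular (Q.comp (LinearMap.ker L).subtype) hker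
    have he : B (e : V) (J e) = 0 := (hQ _).symm.trans hesing
    have ea : B a e = 0 := congrFun (LinearMap.mem_ker.1 e.2) 0
    have ea' : B (J a) e = 0 := congrFun (LinearMap.mem_ker.1 e.2) 1
    by_cases heb : B b (J (e : V)) = 0
    swap
    · exact ⟨e, he, ea, ea', fun h => heb h.2⟩
    obtain ⟨f, hf, fa, fa', hef⟩ := other e (fun h => he0 (Subtype.ext h)) he ea ea'
    by_cases hfb : B b (J f) = 0
    swap
    · exact ⟨f, hf, fa, fa', fun h => hfb h.2⟩
    rw [hbb _ ea ea'] at heb
    rw [hbb _ fa fa'] at hfb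
    set r := -(B b' (J b')) / (2 * B (e : V) (J f)) with hr
    have he' : B (e : V) (J b') = 0 := (hU.self_comm b' e).trans heb
    have hf' : B f (J b') = 0 := (hU.self_comm b' f).trans hfb
    have hB1 : B a ((e : V) + b' + r • f) = 0 := by simp [ea, q1, fa]
    have hB2 : B (J a) ((e : V) + b' + r • f) = 0 := by simp [ea', q2, fa']
    refine ⟨(e : V) + b' + r • f, ?_, hB1, hB2, fun h => hbN ?_⟩
    · simp only [map_add, map_smul, LinearMap.add_apply, LinearMap.smul_apply, smul_eq_mul, he, hf, heb, hfb, he', hf',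
        hU.self_comm (e : V) f, hr]
      have := hU.two
      field_simp
      ring
    · have h2 := h.2
      rw [hbb _ hB1 hB2] at h2
      simpa [heb, hfb] using h2
  -- normalise
  set m := B b d₁
  set n := B b (J d₁)
  have hden : n * n - ε * (m * m) ≠ 0 := fun h0 => by
    rcases eq_or_ne m 0 with hm | hm
    · exact hd₁b ⟨hm, mul_self_eq_zero.1 (by rw [hm] at h0; linear_combination h0)⟩
    · exact hU.nsq (n / m) (by field_simp; linear_combination h0)
  set d := (n / (n * n - ε * (m * m))) • d₁ + (-m / (n * n - ε * (m * m))) • J d₁ with hdd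
  have hdN : B d (J d) = 0 := by rw [hdd, hU.scal_norm, hd₁, mul_zero]
  have had : B a d = 0 := by simp [hdd, hd₁a, hU.adj' a d₁, hd₁a']
  have hJad : B (J a) d = 0 := by simp [hdd, hd₁a', hU.sim, hd₁a]
  have hbd : B b d = 0 := by
    simp only [hdd, map_add, map_smul, smul_eq_mul]
    field_simp
    ring
  have hbc : B b (J d) = 1 := by
    simp only [hdd, map_add, map_smul, hU.sq, smul_eq_mul]
    rw [div_mul_eq_mul_div, div_mul_eq_mul_div, ← add_div, div_eq_one_iff_eq hden]
    ring
  have hd0 : d ≠ 0 := fun h => by simp [h] at hbc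
  set c := J d with hc
  have hda : B d a = 0 := by rw [hU.neg', had, neg_zero]
  have hdb : B d b = 0 := by rw [hU.neg', hbd, neg_zero]
  have hac : B a c = 0 := by rw [hc, hU.adj', hJad, neg_zero]
  have hca : B c a = 0 := by rw [hU.neg', hac, neg_zero]
  have hcb : B c b = -1 := by rw [hU.neg', hbc]
  have hcd : B c d = 0 := by rw [hU.neg', hdN, neg_zero]
  -- the product of two commuting transvections
  have hz : ∀ s : F, s ≠ 0 → Alt.tv hU.alt a s * Alt.tv hU.alt d (-(ε * ε / s)) ∈ H := by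
    intro s hs
    set μ := -s / ε with hμd
    have hμ : μ ≠ 0 := div_ne_zero (neg_ne_zero.2 hs) hε
    set x := Alt.tv hU.alt a s * Alt.tv hU.alt b μ with hxd
    set y := Alt.tv hU.alt d (ε * ε / s) * Alt.tv hU.alt c μ⁻¹ with hyd
    have hxH : x ∈ H := hx s
    have hyH : y ∈ H := by
      have := hbase d hdN (ε * ε / s)
      rwa [show -(ε * ε / s) / ε = μ⁻¹ by rw [hμd]; field_simp] at this
    have hxi : x ∈ Alt.isoGroup B := mul_mem (Alt.tv_mem_isoGroup _ _ _) (Alt.tv_mem_isoGroup _ _ _)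
    have hyi : y ∈ Alt.isoGroup B := mul_mem (Alt.tv_mem_isoGroup _ _ _) (Alt.tv_mem_isoGroup _ _ _)
    have hw : x * y * x ∈ Alt.isoGroup B := mul_mem (mul_mem hxi hyi) hxi
    have e1 : (x * y * x) a = a := by
      simp [hxd, hyd, Alt.tv_apply, hU.alt a, hab, had, hac]
    have e2 : (x * y * x) b = μ⁻¹ • c := by
      simp [hxd, hyd, Alt.tv_apply, hU.alt b, hba, hbd, hbc, hca, hcb, hcd, hdb, hda]
      field_simp
      simp
    have h1 := mul_mem (mul_mem (mul_mem (mul_mem hxH hyH) hxH) hxH) (inv_mem (mul_mem (mul_mem hxH hyH) hxH))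
    rw [show (x * y * x) * x * (x * y * x)⁻¹ =
      ((x * y * x) * Alt.tv hU.alt a s * (x * y * x)⁻¹) * ((x * y * x) * Alt.tv hU.alt b μ * (x * y * x)⁻¹) by
        rw [hxd]; group, Alt.conj_tv hU.alt hw, Alt.conj_tv hU.alt hw, e1, e2, Alt.tv_smul] at h1
    have h2 := mul_mem h1 (inv_mem hyH)
    convert h2 using 1
    rw [eq_mul_inv_iff_mul_eq, hyd, show μ⁻¹ ^ 2 * μ = μ⁻¹ by field_simp]
    refine LinearEquiv.ext fun z => ?_
    simp only [LinearEquiv.mul_apply, Alt.tv_apply, map_add, map_smul, LinearMap.add_apply, LinearMap.smul_apply, smul_eq_mul,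
      hU.alt d, hcd, hda, hca]
    match_scalars <;> field_simp <;> ring
  -- conjugate by unitary maps fixing `a` and scaling the orthogonal of its line
  have hscal : ∀ p q : F, p * p - ε * (q * q) = 1 → ∀ t : F, t ≠ 0 →
      Alt.tv hU.alt (p • d + q • c) t * Alt.tv hU.alt d (-t) ∈ H := by
    intro p q hpq t ht
    let φ : V →ₗ[F] V := p • (LinearMap.id - P) + q • (J ∘ₗ (LinearMap.id - P)) + P
    have hφ : ∀ x, φ x = p • (x - P x) + q • J (x - P x) + P x := fun x => rfl
    have hφiso : ∀ x y, B (φ x) (φ y) = B x y := fun x y => by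
      have k : ∀ w z, B a z = 0 → B (J a) z = 0 → B (P w) z = 0 ∧ B z (P w) = 0 := fun w z k1 k2 => by
        have k' : B (P w) z = 0 := by simp [hP, k1, k2]
        exact ⟨k', by rw [hU.neg', k', neg_zero]⟩
      obtain ⟨x1, x2⟩ := hPperp x
      obtain ⟨y1, y2⟩ := hPperp y
      have x3 : B a (J (x - P x)) = 0 := by rw [hU.adj', x2, neg_zero]
      have x4 : B (J a) (J (x - P x)) = 0 := by rw [hU.sim, x1, mul_zero]
      have y3 : B a (J (y - P y)) = 0 := by rw [hU.adj', y2, neg_zero]
      have y4 : B (J a) (J (y - P y)) = 0 := by rw [hU.sim, y1, mul_zero]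
      have hx1 := k y _ x1 x2
      have hx2 := k y _ x3 x4
      have hy1 := k x _ y1 y2
      have hy2 := k x _ y3 y4
      have e := hU.scal_iso p q (x - P x) (y - P y)
      rw [hpq, one_mul] at e
      rw [hφ, hφ]
      conv_rhs => rw [show x = (x - P x) + P x by abel, show y = (y - P y) + P y by abel]
      set x' := x - P x
      set y' := y - P y
      rw [map_add B, LinearMap.add_apply, map_add (B (p • x' + q • J x')), map_add (B (P x)) _ (P y), e,
        map_add B x', LinearMap.add_apply, map_add (B x'), map_add (B (P x)) y']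
      simp [hx1.2, hx2.2, hy1.1, hy2.1]
    have hinj : Function.Injective φ := LinearMap.ker_eq_bot.1 (LinearMap.ker_eq_bot'.2 fun x hx => hU.nd.1 x fun y => by
      rw [← hφiso, hx, map_zero, LinearMap.zero_apply])
    set f := LinearEquiv.ofInjectiveEndo φ hinj
    have hfi : f ∈ Alt.isoGroup B := fun x y => hφiso x y
    have hfH : f ∈ H := hnorm f hfi fun v => by
      show φ (J v) = J (φ v)
      rw [hφ, hφ, hPJ, ← map_sub]
      simp only [map_add, map_smul]
    have fa : f a = a := by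
      show φ a = a
      have : P a = a := by rw [hP, hU.alt a, ← hNd, div_self haN, zero_div, one_smul, zero_smul, sub_zero]
      rw [hφ, this, sub_self, map_zero, smul_zero, smul_zero, zero_add, zero_add]
    have fd : f d = p • d + q • c := by
      show φ d = _
      have : P d = 0 := by
        rw [hP, hda, hU.neg' (J a) d, hJad, neg_zero, zero_div, zero_smul, zero_smul, sub_zero]
      rw [hφ, this, sub_zero, add_zero]
    have hs : -(ε * ε / t) ≠ 0 := neg_ne_zero.2 (div_ne_zero (mul_ne_zero hε hε) ht)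
    have h1 := hz _ hs
    rw [show -(ε * ε / -(ε * ε / t)) = t by field_simp] at h1
    have h2 := mul_mem (mul_mem hfH h1) (inv_mem hfH)
    rw [show f * (Alt.tv hU.alt a (-(ε * ε / t)) * Alt.tv hU.alt d t) * f⁻¹ =
      (f * Alt.tv hU.alt a (-(ε * ε / t)) * f⁻¹) * (f * Alt.tv hU.alt d t * f⁻¹) by group,
      Alt.conj_tv hU.alt hfi, Alt.conj_tv hU.alt hfi, fa, fd] at h2
    have h3 := mul_mem (inv_mem h1) h2
    rw [mul_inv_rev, mul_assoc, inv_mul_cancel_left, Alt.tv_inv] at h3
    convert h3 using 1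
    refine LinearEquiv.ext fun z => ?_
    have k1 : B (p • d + q • c) d = 0 := by simp [hU.alt d, hcd]
    have k2 : B d (p • d + q • c) = 0 := by rw [hU.neg', k1, neg_zero]
    simp only [LinearEquiv.mul_apply, Alt.tv_apply, map_add, map_smul, LinearMap.add_apply, LinearMap.smul_apply,
      smul_eq_mul, hU.alt d, hcd, hdN, mul_zero, zero_smul, add_zero]
    module
  refine ⟨d, hd0, hdN, fun k => ?_⟩
  rcases eq_or_ne k 0 with rfl | hk
  · rw [Alt.tv_zero]; exact one_mem H
  have h1ε : (1 : F) - ε ≠ 0 := fun h => hU.nsq 1 (by linear_combination h)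
  set p := (1 + ε) / (1 - ε) with hp
  set q := 2 / (1 - ε) with hq
  have hq0 : q ≠ 0 := div_ne_zero hU.two h1ε
  have hpq : p * p - ε * (q * q) = 1 := by rw [hp, hq]; field_simp; ring
  have hpq' : p * p - ε * (-q * -q) = 1 := by rw [neg_mul_neg]; exact hpq
  set t := k / (4 * ε * (q * q)) with ht_def
  have h4 : (4 : F) ≠ 0 := by rw [show (4 : F) = 2 * 2 by norm_num]; exact mul_ne_zero hU.two hU.two
  have hden' : 4 * ε * (q * q) ≠ 0 := mul_ne_zero (mul_ne_zero h4 hε) (mul_ne_zero hq0 hq0)
  have ht : t ≠ 0 := div_ne_zero hk hden'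
  have hk' : k = 4 * ε * (q * q) * t := by rw [ht_def]; field_simp
  have m1 := hscal p q hpq t ht
  have m2 := hscal p (-q) hpq' t ht
  have m3 := hbase d hdN (2 * ε * (q * q) * t)
  rw [← hc, show -(2 * ε * (q * q) * t) / ε = -(2 * (q * q) * t) by field_simp] at m3
  have hdc : B d c = 0 := hdN
  have h3 := mul_mem (mul_mem m1 m2) m3
  clear_value c d t p q
  convert h3 using 1
  rw [hk']
  refine LinearEquiv.ext fun z => ?_
  simp only [LinearEquiv.mul_apply, Alt.tv_apply, map_add, map_smul, map_neg, LinearMap.add_apply, LinearMap.smul_apply,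
    LinearMap.neg_apply, smul_eq_mul, hU.alt d, hU.alt c, hdc, hcd, mul_zero, zero_mul, add_zero, zero_add, zero_smul]
  match_scalars
  · ring
  · linear_combination -(2 * t * B z d) * hpq
  · ring

/-- in dimension six one centre gives all of them -/
theorem all_centres_six (hbase : ∀ u, B u (J u) = 0 → ∀ s : F, Alt.tv hU.alt u s * Alt.tv hU.alt (J u) (-s / ε) ∈ H)
    {e : V} (he0 : e ≠ 0) (he : B e (J e) = 0) (hc : e ∈ centres hU.alt H) : ∀ v, v ∈ centres hU.alt H := by
  have hε := hU.eps_ne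
  have step : ∀ {e z : V}, e ∈ centres hU.alt H → B e (J e) = 0 → B z (J z) = 0 → B e (J z) = 0 → B e z ≠ 0 →
      z ∈ centres hU.alt H := by
    intro e z hec he hz hJ hez
    have h1 := map_mem_centres hec (hbase z hz (B e z)⁻¹) (mul_mem (Alt.tv_mem_isoGroup _ _ _) (Alt.tv_mem_isoGroup _ _ _))
    have e1 : (Alt.tv hU.alt z (B e z)⁻¹ * Alt.tv hU.alt (J z) (-(B e z)⁻¹ / ε)) e = e + z := by
      simp [Alt.tv_apply, hJ, hez]
    rw [e1] at h1
    have h2 := add_smul_mem_centres h1 hec (by
      simp only [map_add, LinearMap.add_apply, hU.alt e, zero_add]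
      rw [hU.neg']
      exact neg_ne_zero.2 hez) (-1)
    rwa [neg_one_smul, add_neg_cancel_comm] at h2
  obtain ⟨f, hf, hfp, hef⟩ : ∃ f, B f (J f) = 0 ∧ B (J e) f = 0 ∧ B e f ≠ 0 := by
    obtain ⟨w, hw, hwp, hew⟩ := hU.isep ![J e] (by have := hU.dim; omega) (x := e) (fun hm => by
      obtain ⟨c, e'⟩ := (Submodule.mem_span_range_iff_exists_fun _).1 hm
      simp only [Fin.sum_univ_one, Matrix.cons_val_fin_one] at e'
      exact one_ne_zero (hU.kl_indep he0 (a := 1) (b := -c 0) (by linear_combination (norm := module) -e')).1)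
    exact ⟨w, hw, hwp 0, by rw [hew]; exact one_ne_zero⟩
  have hefJ : B e (J f) = 0 := by rw [hU.adj', hfp, neg_zero]
  have hfS : f ∈ centres hU.alt H := step hc he hf hefJ hef
  have hfe : f ∉ kl J e := fun h => hef (by
    obtain ⟨a, b, e'⟩ := Submodule.mem_span_pair.1 h
    rw [← e']; simp [hU.alt e, he])
  have hf0 : f ≠ 0 := fun h => hef (by rw [h, map_zero])
  -- two steps from a centre on another line
  have two_step : ∀ {w y : V}, w ∈ centres hU.alt H → w ≠ 0 → B w (J w) = 0 → B y (J y) = 0 → y ∉ kl J w →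
      y ∈ centres hU.alt H := by
    intro w y hwS hw0 hw hy hyw
    have hy0 : y ≠ 0 := fun h => hyw (h ▸ zero_mem _)
    obtain ⟨a, b, hy', hwy', hwy'', -⟩ := hU.phase hd hw0 hw hy hyw
    obtain ⟨a', b', hw', hyw', hyw'', -⟩ := hU.phase hd hy0 hy hw (fun h => hyw (hU.mem_kl_of_mem hw0 h))
    set y₁ := a • y + b • J y with hy₁
    set w₁ := a' • w + b' • J w with hw₁
    obtain ⟨n, hn, n1, n2, n3, n4⟩ := hU.fill hd hw0 hw hy0 hy hyw (-(B (w₁ + y₁) (J (w₁ + y₁))))
    have f1 : B w (J n) = 0 := by rw [hU.adj', n2, neg_zero]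
    have f2 : B y (J n) = 0 := by rw [hU.adj', n4, neg_zero]
    have f3 : B (J w) (J n) = 0 := by rw [hU.sim, n1, mul_zero]
    have f4 : B (J y) (J n) = 0 := by rw [hU.sim, n3, mul_zero]
    set x := w₁ + y₁
    have hxn : B x (J n) = 0 := by simp [x, hy₁, hw₁, f1, f2, f3, f4]
    set z := x + n
    have hz : B z (J z) = 0 := by
      simp only [z, map_add, LinearMap.add_apply, hn, hxn, (hU.self_comm x n).trans hxn, add_zero, zero_add]
      ring
    have i1 : B w (J w₁) = 0 := by simp [hw₁, hw, hU.sq, hU.alt w]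
    have i2 : B w w₁ = 0 := by simp [hw₁, hw, hU.alt w]
    have i3 : B y (J y₁) = 0 := by simp [hy₁, hy, hU.sq, hU.alt y]
    have i4 : B y y₁ = 0 := by simp [hy₁, hy, hU.alt y]
    have hzS : z ∈ centres hU.alt H := step hwS hw hz (by simp [z, x, i1, hwy', f1]) (by simpa [z, x, i2, n1] using hwy'')
    refine step hzS hz hy ?_ ?_
    · rw [hU.self_comm]
      simp [z, x, i3, hyw', f2]
    · rw [hU.neg', neg_ne_zero]
      simpa [z, x, i4, n3] using hyw''
  have hiso : ∀ y, B y (J y) = 0 → y ∈ centres hU.alt H := by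
    intro y hy
    by_cases hye : y ∈ kl J e
    · rcases eq_or_ne y 0 with rfl | hy0
      · exact zero_mem_centres
      refine two_step hfS hf0 hf hy fun h => hfe ?_
      obtain ⟨a, b, e'⟩ := Submodule.mem_span_pair.1 h
      refine hU.mem_of_comb (kl J e) (fun w hw => hU.kl_closed hw) (a := a) (b := b) (e' ▸ hye) ?_
      by_contra! h'
      exact hy0 (by rw [← e', h'.1, h'.2, zero_smul, zero_smul, add_zero])
    · exact two_step hc he0 he hy hye
  intro v
  rcases eq_or_ne v 0 with rfl | hv0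
  · exact zero_mem_centres
  obtain ⟨c, hc', hcp, hvc⟩ := hU.isep ![J v + v] (by have := hU.dim; omega) (x := v) (fun hm => by
    obtain ⟨c, e'⟩ := (Submodule.mem_span_range_iff_exists_fun _).1 hm
    simp only [Fin.sum_univ_one, Matrix.cons_val_fin_one] at e'
    obtain ⟨h1, h2⟩ := hU.kl_indep hv0 (a := c 0 - 1) (b := c 0) (by linear_combination (norm := module) e')
    rw [h2, zero_sub, neg_eq_zero] at h1
    exact one_ne_zero h1)
  have hvJ : B v (J c) = 1 := by
    have h1 : B (J v + v) c = 0 := hcp 0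
    rw [map_add, LinearMap.add_apply, hvc] at h1
    rw [hU.adj']
    linear_combination -h1
  set t := -(B v (J v)) / 2 with ht
  have hv' : v + t • c ∈ centres hU.alt H := hiso _ (by
    simp only [map_add, map_smul, LinearMap.add_apply, LinearMap.smul_apply, hc', hvJ, hU.self_comm v c, smul_eq_mul, ht]
    field_simp [hU.two]
    ring)
  have h1 := add_smul_mem_centres hv' (hiso c hc') (by
    simp only [map_add, map_smul, LinearMap.add_apply, LinearMap.smul_apply, hU.alt c, smul_zero, add_zero, hvc]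
    exact one_ne_zero) (-t)
  rwa [neg_smul, add_neg_cancel_right] at h1

end USp

end Cfsg.Agent.ClassicalMax.UnitSp
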